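import Cfsg.Agent.Chev54.E8Deg.Extra
import Cfsg.Agent.Chev54.E8Deg.Check0

/-!
Checks of the further certificates in type E8.
-/

set_option autoImplicit false

noncomputable section

namespace Cfsg.Agent.E8Deg54

open Cfsg.Lie Cfsg.Agent.RootMove54

/-- the highest root -/
abbrev zr : Rt chevE8 := 239

/-- `α₈` -/
abbrev a8 : Rt chevE8 := lv0.w0

/-- the positive roots other than `b` -/
def wo (b : Rt chevE8) : List (Rt chevE8) := pos.filter fun x => decide (x ≠ b)

set_option maxRecDepth 200000 in
theorem halfZ_check : halfZ.check = true := by decide +kernel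

theorem halfZ_shape : halfZ.a = a8 ∧ halfZ.c = zr ∧ halfZ.S = [] := by decide +kernel

theorem lv0_mem : a8 ∈ lv0.P ∧ zr ∈ lv0.P ∧ lv0.prior = [zr] ∧ lv0.path ≠ [] := by decide +kernel

set_option maxRecDepth 200000 in
theorem stab_cert : stab.all (fun e =>
    Ctx.stableB lv0.P e.2.1 && Ctx.stableB lv0.P e.2.2 &&
    (match ent chevE8 e.2.1 e.2.2 with | none => false | some (c, _) => decide (c = e.1)) &&
    (lv0.P.all fun x => match ent chevE8 e.2.1 x with | none => true | some (c, _) => decide (c ≠ a8)) &&
    (lv0.P.all fun x => match ent chevE8 e.2.2 x with | none => true | some (c, _) => decide (c ≠ a8)))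
    = true := by
  decide +kernel

set_option maxRecDepth 200000 in
theorem pos_cover :
    pos.all (fun s => decide (s ∈ lv0.P) || (decide (s ≠ a8) && decide (s ∈ stab.map Prod.fst))) = true := by
  decide +kernel

set_option maxRecDepth 200000 in
theorem base_split : Ctx.splitB (wo a8) (wo a8) [a8] = true ∧ a8 ∈ pos := by decide +kernel

set_option maxRecDepth 200000 in
theorem edge_cert : edges.all (fun e => e.1.check && e.2.check && decide (e.1.c = e.2.c) &&
    decide (e.1.S = e.2.S) &&
    (wo e.2.a).all (fun x => decide (x ∈ e.1.P)) && e.1.P.all (fun x => decide (x ∈ wo e.2.a)) &&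
    (wo e.1.a).all (fun x => decide (x ∈ e.2.P)) && e.2.P.all (fun x => decide (x ∈ wo e.1.a))) = true := by
  decide +kernel

set_option maxRecDepth 200000 in
theorem trans_cert : Ctx.stepsB (half28 ++ [zr]) [] zr [] trans28 = true ∧
    Ctx.splitB [] [zr] (trans28.map Prod.snd) = true ∧ trans28.map Prod.snd = half28 := by
  decide +kernel

/-- the conditions used for a level -/
def levOK (L : Lev chevE8) : Bool :=
  decide (L.w0 ∈ L.R) && L.prior.all (fun x => decide (x ∈ wo L.w0)) && decide (L.path ≠ [] ∨ L.R.length = 1)

set_option maxRecDepth 200000 in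
theorem lev_cert : [lv1, lv2, lv3, lv4, lv5, lv6, lv7].all levOK = true := by decide +kernel

set_option maxRecDepth 200000 in
theorem last_cert : (wo lv7.w0).all (fun x => decide (x ∈ lv7.prior)) &&
    lv7.prior.all (fun x => decide (x ∈ wo lv7.w0)) = true := by
  decide +kernel

end Cfsg.Agent.E8Deg54
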