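import Cfsg.Agent.Chev54.E8Deg.Data

/-!
The check of level 3 in type E8.
-/

set_option autoImplicit false

noncomputable section

namespace Cfsg.Agent.E8Deg54

open Cfsg.Lie Cfsg.Agent.RootMove54

set_option maxRecDepth 200000 in
theorem lv3_check : lv3.check = true := by decide +kernel

theorem lv3_fst : lv3.cells.map Prod.fst = lv3.R := by decide +kernel

end Cfsg.Agent.E8Deg54
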