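import Cfsg.Agent.Chev54.E8Deg.Recursion
import Cfsg.Agent.Lib.CharClifford.Central
import Cfsg.Agent.ChevGroup.Mat.OrderE8
import Mathlib.NumberTheory.LegendreSymbol.Complex

/-!
The least degree of a nontrivial irreducible representation in type E8.
-/

set_option autoImplicit false

noncomputable section

namespace Cfsg.Agent.E8Deg54

open Cfsg.Lie Cfsg.Agent.ChevCore Cfsg.Agent.KnownSimple.Steinberg Cfsg.Agent.RootMove54

universe u

variable {F : Type u} [Field F] [Fintype F] {k : ℕ}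

/-- the bound in type E8 -/
theorem bound (ρ : Representation ℂ ↥(chevE8.group F) (Fin k → ℂ)) (hρ : ρ.IsIrreducible) (hk : 2 ≤ k) :
    bnd (Fintype.card F) ≤ k := by
  classical
  by_contra hlt
  push Not at hlt
  let C : Ctx chevE8 F k :=
    ⟨sldE8, ρ, _, AddChar.FiniteField.primitiveChar_to_Complex_isPrimitive F⟩
  have h : Small C := ⟨hρ, hk, hlt⟩
  have hlow := h.lower
  haveI := hρ
  haveI : Finite ↥(chevE8.group F) := inferInstance
  have hd := Cfsg.Agent.CharClifford.finrank_dvd_card ρ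
  rw [Module.finrank_fin_fun, Cfsg.Agent.ChevGroup.TypeE8.card_group (F := F)
    (Cfsg.Agent.ChevGroup.torusFacts_of_good commGoodE8.toGood)
    (Cfsg.Agent.ChevGroup.relsOfCommGood commGoodE8 F) rfl] at hd
  have hq : IsPrimePow (Fintype.card F) := by
    obtain ⟨p, hp⟩ := CharP.exists F
    haveI := hp
    obtain ⟨n, hpp, hn⟩ := FiniteField.card F p
    exact (isPrimePow_nat_iff _).2 ⟨p, n, hpp, n.pos, hn.symm⟩
  obtain ⟨e, he1, he8, hke⟩ : ∃ e, 1 ≤ e ∧ e ≤ 8 ∧ k = bnd (Fintype.card F) - e :=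
    ⟨bnd (Fintype.card F) - k, by omega, by omega, by omega⟩
  exact dvd_cases hq he1 he8 (hke ▸ (by rw [ord']; exact hd))

end Cfsg.Agent.E8Deg54
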