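import Mathlib.Algebra.IsPrimePow
import Mathlib.Data.Nat.Prime.Pow
import Mathlib.Data.Int.GCD
import Mathlib.RingTheory.Int.Basic
import Mathlib.Tactic.Ring
import Mathlib.Tactic.LinearCombination
import Mathlib.Tactic.Positivity
import Mathlib.Tactic.NormNum
import Mathlib.Tactic.Linarith

/-!
Arithmetic for the degree bound of E8: the degrees just below the bound do not divide the group order.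
-/

set_option autoImplicit false

namespace Cfsg.Agent.E8Deg54

/-- the bound -/
def bnd (q : ℕ) : ℕ := q * (q ^ 12 + 1) * (q ^ 10 + 1) * (q ^ 6 + 1)

/-- the order, up to the centre -/
def ord' (q : ℕ) : ℕ :=
  q ^ 120 * (q ^ 2 - 1) * (q ^ 8 - 1) * (q ^ 12 - 1) * (q ^ 14 - 1) * (q ^ 18 - 1) * (q ^ 20 - 1) * (q ^ 24 - 1) * (q ^ 30 - 1)

theorem peel {d a s t L : ℤ} (h : s * d + t * a = L) (m : ℕ) : ∀ b : ℤ, d ∣ a ^ m * b → d ∣ L ^ m * b := by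
  induction m with
  | zero => intro b hb; simpa using hb
  | succ m ih =>
    intro b hb
    have h1 : d ∣ L ^ m * (a * b) := ih (a * b) (by rwa [pow_succ, mul_assoc] at hb)
    obtain ⟨c, hc⟩ := h1
    refine ⟨s * L ^ m * b + t * c, ?_⟩
    calc L ^ (m + 1) * b = (s * d + t * a) * (L ^ m * b) := by rw [h]; ring
      _ = _ := by linear_combination t * hc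

theorem peel_prime_pow {q : ℕ} (hq : IsPrimePow q) {d : ℤ} {c : ℤ} {r b : ℤ}
    (hd : d = c + (q : ℤ) * r) (hc : c ≠ 0) (hcq : c.natAbs < q) (h : d ∣ (q : ℤ) ^ 120 * b) :
    d ∣ c * b := by
  obtain ⟨p, n, hp, hn, rfl⟩ := (isPrimePow_nat_iff q).1 hq
  have hg : Int.gcd d (((p ^ n : ℕ) : ℤ) ^ 120) ∣ c.natAbs := by
    set g := Int.gcd d (((p ^ n : ℕ) : ℤ) ^ 120) with hgdef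
    have h1 : g ∣ p ^ (n * 120) := by
      have := Int.gcd_dvd_right d (((p ^ n : ℕ) : ℤ) ^ 120)
      rw [pow_mul]; exact_mod_cast this
    obtain ⟨j, -, hj⟩ := (Nat.dvd_prime_pow hp).1 h1
    have h2 : (g : ℤ) ∣ d := Int.gcd_dvd_left _ _
    rcases le_or_gt n j with hle | hlt
    · exfalso
      have h3 : ((p ^ n : ℕ) : ℤ) ∣ c := by
        have h4 : ((p ^ n : ℕ) : ℤ) ∣ d :=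
          dvd_trans (Int.natCast_dvd_natCast.2 (hj ▸ pow_dvd_pow p hle)) h2
        rw [hd] at h4
        exact (Int.dvd_add_left (dvd_mul_right _ _)).1 h4
      have := Nat.le_of_dvd (Int.natAbs_pos.2 hc) (Int.natCast_dvd.1 h3)
      omega
    · have h3 : (g : ℤ) ∣ ((p ^ n : ℕ) : ℤ) := Int.natCast_dvd_natCast.2 (hj ▸ pow_dvd_pow p hlt.le)
      exact Int.natCast_dvd.1 ((Int.dvd_add_left (h3.trans (dvd_mul_right _ r))).1 (hd ▸ h2))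
  have h5 : d ∣ (Int.gcd d (((p ^ n : ℕ) : ℤ) ^ 120) : ℤ) * b := by
    rw [Int.gcd_eq_gcd_ab, add_mul]
    refine dvd_add ((dvd_mul_right _ _).mul_right _) ?_
    rw [mul_comm (((p ^ n : ℕ) : ℤ) ^ 120) _, mul_assoc]
    exact h.mul_left _
  exact h5.trans (mul_dvd_mul_right (Int.natCast_dvd.2 hg) b)

theorem ord'_cast {q : ℕ} (hq : 1 ≤ q) : (ord' q : ℤ) = (q : ℤ) ^ 120 *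
    (((-1) + 1 * (q : ℤ) ^ 1) ^ 8 * (1 + 1 * (q : ℤ) ^ 1) ^ 8 * (1 + 1 * (q : ℤ) ^ 1 + 1 * (q : ℤ) ^ 2) ^ 4 * (1 + 1 * (q : ℤ) ^ 2) ^ 4 * (1 + 1 * (q : ℤ) ^ 1 + 1 * (q : ℤ) ^ 2 + 1 * (q : ℤ) ^ 3 + 1 * (q : ℤ) ^ 4) ^ 2 * (1 + (-1) * (q : ℤ) ^ 1 + 1 * (q : ℤ) ^ 2) ^ 4 * (1 + 1 * (q : ℤ) ^ 1 + 1 * (q : ℤ) ^ 2 + 1 * (q : ℤ) ^ 3 + 1 * (q : ℤ) ^ 4 + 1 * (q : ℤ) ^ 5 + 1 * (q : ℤ) ^ 6) ^ 1 * (1 + 1 * (q : ℤ) ^ 4) ^ 2 * (1 + 1 * (q : ℤ) ^ 3 + 1 * (q : ℤ) ^ 6) ^ 1 * (1 + (-1) * (q : ℤ) ^ 1 + 1 * (q : ℤ) ^ 2 + (-1) * (q : ℤ) ^ 3 + 1 * (q : ℤ) ^ 4) ^ 2 * (1 + (-1) * (q : ℤ) ^ 2 + 1 * (q : ℤ) ^ 4) ^ 2 * (1 + (-1) * (q : ℤ) ^ 1 + 1 * (q : ℤ) ^ 2 + (-1) * (q : ℤ) ^ 3 + 1 * (q : ℤ) ^ 4 + (-1) * (q : ℤ) ^ 5 + 1 *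 (q : ℤ) ^ 6) ^ 1 * (1 + (-1) * (q : ℤ) ^ 1 + 1 * (q : ℤ) ^ 3 + (-1) * (q : ℤ) ^ 4 + 1 * (q : ℤ) ^ 5 + (-1) * (q : ℤ) ^ 7 + 1 * (q : ℤ) ^ 8) ^ 1 * (1 + (-1) * (q : ℤ) ^ 3 + 1 * (q : ℤ) ^ 6) ^ 1 * (1 + (-1) * (q : ℤ) ^ 2 + 1 * (q : ℤ) ^ 4 + (-1) * (q : ℤ) ^ 6 + 1 * (q : ℤ) ^ 8) ^ 1 * (1 + (-1) * (q : ℤ) ^ 4 + 1 * (q : ℤ) ^ 8) ^ 1 * (1 + 1 * (q : ℤ) ^ 1 + (-1) * (q : ℤ) ^ 3 + (-1) * (q : ℤ) ^ 4 + (-1) * (q : ℤ) ^ 5 + 1 * (q : ℤ) ^ 7 + 1 * (q : ℤ) ^ 8) ^ 1) := by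
  simp only [ord', Nat.cast_mul, Nat.cast_sub (Nat.one_le_pow _ _ hq), Nat.cast_pow, Nat.cast_one]
  ring

theorem not_dvd_1 {q : ℕ} (hq : IsPrimePow q) (hq0 : 250 ≤ q) : ¬ (bnd q - 1) ∣ ord' q := by
  intro h
  have hle : 1 ≤ bnd q := by
    have h1 : 1 ≤ (q ^ 12 + 1) * (q ^ 10 + 1) * (q ^ 6 + 1) := Nat.one_le_iff_ne_zero.2 (by positivity)
    calc 1 ≤ q * 1 := by omega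
      _ ≤ _ := by rw [bnd, mul_assoc, mul_assoc, ← mul_assoc (q ^ 12 + 1)]; exact Nat.mul_le_mul_left _ h1
  have h' : ((bnd q - 1 : ℕ) : ℤ) ∣ (ord' q : ℤ) := Int.natCast_dvd_natCast.2 h
  rw [Nat.cast_sub hle, ord'_cast (by omega)] at h'
  simp only [bnd, Nat.cast_mul, Nat.cast_add, Nat.cast_pow, Nat.cast_one, Nat.cast_ofNat] at h'
  set x : ℤ := (q : ℤ) with hx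
  set k : ℤ := (-1) + 1 * x ^ 3 + 1 * x ^ 5 + 1 * x ^ 7 + 1 * x ^ 9 + 1 * x ^ 11 + 1 * x ^ 13 + (-1) * x ^ 16 + 1 * x ^ 19 + 1 * x ^ 20 + 1 * x ^ 21 with hk
  replace h' : k ∣ x ^ 120 * (((-1) + 1 * x ^ 1) ^ 8 * (1 + 1 * x ^ 1) ^ 8 * (1 + 1 * x ^ 1 + 1 * x ^ 2) ^ 4 * (1 + 1 * x ^ 2) ^ 4 * (1 + 1 * x ^ 1 + 1 * x ^ 2 + 1 * x ^ 3 + 1 * x ^ 4) ^ 2 * (1 + (-1) * x ^ 1 + 1 * x ^ 2) ^ 4 * (1 + 1 * x ^ 1 + 1 * x ^ 2 + 1 * x ^ 3 + 1 * x ^ 4 + 1 * x ^ 5 + 1 * x ^ 6) ^ 1 * (1 + 1 * x ^ 4) ^ 2 * (1 + 1 * x ^ 3 + 1 * x ^ 6) ^ 1 * (1 + (-1) * x ^ 1 + 1 * x ^ 2 + (-1) * x ^ 3 + 1 * x ^ 4) ^ 2 * (1 + (-1) * x ^ 2 + 1 * x ^ 4) ^ 2 * (1 + (-1) * x ^ 1 + 1 * x ^ 2 + (-1) * x ^ 3 + 1 * x ^ 4 + (-1) * x ^ 5 + 1 * x ^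 6) ^ 1 * (1 + (-1) * x ^ 1 + 1 * x ^ 3 + (-1) * x ^ 4 + 1 * x ^ 5 + (-1) * x ^ 7 + 1 * x ^ 8) ^ 1 * (1 + (-1) * x ^ 3 + 1 * x ^ 6) ^ 1 * (1 + (-1) * x ^ 2 + 1 * x ^ 4 + (-1) * x ^ 6 + 1 * x ^ 8) ^ 1 * (1 + (-1) * x ^ 4 + 1 * x ^ 8) ^ 1 * (1 + 1 * x ^ 1 + (-1) * x ^ 3 + (-1) * x ^ 4 + (-1) * x ^ 5 + 1 * x ^ 7 + 1 * x ^ 8) ^ 1) := by
    refine dvd_trans ⟨1 + (-1) * x ^ 1 + 1 * x ^ 3 + (-1) * x ^ 4 + 1 * x ^ 5 + (-1) * x ^ 7 + 1 * x ^ 8, ?_⟩ h'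
    rw [hk]; ring
  replace h' := peel_prime_pow hq (r := 1 * x ^ 2 + 1 * x ^ 4 + 1 * x ^ 6 + 1 * x ^ 8 + 1 * x ^ 10 + 1 * x ^ 12 + (-1) * x ^ 15 + 1 * x ^ 18 + 1 * x ^ 19 + 1 * x ^ 20) (c := -1) (by rw [hk]; ring) (by norm_num) (by norm_num; omega) h'
  simp only [← mul_assoc] at h'
  replace h' : k ∣ (7 : ℤ) ^ 8 * ((-1 : ℤ) * (1 + 1 * x ^ 1) ^ 8 * (1 + 1 * x ^ 1 + 1 * x ^ 2) ^ 4 * (1 + 1 * x ^ 2) ^ 4 * (1 + 1 * x ^ 1 + 1 * x ^ 2 + 1 * x ^ 3 + 1 * x ^ 4) ^ 2 * (1 + (-1) * x ^ 1 + 1 * x ^ 2) ^ 4 * (1 + 1 * x ^ 1 + 1 * x ^ 2 + 1 * x ^ 3 + 1 * x ^ 4 + 1 * x ^ 5 + 1 * x ^ 6) ^ 1 * (1 + 1 * x ^ 4) ^ 2 * (1 + 1 * x ^ 3 + 1 * x ^ 6) ^ 1 * (1 + (-1) * x ^ 1 + 1 * x ^ 2 + (-1) * x ^ 3 + 1 * x ^ 4) ^ 2 *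 (1 + (-1) * x ^ 2 + 1 * x ^ 4) ^ 2 * (1 + (-1) * x ^ 1 + 1 * x ^ 2 + (-1) * x ^ 3 + 1 * x ^ 4 + (-1) * x ^ 5 + 1 * x ^ 6) ^ 1 * (1 + (-1) * x ^ 1 + 1 * x ^ 3 + (-1) * x ^ 4 + 1 * x ^ 5 + (-1) * x ^ 7 + 1 * x ^ 8) ^ 1 * (1 + (-1) * x ^ 3 + 1 * x ^ 6) ^ 1 * (1 + (-1) * x ^ 2 + 1 * x ^ 4 + (-1) * x ^ 6 + 1 * x ^ 8) ^ 1 * (1 + (-1) * x ^ 4 + 1 * x ^ 8) ^ 1 * (1 + 1 * x ^ 1 + (-1) * x ^ 3 + (-1) * x ^ 4 + (-1) * x ^ 5 + 1 * x ^ 7 + 1 * x ^ 8) ^ 1) := by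
    refine peel (s := 1) (t := (-8) + (-8) * x ^ 1 + (-8) * x ^ 2 + (-7) * x ^ 3 + (-7) * x ^ 4 + (-6) * x ^ 5 + (-6) * x ^ 6 + (-5) * x ^ 7 + (-5) * x ^ 8 + (-4) * x ^ 9 + (-4) * x ^ 10 + (-3) * x ^ 11 + (-3) * x ^ 12 + (-2) * x ^ 13 + (-2) * x ^ 14 + (-2) * x ^ 15 + (-3) * x ^ 16 + (-3) * x ^ 17 + (-3) * x ^ 18 + (-2) * x ^ 19 + (-1) * x ^ 20) (a := (-1) + 1 * x ^ 1) (by rw [hk]; ring) 8 _ (h'.trans (dvd_of_eq ?_))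
    ring
  replace h' : k ∣ (9 : ℤ) ^ 8 * ((-1 : ℤ) * (7 : ℤ) ^ 8 * (1 + 1 * x ^ 1 + 1 * x ^ 2) ^ 4 * (1 + 1 * x ^ 2) ^ 4 * (1 + 1 * x ^ 1 + 1 * x ^ 2 + 1 * x ^ 3 + 1 * x ^ 4) ^ 2 * (1 + (-1) * x ^ 1 + 1 * x ^ 2) ^ 4 * (1 + 1 * x ^ 1 + 1 * x ^ 2 + 1 * x ^ 3 + 1 * x ^ 4 + 1 * x ^ 5 + 1 * x ^ 6) ^ 1 * (1 + 1 * x ^ 4) ^ 2 * (1 + 1 * x ^ 3 + 1 * x ^ 6) ^ 1 * (1 + (-1) * x ^ 1 + 1 * x ^ 2 + (-1) * x ^ 3 + 1 * x ^ 4) ^ 2 * (1 + (-1) * x ^ 2 + 1 * x ^ 4) ^ 2 * (1 + (-1) * x ^ 1 + 1 * x ^ 2 + (-1) * x ^ 3 + 1 * x ^ 4 + (-1) * x ^ 5 + 1 * x ^ 6) ^ 1 * (1 + (-1) * x ^ 1 + 1 * x ^ 3 + (-1) * x ^ 4 + 1 * x ^ 5 + (-1) * x ^ 7 + 1 * x ^ 8) ^ 1 * (1 + (-1) * x ^ 3 + 1 * x ^ 6) ^ 1 * (1 + (-1) * x ^ 2 + 1 * x ^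 4 + (-1) * x ^ 6 + 1 * x ^ 8) ^ 1 * (1 + (-1) * x ^ 4 + 1 * x ^ 8) ^ 1 * (1 + 1 * x ^ 1 + (-1) * x ^ 3 + (-1) * x ^ 4 + (-1) * x ^ 5 + 1 * x ^ 7 + 1 * x ^ 8) ^ 1) := by
    refine peel (s := (-1)) (t := 8 + (-8) * x ^ 1 + 8 * x ^ 2 + (-7) * x ^ 3 + 7 * x ^ 4 + (-6) * x ^ 5 + 6 * x ^ 6 + (-5) * x ^ 7 + 5 * x ^ 8 + (-4) * x ^ 9 + 4 * x ^ 10 + (-3) * x ^ 11 + 3 * x ^ 12 + (-2) * x ^ 13 + 2 * x ^ 14 + (-2) * x ^ 15 + 1 * x ^ 16 + (-1) * x ^ 17 + 1 * x ^ 18 + 1 * x ^ 20) (a := 1 + 1 * x ^ 1) (by rw [hk]; ring) 8 _ (h'.trans (dvd_of_eq ?_))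
    ring
  replace h' : k ∣ (1 : ℤ) ^ 4 * ((-1 : ℤ) * (7 : ℤ) ^ 8 * (9 : ℤ) ^ 8 * (1 + 1 * x ^ 2) ^ 4 * (1 + 1 * x ^ 1 + 1 * x ^ 2 + 1 * x ^ 3 + 1 * x ^ 4) ^ 2 * (1 + (-1) * x ^ 1 + 1 * x ^ 2) ^ 4 * (1 + 1 * x ^ 1 + 1 * x ^ 2 + 1 * x ^ 3 + 1 * x ^ 4 + 1 * x ^ 5 + 1 * x ^ 6) ^ 1 * (1 + 1 * x ^ 4) ^ 2 * (1 + 1 * x ^ 3 + 1 * x ^ 6) ^ 1 * (1 + (-1) * x ^ 1 + 1 * x ^ 2 + (-1) * x ^ 3 + 1 * x ^ 4) ^ 2 * (1 + (-1) * x ^ 2 + 1 * x ^ 4) ^ 2 * (1 + (-1) * x ^ 1 + 1 * x ^ 2 + (-1) * x ^ 3 + 1 * x ^ 4 + (-1) * x ^ 5 + 1 * x ^ 6) ^ 1 * (1 + (-1) * x ^ 1 + 1 * x ^ 3 + (-1) * x ^ 4 + 1 * x ^ 5 + (-1) * x ^ 7 + 1 * x ^ 8) ^ 1 * (1 + (-1) * x ^ 3 + 1 * x ^ 6) ^ 1 * (1 + (-1) * x ^ 2 + 1 * x ^ 4 + (-1) * x ^ 6 + 1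 * x ^ 8) ^ 1 * (1 + (-1) * x ^ 4 + 1 * x ^ 8) ^ 1 * (1 + 1 * x ^ 1 + (-1) * x ^ 3 + (-1) * x ^ 4 + (-1) * x ^ 5 + 1 * x ^ 7 + 1 * x ^ 8) ^ 1) := by
    refine peel (s := 1 * x ^ 1) (t := 1 + (-1) * x ^ 2 + 1 * x ^ 3 + (-1) * x ^ 4 + (-1) * x ^ 8 + 1 * x ^ 9 + (-1) * x ^ 10 + (-1) * x ^ 14 + 1 * x ^ 15 + (-1) * x ^ 20) (a := 1 + 1 * x ^ 1 + 1 * x ^ 2) (by rw [hk]; ring) 4 _ (h'.trans (dvd_of_eq ?_))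
    ring
  replace h' : k ∣ (1 : ℤ) ^ 4 * ((-1 : ℤ) * (7 : ℤ) ^ 8 * (9 : ℤ) ^ 8 * (1 : ℤ) ^ 4 * (1 + 1 * x ^ 1 + 1 * x ^ 2 + 1 * x ^ 3 + 1 * x ^ 4) ^ 2 * (1 + (-1) * x ^ 1 + 1 * x ^ 2) ^ 4 * (1 + 1 * x ^ 1 + 1 * x ^ 2 + 1 * x ^ 3 + 1 * x ^ 4 + 1 * x ^ 5 + 1 * x ^ 6) ^ 1 * (1 + 1 * x ^ 4) ^ 2 * (1 + 1 * x ^ 3 + 1 * x ^ 6) ^ 1 * (1 + (-1) * x ^ 1 + 1 * x ^ 2 + (-1) * x ^ 3 + 1 * x ^ 4) ^ 2 * (1 + (-1) * x ^ 2 + 1 * x ^ 4) ^ 2 * (1 + (-1) * x ^ 1 + 1 * x ^ 2 + (-1) * x ^ 3 + 1 * x ^ 4 + (-1) * x ^ 5 + 1 * x ^ 6) ^ 1 * (1 + (-1) * x ^ 1 + 1 * x ^ 3 + (-1) * x ^ 4 + 1 * x ^ 5 + (-1) * x ^ 7 + 1 * x ^ 8) ^ 1 * (1 + (-1) * x ^ 3 + 1 * x ^ 6) ^ 1 * (1 + (-1) * x ^ 2 + 1 * x ^ 4 + (-1) * x ^ 6 + 1 * x ^ 8)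 ^ 1 * (1 + (-1) * x ^ 4 + 1 * x ^ 8) ^ 1 * (1 + 1 * x ^ 1 + (-1) * x ^ 3 + (-1) * x ^ 4 + (-1) * x ^ 5 + 1 * x ^ 7 + 1 * x ^ 8) ^ 1) := by
    refine peel (s := (-1)) (t := 1 * x ^ 3 + 1 * x ^ 7 + 1 * x ^ 11 + (-1) * x ^ 16 + 1 * x ^ 18 + 1 * x ^ 19) (a := 1 + 1 * x ^ 2) (by rw [hk]; ring) 4 _ (h'.trans (dvd_of_eq ?_))
    ring
  replace h' : k ∣ (1 : ℤ) ^ 2 * ((-1 : ℤ) * (7 : ℤ) ^ 8 * (9 : ℤ) ^ 8 * (1 : ℤ) ^ 4 * (1 : ℤ) ^ 4 * (1 + (-1) * x ^ 1 + 1 * x ^ 2) ^ 4 * (1 + 1 * x ^ 1 + 1 * x ^ 2 + 1 * x ^ 3 + 1 * x ^ 4 + 1 * x ^ 5 + 1 * x ^ 6) ^ 1 * (1 + 1 * x ^ 4) ^ 2 * (1 + 1 * x ^ 3 + 1 * x ^ 6) ^ 1 * (1 + (-1) * x ^ 1 + 1 * x ^ 2 + (-1) * x ^ 3 + 1 * x ^ 4) ^ 2 * (1 + (-1) * x ^ 2 + 1 * x ^ 4) ^ 2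 * (1 + (-1) * x ^ 1 + 1 * x ^ 2 + (-1) * x ^ 3 + 1 * x ^ 4 + (-1) * x ^ 5 + 1 * x ^ 6) ^ 1 * (1 + (-1) * x ^ 1 + 1 * x ^ 3 + (-1) * x ^ 4 + 1 * x ^ 5 + (-1) * x ^ 7 + 1 * x ^ 8) ^ 1 * (1 + (-1) * x ^ 3 + 1 * x ^ 6) ^ 1 * (1 + (-1) * x ^ 2 + 1 * x ^ 4 + (-1) * x ^ 6 + 1 * x ^ 8) ^ 1 * (1 + (-1) * x ^ 4 + 1 * x ^ 8) ^ 1 * (1 + 1 * x ^ 1 + (-1) * x ^ 3 + (-1) * x ^ 4 + (-1) * x ^ 5 + 1 * x ^ 7 + 1 * x ^ 8) ^ 1) := by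
    refine peel (s := (-1) + (-1) * x ^ 3) (t := 1 * x ^ 5 + 1 * x ^ 10 + 1 * x ^ 20) (a := 1 + 1 * x ^ 1 + 1 * x ^ 2 + 1 * x ^ 3 + 1 * x ^ 4) (by rw [hk]; ring) 2 _ (h'.trans (dvd_of_eq ?_))
    ring
  replace h' : k ∣ (3 : ℤ) ^ 4 * ((-1 : ℤ) * (7 : ℤ) ^ 8 * (9 : ℤ) ^ 8 * (1 : ℤ) ^ 4 * (1 : ℤ) ^ 4 * (1 : ℤ) ^ 2 * (1 + 1 * x ^ 1 + 1 * x ^ 2 + 1 * x ^ 3 + 1 * x ^ 4 + 1 * x ^ 5 + 1 * x ^ 6) ^ 1 * (1 + 1 * x ^ 4) ^ 2 * (1 + 1 * x ^ 3 + 1 * x ^ 6) ^ 1 * (1 + (-1) * x ^ 1 + 1 * x ^ 2 + (-1) * x ^ 3 + 1 * x ^ 4) ^ 2 * (1 + (-1) * x ^ 2 + 1 * x ^ 4) ^ 2 * (1 + (-1) * x ^ 1 + 1 * x ^ 2 + (-1) * x ^ 3 + 1 * x ^ 4 + (-1) * x ^ 5 + 1 * x ^ 6) ^ 1 * (1 + (-1) * x ^ 1 + 1 * x ^ 3 + (-1) * x ^ 4 + 1 * x ^ 5 +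 (-1) * x ^ 7 + 1 * x ^ 8) ^ 1 * (1 + (-1) * x ^ 3 + 1 * x ^ 6) ^ 1 * (1 + (-1) * x ^ 2 + 1 * x ^ 4 + (-1) * x ^ 6 + 1 * x ^ 8) ^ 1 * (1 + (-1) * x ^ 4 + 1 * x ^ 8) ^ 1 * (1 + 1 * x ^ 1 + (-1) * x ^ 3 + (-1) * x ^ 4 + (-1) * x ^ 5 + 1 * x ^ 7 + 1 * x ^ 8) ^ 1) := by
    refine peel (s := (-1) * x ^ 1) (t := 3 + 2 * x ^ 1 + (-1) * x ^ 2 + (-3) * x ^ 3 + (-1) * x ^ 4 + 2 * x ^ 5 + 4 * x ^ 6 + 2 * x ^ 7 + (-1) * x ^ 8 + (-3) * x ^ 9 + (-1) * x ^ 10 + 2 * x ^ 11 + 4 * x ^ 12 + 2 * x ^ 13 + (-1) * x ^ 14 + (-3) * x ^ 15 + (-2) * x ^ 16 + 2 * x ^ 18 + 2 * x ^ 19 + 1 * x ^ 20) (a := 1 + (-1) * x ^ 1 + 1 * x ^ 2) (by rw [hk]; ring) 4 _ (h'.trans (dvd_of_eq ?_))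
    ring
  replace h' : k ∣ (7 : ℤ) ^ 1 * ((-1 : ℤ) * (7 : ℤ) ^ 8 * (9 : ℤ) ^ 8 * (1 : ℤ) ^ 4 * (1 : ℤ) ^ 4 * (1 : ℤ) ^ 2 * (3 : ℤ) ^ 4 * (1 + 1 * x ^ 4) ^ 2 * (1 + 1 * x ^ 3 + 1 * x ^ 6) ^ 1 * (1 + (-1) * x ^ 1 + 1 * x ^ 2 + (-1) * x ^ 3 + 1 * x ^ 4) ^ 2 * (1 + (-1) * x ^ 2 + 1 * x ^ 4) ^ 2 * (1 + (-1) * x ^ 1 + 1 * x ^ 2 + (-1) * x ^ 3 + 1 * x ^ 4 + (-1) * x ^ 5 + 1 * x ^ 6) ^ 1 * (1 + (-1) * x ^ 1 + 1 * x ^ 3 + (-1) * x ^ 4 + 1 * x ^ 5 + (-1) * x ^ 7 + 1 * x ^ 8) ^ 1 * (1 + (-1) * x ^ 3 + 1 * x ^ 6) ^ 1 * (1 + (-1) * x ^ 2 + 1 * x ^ 4 + (-1) * x ^ 6 + 1 * x ^ 8) ^ 1 * (1 + (-1) * x ^ 4 + 1 * x ^ 8) ^ 1 * (1 + 1 * x ^ 1 + (-1) * x ^ 3 + (-1) * x ^ 4 + (-1) * x ^ 5 + 1 * x ^ 7 + 1 * x ^ 8) ^ 1)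 := by
    refine peel (s := 1 + 2 * x ^ 1 + 3 * x ^ 2 + (-3) * x ^ 3 + 5 * x ^ 4 + (-1) * x ^ 5) (t := 8 + (-6) * x ^ 1 + 1 * x ^ 2 + (-7) * x ^ 3 + 7 * x ^ 4 + (-8) * x ^ 5 + 6 * x ^ 6 + (-2) * x ^ 7 + 5 * x ^ 8 + (-10) * x ^ 9 + 4 * x ^ 10 + (-4) * x ^ 11 + 3 * x ^ 12 + (-5) * x ^ 13 + 9 * x ^ 14 + (-5) * x ^ 15 + 3 * x ^ 16 + (-4) * x ^ 17 + 3 * x ^ 18 + (-5) * x ^ 19 + 1 * x ^ 20) (a := 1 + 1 * x ^ 1 + 1 * x ^ 2 + 1 * x ^ 3 + 1 * x ^ 4 + 1 * x ^ 5 + 1 * x ^ 6) (by rw [hk]; ring) 1 _ (h'.trans (dvd_of_eq ?_))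
    ring
  replace h' : k ∣ (1 : ℤ) ^ 2 * ((-1 : ℤ) * (7 : ℤ) ^ 8 * (9 : ℤ) ^ 8 * (1 : ℤ) ^ 4 * (1 : ℤ) ^ 4 * (1 : ℤ) ^ 2 * (3 : ℤ) ^ 4 * (7 : ℤ) ^ 1 * (1 + 1 * x ^ 3 + 1 * x ^ 6) ^ 1 * (1 + (-1) * x ^ 1 + 1 * x ^ 2 + (-1) * x ^ 3 + 1 * x ^ 4) ^ 2 * (1 + (-1) * x ^ 2 + 1 * x ^ 4) ^ 2 * (1 + (-1) * x ^ 1 + 1 * x ^ 2 + (-1) * x ^ 3 + 1 * x ^ 4 + (-1) * x ^ 5 + 1 * x ^ 6) ^ 1 * (1 + (-1) * x ^ 1 + 1 * x ^ 3 + (-1) * x ^ 4 + 1 * x ^ 5 + (-1) * x ^ 7 + 1 * x ^ 8) ^ 1 * (1 + (-1) * x ^ 3 + 1 * x ^ 6) ^ 1 * (1 + (-1) * x ^ 2 + 1 * x ^ 4 + (-1) * x ^ 6 + 1 * x ^ 8) ^ 1 * (1 + (-1) * x ^ 4 + 1 * x ^ 8) ^ 1 * (1 + 1 * x ^ 1 + (-1) * x ^ 3 + (-1) * x ^ 4 + (-1) * x ^ 5 + 1 * x ^ 7 + 1 * x ^ 8) ^ 1) := by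
    refine peel (s := (-3) + 2 * x ^ 1 + (-2) * x ^ 3) (t := (-2) + 2 * x ^ 1 + 1 * x ^ 3 + 1 * x ^ 5 + 2 * x ^ 7 + 2 * x ^ 9 + 1 * x ^ 11 + 1 * x ^ 13 + (-1) * x ^ 15 + (-1) * x ^ 16 + 1 * x ^ 17 + 2 * x ^ 19 + 2 * x ^ 20) (a := 1 + 1 * x ^ 4) (by rw [hk]; ring) 2 _ (h'.trans (dvd_of_eq ?_))
    ring
  replace h' : k ∣ (19 : ℤ) ^ 1 * ((-1 : ℤ) * (7 : ℤ) ^ 8 * (9 : ℤ) ^ 8 * (1 : ℤ) ^ 4 * (1 : ℤ) ^ 4 * (1 : ℤ) ^ 2 * (3 : ℤ) ^ 4 * (7 : ℤ) ^ 1 * (1 : ℤ) ^ 2 * (1 + (-1) * x ^ 1 + 1 * x ^ 2 + (-1) * x ^ 3 + 1 * x ^ 4) ^ 2 * (1 + (-1) * x ^ 2 + 1 * x ^ 4) ^ 2 * (1 + (-1) * x ^ 1 + 1 * x ^ 2 + (-1) * x ^ 3 + 1 * x ^ 4 + (-1) * x ^ 5 + 1 * x ^ 6) ^ 1 * (1 + (-1) * x ^ 1 + 1 * x ^ 3 + (-1) * x ^ 4 + 1 * x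 ^ 5 + (-1) * x ^ 7 + 1 * x ^ 8) ^ 1 * (1 + (-1) * x ^ 3 + 1 * x ^ 6) ^ 1 * (1 + (-1) * x ^ 2 + 1 * x ^ 4 + (-1) * x ^ 6 + 1 * x ^ 8) ^ 1 * (1 + (-1) * x ^ 4 + 1 * x ^ 8) ^ 1 * (1 + 1 * x ^ 1 + (-1) * x ^ 3 + (-1) * x ^ 4 + (-1) * x ^ 5 + 1 * x ^ 7 + 1 * x ^ 8) ^ 1) := by
    refine peel (s := (-12) + (-3) * x ^ 1 + 4 * x ^ 2 + (-11) * x ^ 3 + 2 * x ^ 4 + (-9) * x ^ 5) (t := 7 + (-3) * x ^ 1 + 4 * x ^ 2 + (-6) * x ^ 3 + 8 * x ^ 4 + (-5) * x ^ 5 + 13 * x ^ 6 + 1 * x ^ 7 + 24 * x ^ 8 + (-1) * x ^ 9 + 14 * x ^ 10 + (-13) * x ^ 11 + 11 * x ^ 12 + (-9) * x ^ 13 + 12 * x ^ 14 + (-16) * x ^ 15 + 3 * x ^ 16 + (-4) * x ^ 17 + 18 * x ^ 18 + 7 * x ^ 19 + 9 * x ^ 20) (a := 1 + 1 * x ^ 3 + 1 * x ^ 6) (by rw [hk];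 ring) 1 _ (h'.trans (dvd_of_eq ?_))
    ring
  replace h' : k ∣ (1 : ℤ) ^ 2 * ((-1 : ℤ) * (7 : ℤ) ^ 8 * (9 : ℤ) ^ 8 * (1 : ℤ) ^ 4 * (1 : ℤ) ^ 4 * (1 : ℤ) ^ 2 * (3 : ℤ) ^ 4 * (7 : ℤ) ^ 1 * (1 : ℤ) ^ 2 * (19 : ℤ) ^ 1 * (1 + (-1) * x ^ 2 + 1 * x ^ 4) ^ 2 * (1 + (-1) * x ^ 1 + 1 * x ^ 2 + (-1) * x ^ 3 + 1 * x ^ 4 + (-1) * x ^ 5 + 1 * x ^ 6) ^ 1 * (1 + (-1) * x ^ 1 + 1 * x ^ 3 + (-1) * x ^ 4 + 1 * x ^ 5 + (-1) * x ^ 7 + 1 * x ^ 8) ^ 1 * (1 + (-1) * x ^ 3 + 1 * x ^ 6) ^ 1 * (1 + (-1) * x ^ 2 + 1 * x ^ 4 + (-1) * x ^ 6 + 1 * x ^ 8) ^ 1 * (1 + (-1) * x ^ 4 + 1 * x ^ 8) ^ 1 * (1 + 1 * x ^ 1 + (-1) * x ^ 3 + (-1) * x ^ 4 + (-1) * x ^ 5 + 1 * x ^ 7 + 1 * x ^ 8) ^ 1) := by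
    refine peel (s := 1 + (-2) * x ^ 1 + 2 * x ^ 2 + (-1) * x ^ 3) (t := 2 + (-3) * x ^ 5 + 3 * x ^ 10 + (-2) * x ^ 15 + 1 * x ^ 20) (a := 1 + (-1) * x ^ 1 + 1 * x ^ 2 + (-1) * x ^ 3 + 1 * x ^ 4) (by rw [hk]; ring) 2 _ (h'.trans (dvd_of_eq ?_))
    ring
  replace h' : k ∣ (1 : ℤ) ^ 2 * ((-1 : ℤ) * (7 : ℤ) ^ 8 * (9 : ℤ) ^ 8 * (1 : ℤ) ^ 4 * (1 : ℤ) ^ 4 * (1 : ℤ) ^ 2 * (3 : ℤ) ^ 4 * (7 : ℤ) ^ 1 * (1 : ℤ) ^ 2 * (19 : ℤ) ^ 1 * (1 : ℤ) ^ 2 * (1 + (-1) * x ^ 1 + 1 * x ^ 2 + (-1) * x ^ 3 + 1 * x ^ 4 + (-1) * x ^ 5 + 1 * x ^ 6) ^ 1 * (1 + (-1) * x ^ 1 + 1 * x ^ 3 + (-1) * x ^ 4 + 1 * x ^ 5 + (-1) * x ^ 7 + 1 * x ^ 8) ^ 1 * (1 + (-1) * x ^ 3 + 1 * x ^ 6) ^ 1 * (1 + (-1) * x ^ 2 + 1 * x ^ 4 + (-1) * x ^ 6 +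 1 * x ^ 8) ^ 1 * (1 + (-1) * x ^ 4 + 1 * x ^ 8) ^ 1 * (1 + 1 * x ^ 1 + (-1) * x ^ 3 + (-1) * x ^ 4 + (-1) * x ^ 5 + 1 * x ^ 7 + 1 * x ^ 8) ^ 1) := by
    refine peel (s := (-2) + 1 * x ^ 1 + 2 * x ^ 2 + (-2) * x ^ 3) (t := (-1) + 1 * x ^ 1 + 1 * x ^ 2 + 1 * x ^ 3 + 1 * x ^ 4 + 1 * x ^ 6 + (-1) * x ^ 7 + 1 * x ^ 8 + (-1) * x ^ 9 + 1 * x ^ 10 + 1 * x ^ 12 + 1 * x ^ 13 + 1 * x ^ 14 + (-1) * x ^ 15 + (-1) * x ^ 17 + 1 * x ^ 18 + 2 * x ^ 20) (a := 1 + (-1) * x ^ 2 + 1 * x ^ 4) (by rw [hk]; ring) 2 _ (h'.trans (dvd_of_eq ?_))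
    ring
  replace h' : k ∣ (1 : ℤ) ^ 1 * ((-1 : ℤ) * (7 : ℤ) ^ 8 * (9 : ℤ) ^ 8 * (1 : ℤ) ^ 4 * (1 : ℤ) ^ 4 * (1 : ℤ) ^ 2 * (3 : ℤ) ^ 4 * (7 : ℤ) ^ 1 * (1 : ℤ) ^ 2 * (19 : ℤ) ^ 1 * (1 : ℤ) ^ 2 * (1 : ℤ) ^ 2 * (1 + (-1) * x ^ 1 + 1 * x ^ 3 + (-1) * x ^ 4 + 1 * x ^ 5 + (-1) * x ^ 7 + 1 * x ^ 8) ^ 1 * (1 + (-1) * x ^ 3 + 1 * x ^ 6) ^ 1 * (1 + (-1) * x ^ 2 + 1 * x ^ 4 + (-1) * x ^ 6 + 1 * x ^ 8) ^ 1 * (1 + (-1) * x ^ 4 + 1 * x ^ 8) ^ 1 * (1 + 1 * x ^ 1 + (-1) * x ^ 3 + (-1) * x ^ 4 + (-1) * x ^ 5 + 1 * x ^ 7 + 1 * x ^ 8) ^ 1) := by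
    refine peel (s := (-1) + 1 * x ^ 2 + (-1) * x ^ 3 + 1 * x ^ 4 + (-1) * x ^ 5) (t := 1 * x ^ 2 + 1 * x ^ 3 + 1 * x ^ 4 + 1 * x ^ 8 + 1 * x ^ 12 + 1 * x ^ 13 + 1 * x ^ 14 + (-1) * x ^ 15 + (-1) * x ^ 16 + 1 * x ^ 18 + 1 * x ^ 19 + 1 * x ^ 20) (a := 1 + (-1) * x ^ 1 + 1 * x ^ 2 + (-1) * x ^ 3 + 1 * x ^ 4 + (-1) * x ^ 5 + 1 * x ^ 6) (by rw [hk]; ring) 1 _ (h'.trans (dvd_of_eq ?_))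
    ring
  replace h' : k ∣ (30841 : ℤ) ^ 1 * ((-1 : ℤ) * (7 : ℤ) ^ 8 * (9 : ℤ) ^ 8 * (1 : ℤ) ^ 4 * (1 : ℤ) ^ 4 * (1 : ℤ) ^ 2 * (3 : ℤ) ^ 4 * (7 : ℤ) ^ 1 * (1 : ℤ) ^ 2 * (19 : ℤ) ^ 1 * (1 : ℤ) ^ 2 * (1 : ℤ) ^ 2 * (1 : ℤ) ^ 1 * (1 + (-1) * x ^ 3 + 1 * x ^ 6) ^ 1 * (1 + (-1) * x ^ 2 + 1 * x ^ 4 + (-1) * x ^ 6 + 1 * x ^ 8) ^ 1 * (1 + (-1) * x ^ 4 + 1 * x ^ 8) ^ 1 * (1 + 1 * x ^ 1 + (-1) * x ^ 3 + (-1) * x ^ 4 + (-1) * x ^ 5 + 1 * x ^ 7 + 1 * x ^ 8) ^ 1) := by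
    refine peel (s := (-9496) + 1089 * x ^ 1 + 5904 * x ^ 2 + (-7309) * x ^ 3 + 1476 * x ^ 4 + (-1239) * x ^ 5 + (-600) * x ^ 6 + (-129) * x ^ 7) (t := 21345 + 22434 * x ^ 1 + 28338 * x ^ 2 + 9180 * x ^ 3 + 8478 * x ^ 4 + (-16418) * x ^ 5 + (-14074) * x ^ 6 + (-18378) * x ^ 7 + 5886 * x ^ 8 + 3684 * x ^ 9 + 12836 * x ^ 10 + 4660 * x ^ 11 + 7932 * x ^ 12 + (-2046) * x ^ 13 + 5730 * x ^ 14 + 7106 * x ^ 15 + 9403 * x ^ 16 + 3060 * x ^ 17 + 2826 * x ^ 18 + 858 * x ^ 19 + 129 * x ^ 20) (a := 1 + (-1) * x ^ 1 + 1 * x ^ 3 + (-1) * x ^ 4 + 1 * x ^ 5 + (-1) * x ^ 7 + 1 * x ^ 8) (by rw [hk]; ring) 1 _ (h'.trans (dvd_of_eq ?_))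
    ring
  replace h' : k ∣ (3 : ℤ) ^ 1 * ((-1 : ℤ) * (7 : ℤ) ^ 8 * (9 : ℤ) ^ 8 * (1 : ℤ) ^ 4 * (1 : ℤ) ^ 4 * (1 : ℤ) ^ 2 * (3 : ℤ) ^ 4 * (7 : ℤ) ^ 1 * (1 : ℤ) ^ 2 * (19 : ℤ) ^ 1 * (1 : ℤ) ^ 2 * (1 : ℤ) ^ 2 * (1 : ℤ) ^ 1 * (30841 : ℤ) ^ 1 * (1 + (-1) * x ^ 2 + 1 * x ^ 4 + (-1) * x ^ 6 + 1 * x ^ 8) ^ 1 * (1 + (-1) * x ^ 4 + 1 * x ^ 8) ^ 1 * (1 + 1 * x ^ 1 + (-1) * x ^ 3 + (-1) * x ^ 4 + (-1) * x ^ 5 + 1 * x ^ 7 + 1 * x ^ 8) ^ 1) := by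
    refine peel (s := (-1) * x ^ 1 + 2 * x ^ 2 + (-3) * x ^ 3 + 2 * x ^ 4 + (-1) * x ^ 5) (t := 3 + (-1) * x ^ 1 + 2 * x ^ 2 + 2 * x ^ 4 + (-1) * x ^ 5 + 1 * x ^ 6 + (-1) * x ^ 7 + 2 * x ^ 8 + (-3) * x ^ 9 + 2 * x ^ 10 + (-1) * x ^ 11 + 1 * x ^ 12 + (-1) * x ^ 13 + 2 * x ^ 14 + 1 * x ^ 16 + 2 * x ^ 18 + (-1) * x ^ 19 + 1 * x ^ 20) (a := 1 + (-1) * x ^ 3 + 1 * x ^ 6) (by rw [hk]; ring) 1 _ (h'.trans (dvd_of_eq ?_))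
    ring
  replace h' : k ∣ (1 : ℤ) ^ 1 * ((-1 : ℤ) * (7 : ℤ) ^ 8 * (9 : ℤ) ^ 8 * (1 : ℤ) ^ 4 * (1 : ℤ) ^ 4 * (1 : ℤ) ^ 2 * (3 : ℤ) ^ 4 * (7 : ℤ) ^ 1 * (1 : ℤ) ^ 2 * (19 : ℤ) ^ 1 * (1 : ℤ) ^ 2 * (1 : ℤ) ^ 2 * (1 : ℤ) ^ 1 * (30841 : ℤ) ^ 1 * (3 : ℤ) ^ 1 * (1 + (-1) * x ^ 4 + 1 * x ^ 8) ^ 1 * (1 + 1 * x ^ 1 + (-1) * x ^ 3 + (-1) * x ^ 4 + (-1) * x ^ 5 + 1 * x ^ 7 + 1 * x ^ 8) ^ 1) := by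
    refine peel (s := 1 * x ^ 1 + (-1) * x ^ 2 + (-1) * x ^ 3 + 2 * x ^ 4 + (-1) * x ^ 5 + (-1) * x ^ 6 + 1 * x ^ 7) (t := 1 + 1 * x ^ 1 + (-1) * x ^ 5 + (-1) * x ^ 11 + 1 * x ^ 15 + 1 * x ^ 16 + (-1) * x ^ 20) (a := 1 + (-1) * x ^ 2 + 1 * x ^ 4 + (-1) * x ^ 6 + 1 * x ^ 8) (by rw [hk]; ring) 1 _ (h'.trans (dvd_of_eq ?_))
    ring
  replace h' : k ∣ (1 : ℤ) ^ 1 * ((-1 : ℤ) * (7 : ℤ) ^ 8 * (9 : ℤ) ^ 8 * (1 : ℤ) ^ 4 * (1 : ℤ) ^ 4 * (1 : ℤ) ^ 2 * (3 : ℤ) ^ 4 * (7 : ℤ) ^ 1 * (1 : ℤ) ^ 2 * (19 : ℤ) ^ 1 * (1 : ℤ) ^ 2 * (1 : ℤ) ^ 2 * (1 : ℤ) ^ 1 * (30841 : ℤ) ^ 1 * (3 : ℤ) ^ 1 * (1 : ℤ) ^ 1 * (1 + 1 * x ^ 1 + (-1) * x ^ 3 + (-1) * x ^ 4 + (-1) * x ^ 5 + 1 * x ^ 7 + 1 * x ^ 8) ^ 1) := by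
    refine peel (s := 1 * x ^ 1 + (-1) * x ^ 3 + (-1) * x ^ 5 + 1 * x ^ 7) (t := 1 + 1 * x ^ 1 + (-1) * x ^ 3 + (-1) * x ^ 9 + 1 * x ^ 11 + (-1) * x ^ 13 + 1 * x ^ 15 + 1 * x ^ 16 + 1 * x ^ 17 + (-1) * x ^ 19 + (-1) * x ^ 20) (a := 1 + (-1) * x ^ 4 + 1 * x ^ 8) (by rw [hk]; ring) 1 _ (h'.trans (dvd_of_eq ?_))
    ring
  replace h' : k ∣ (1 : ℤ) ^ 1 * ((-1 : ℤ) * (7 : ℤ) ^ 8 * (9 : ℤ) ^ 8 * (1 : ℤ) ^ 4 * (1 : ℤ) ^ 4 * (1 : ℤ) ^ 2 * (3 : ℤ) ^ 4 * (7 : ℤ) ^ 1 * (1 : ℤ) ^ 2 * (19 : ℤ) ^ 1 * (1 : ℤ) ^ 2 * (1 : ℤ) ^ 2 * (1 : ℤ) ^ 1 * (30841 : ℤ) ^ 1 * (3 : ℤ) ^ 1 * (1 : ℤ) ^ 1 * (1 : ℤ) ^ 1) := by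
    refine peel (s := 1 * x ^ 1 + (-1) * x ^ 3 + (-1) * x ^ 5 + 1 * x ^ 7) (t := 1 + 1 * x ^ 16 + (-1) * x ^ 20) (a := 1 + 1 * x ^ 1 + (-1) * x ^ 3 + (-1) * x ^ 4 + (-1) * x ^ 5 + 1 * x ^ 7 + 1 * x ^ 8) (by rw [hk]; ring) 1 _ (h'.trans (dvd_of_eq ?_))
    ring
  have hpos : (0 : ℤ) < k ∧ (247349343217114251388359 : ℤ) < k := by
    obtain ⟨w, hw⟩ : ∃ w : ℕ, q = w + 250 := ⟨q - 250, by omega⟩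
    have e1 : 1 * k = x ^ 21 + (913132680347189322114229206085266114257828124999 + 73036062516272068798552513259889404316406437500 * (w : ℤ) ^ 1 + 2774817402958869952678890230468770507968750750 * (w : ℤ) ^ 2 + 66582346326708793912890090962890761719375001 * (w : ℤ) ^ 3 + 1131674274693727496013661499146484921876250 * (w : ℤ) ^ 4 + 14482542871387481709091299316898438812501 * (w : ℤ) ^ 5 + 144796550266258239850830529298187501750 * (w : ℤ) ^ 6 + 1158141374544372559012696601564750001 * (w : ℤ) ^ 7 + 7526417255205230714147463515627250 * (w : ℤ) ^ 8 + 40132883071201171877792972187501 * (w : ℤ) ^ 9 + 176549446104001953129468752750 * (w : ℤ) ^ 10 + 641869842525031250004875001 * (w : ℤ) ^ 11 + 1925225097649140625003250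 * (w : ℤ) ^ 12 + 4738069335928750000001 * (w : ℤ) ^ 13 + 9474246093742500000 * (w : ℤ) ^ 14 + 15155765624996000 * (w : ℤ) ^ 15 + 18940921874999 * (w : ℤ) ^ 16 + 17823187500 * (w : ℤ) ^ 17 + 11879750 * (w : ℤ) ^ 18 + 5001 * (w : ℤ) ^ 19 + 1 * (w : ℤ) ^ 20) := by
      rw [hk, hx, hw]; push_cast; ring
    have e2 : (250 : ℤ) ^ 21 ≤ x ^ 21 := pow_le_pow_left₀ (by norm_num) (by rw [hx]; exact_mod_cast hq0) _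
    have e3 : (0 : ℤ) ≤ 913132680347189322114229206085266114257828124999 + 73036062516272068798552513259889404316406437500 * (w : ℤ) ^ 1 + 2774817402958869952678890230468770507968750750 * (w : ℤ) ^ 2 + 66582346326708793912890090962890761719375001 * (w : ℤ) ^ 3 + 1131674274693727496013661499146484921876250 * (w : ℤ) ^ 4 + 14482542871387481709091299316898438812501 * (w : ℤ) ^ 5 + 144796550266258239850830529298187501750 * (w : ℤ) ^ 6 + 1158141374544372559012696601564750001 * (w : ℤ) ^ 7 + 7526417255205230714147463515627250 * (w : ℤ) ^ 8 + 40132883071201171877792972187501 * (w : ℤ) ^ 9 + 176549446104001953129468752750 * (w : ℤ) ^ 10 + 641869842525031250004875001 * (w : ℤ) ^ 11 + 1925225097649140625003250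 * (w : ℤ) ^ 12 + 4738069335928750000001 * (w : ℤ) ^ 13 + 9474246093742500000 * (w : ℤ) ^ 14 + 15155765624996000 * (w : ℤ) ^ 15 + 18940921874999 * (w : ℤ) ^ 16 + 17823187500 * (w : ℤ) ^ 17 + 11879750 * (w : ℤ) ^ 18 + 5001 * (w : ℤ) ^ 19 + 1 * (w : ℤ) ^ 20 := by positivity
    norm_num at e2
    constructor <;> linarith
  have := Int.le_of_dvd (by norm_num) (dvd_abs _ _ |>.2 h')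
  norm_num at this
  linarith [hpos.1, hpos.2]

theorem not_dvd_2 {q : ℕ} (hq : IsPrimePow q) (hq0 : 250 ≤ q) : ¬ (bnd q - 2) ∣ ord' q := by
  intro h
  have hle : 2 ≤ bnd q := by
    have h1 : 1 ≤ (q ^ 12 + 1) * (q ^ 10 + 1) * (q ^ 6 + 1) := Nat.one_le_iff_ne_zero.2 (by positivity)
    calc 2 ≤ q * 1 := by omega
      _ ≤ _ := by rw [bnd, mul_assoc, mul_assoc, ← mul_assoc (q ^ 12 + 1)]; exact Nat.mul_le_mul_left _ h1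
  have h' : ((bnd q - 2 : ℕ) : ℤ) ∣ (ord' q : ℤ) := Int.natCast_dvd_natCast.2 h
  rw [Nat.cast_sub hle, ord'_cast (by omega)] at h'
  simp only [bnd, Nat.cast_mul, Nat.cast_add, Nat.cast_pow, Nat.cast_one, Nat.cast_ofNat] at h'
  set x : ℤ := (q : ℤ) with hx
  set k : ℤ := (-2) + (-1) * x ^ 1 + 1 * x ^ 2 + 2 * x ^ 5 + 1 * x ^ 6 + 1 * x ^ 8 + (-2) * x ^ 10 + 1 * x ^ 12 + 1 * x ^ 14 + 2 * x ^ 15 + 1 * x ^ 18 + (-1) * x ^ 20 + 1 * x ^ 24 + 1 * x ^ 25 with hk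
  replace h' : k ∣ x ^ 120 * (((-1) + 1 * x ^ 1) ^ 8 * (1 + 1 * x ^ 1) ^ 8 * (1 + 1 * x ^ 1 + 1 * x ^ 2) ^ 4 * (1 + 1 * x ^ 2) ^ 4 * (1 + 1 * x ^ 1 + 1 * x ^ 2 + 1 * x ^ 3 + 1 * x ^ 4) ^ 2 * (1 + (-1) * x ^ 1 + 1 * x ^ 2) ^ 4 * (1 + 1 * x ^ 1 + 1 * x ^ 2 + 1 * x ^ 3 + 1 * x ^ 4 + 1 * x ^ 5 + 1 * x ^ 6) ^ 1 * (1 + 1 * x ^ 4) ^ 2 * (1 + 1 * x ^ 3 + 1 * x ^ 6) ^ 1 * (1 + (-1) * x ^ 1 + 1 * x ^ 2 + (-1) * x ^ 3 + 1 * x ^ 4) ^ 2 * (1 + (-1) * x ^ 2 + 1 * x ^ 4) ^ 2 * (1 + (-1) * x ^ 1 + 1 * x ^ 2 + (-1) * x ^ 3 + 1 * x ^ 4 + (-1) * x ^ 5 + 1 * x ^ 6) ^ 1 * (1 + (-1) * x ^ 1 + 1 * x ^ 3 + (-1) * x ^ 4 + 1 * x ^ 5 + (-1) * x ^ 7 + 1 * x ^ 8) ^ 1 * (1 + (-1) * x ^ 3 + 1 * x ^ 6) ^ 1 * (1 + (-1) * x ^ 2 +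 1 * x ^ 4 + (-1) * x ^ 6 + 1 * x ^ 8) ^ 1 * (1 + (-1) * x ^ 4 + 1 * x ^ 8) ^ 1 * (1 + 1 * x ^ 1 + (-1) * x ^ 3 + (-1) * x ^ 4 + (-1) * x ^ 5 + 1 * x ^ 7 + 1 * x ^ 8) ^ 1) := by
    refine dvd_trans ⟨1 + (-1) * x ^ 1 + 1 * x ^ 2 + (-1) * x ^ 3 + 1 * x ^ 4, ?_⟩ h'
    rw [hk]; ring
  replace h' := peel_prime_pow hq (r := (-1) + 1 * x ^ 1 + 2 * x ^ 4 + 1 * x ^ 5 + 1 * x ^ 7 + (-2) * x ^ 9 + 1 * x ^ 11 + 1 * x ^ 13 + 2 * x ^ 14 + 1 * x ^ 17 + (-1) * x ^ 19 + 1 * x ^ 23 + 1 * x ^ 24) (c := -2) (by rw [hk]; ring) (by norm_num) (by norm_num; omega) h'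
  simp only [← mul_assoc] at h'
  replace h' : k ∣ (6 : ℤ) ^ 8 * ((-2 : ℤ) * (1 + 1 * x ^ 1) ^ 8 * (1 + 1 * x ^ 1 + 1 * x ^ 2) ^ 4 * (1 + 1 * x ^ 2) ^ 4 * (1 + 1 * x ^ 1 + 1 * x ^ 2 + 1 * x ^ 3 + 1 * x ^ 4) ^ 2 * (1 + (-1) * x ^ 1 + 1 * x ^ 2) ^ 4 * (1 + 1 * x ^ 1 + 1 * x ^ 2 + 1 * x ^ 3 + 1 * x ^ 4 + 1 * x ^ 5 + 1 * x ^ 6) ^ 1 * (1 + 1 * x ^ 4) ^ 2 * (1 + 1 * x ^ 3 + 1 * x ^ 6) ^ 1 * (1 + (-1) * x ^ 1 + 1 * x ^ 2 + (-1) * x ^ 3 + 1 * x ^ 4) ^ 2 * (1 + (-1) * x ^ 2 + 1 * x ^ 4) ^ 2 * (1 + (-1) * x ^ 1 + 1 * x ^ 2 + (-1) * x ^ 3 + 1 * x ^ 4 + (-1) * x ^ 5 + 1 * x ^ 6) ^ 1 * (1 + (-1) * x ^ 1 + 1 * x ^ 3 + (-1) * x ^ 4 + 1 * x ^ 5 + (-1) * x ^ 7 + 1 * x ^ 8) ^ 1 * (1 + (-1) * x ^ 3 + 1 * x ^ 6) ^ 1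 * (1 + (-1) * x ^ 2 + 1 * x ^ 4 + (-1) * x ^ 6 + 1 * x ^ 8) ^ 1 * (1 + (-1) * x ^ 4 + 1 * x ^ 8) ^ 1 * (1 + 1 * x ^ 1 + (-1) * x ^ 3 + (-1) * x ^ 4 + (-1) * x ^ 5 + 1 * x ^ 7 + 1 * x ^ 8) ^ 1) := by
    refine peel (s := 1) (t := (-8) + (-9) * x ^ 1 + (-8) * x ^ 2 + (-8) * x ^ 3 + (-8) * x ^ 4 + (-6) * x ^ 5 + (-5) * x ^ 6 + (-5) * x ^ 7 + (-4) * x ^ 8 + (-4) * x ^ 9 + (-6) * x ^ 10 + (-6) * x ^ 11 + (-5) * x ^ 12 + (-5) * x ^ 13 + (-4) * x ^ 14 + (-2) * x ^ 15 + (-2) * x ^ 16 + (-2) * x ^ 17 + (-1) * x ^ 18 + (-1) * x ^ 19 + (-2) * x ^ 20 + (-2) * x ^ 21 + (-2) * x ^ 22 + (-2) * x ^ 23 + (-1) * x ^ 24) (a := (-1) + 1 * x ^ 1) (by rw [hk]; ring) 8 _ (h'.trans (dvd_of_eq ?_))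
    ring
  replace h' : k ∣ (2 : ℤ) ^ 8 * ((-2 : ℤ) * (6 : ℤ) ^ 8 * (1 + 1 * x ^ 1 + 1 * x ^ 2) ^ 4 * (1 + 1 * x ^ 2) ^ 4 * (1 + 1 * x ^ 1 + 1 * x ^ 2 + 1 * x ^ 3 + 1 * x ^ 4) ^ 2 * (1 + (-1) * x ^ 1 + 1 * x ^ 2) ^ 4 * (1 + 1 * x ^ 1 + 1 * x ^ 2 + 1 * x ^ 3 + 1 * x ^ 4 + 1 * x ^ 5 + 1 * x ^ 6) ^ 1 * (1 + 1 * x ^ 4) ^ 2 * (1 + 1 * x ^ 3 + 1 * x ^ 6) ^ 1 * (1 + (-1) * x ^ 1 + 1 * x ^ 2 + (-1) * x ^ 3 + 1 * x ^ 4) ^ 2 * (1 + (-1) * x ^ 2 + 1 * x ^ 4) ^ 2 * (1 + (-1) * x ^ 1 + 1 * x ^ 2 + (-1) * x ^ 3 + 1 * x ^ 4 + (-1) * x ^ 5 + 1 * x ^ 6) ^ 1 * (1 + (-1) * x ^ 1 + 1 * x ^ 3 + (-1) * x ^ 4 + 1 * x ^ 5 + (-1) * x ^ 7 + 1 * x ^ 8) ^ 1 * (1 + (-1) * x ^ 3 + 1 * x ^ 6) ^ 1 * (1 + (-1) * x ^ 2 + 1 * x ^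 4 + (-1) * x ^ 6 + 1 * x ^ 8) ^ 1 * (1 + (-1) * x ^ 4 + 1 * x ^ 8) ^ 1 * (1 + 1 * x ^ 1 + (-1) * x ^ 3 + (-1) * x ^ 4 + (-1) * x ^ 5 + 1 * x ^ 7 + 1 * x ^ 8) ^ 1) := by
    refine peel (s := (-1)) (t := (-1) * x ^ 1 + 2 * x ^ 2 + (-2) * x ^ 3 + 2 * x ^ 4 + 1 * x ^ 6 + (-1) * x ^ 7 + 2 * x ^ 8 + (-2) * x ^ 9 + 1 * x ^ 12 + (-1) * x ^ 13 + 2 * x ^ 14 + 1 * x ^ 18 + (-1) * x ^ 19 + 1 * x ^ 24) (a := 1 + 1 * x ^ 1) (by rw [hk]; ring) 8 _ (h'.trans (dvd_of_eq ?_))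
    ring
  replace h' : k ∣ (6 : ℤ) ^ 4 * ((-2 : ℤ) * (6 : ℤ) ^ 8 * (2 : ℤ) ^ 8 * (1 + 1 * x ^ 2) ^ 4 * (1 + 1 * x ^ 1 + 1 * x ^ 2 + 1 * x ^ 3 + 1 * x ^ 4) ^ 2 * (1 + (-1) * x ^ 1 + 1 * x ^ 2) ^ 4 * (1 + 1 * x ^ 1 + 1 * x ^ 2 + 1 * x ^ 3 + 1 * x ^ 4 + 1 * x ^ 5 + 1 * x ^ 6) ^ 1 * (1 + 1 * x ^ 4) ^ 2 * (1 + 1 * x ^ 3 + 1 * x ^ 6) ^ 1 * (1 + (-1) * x ^ 1 + 1 * x ^ 2 + (-1) * x ^ 3 + 1 * x ^ 4) ^ 2 * (1 + (-1) * x ^ 2 + 1 * x ^ 4) ^ 2 * (1 + (-1) * x ^ 1 + 1 * x ^ 2 + (-1) * x ^ 3 + 1 * x ^ 4 + (-1) * x ^ 5 + 1 * x ^ 6) ^ 1 * (1 + (-1) * x ^ 1 + 1 * x ^ 3 + (-1) * x ^ 4 + 1 * x ^ 5 + (-1) * x ^ 7 + 1 * x ^ 8) ^ 1 * (1 + (-1) * x ^ 3 + 1 * x ^ 6) ^ 1 * (1 + (-1) * x ^ 2 + 1 * x ^ 4 + (-1) * x ^ 6 + 1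 * x ^ 8) ^ 1 * (1 + (-1) * x ^ 4 + 1 * x ^ 8) ^ 1 * (1 + 1 * x ^ 1 + (-1) * x ^ 3 + (-1) * x ^ 4 + (-1) * x ^ 5 + 1 * x ^ 7 + 1 * x ^ 8) ^ 1) := by
    refine peel (s := 1 + 1 * x ^ 1) (t := 8 + (-5) * x ^ 1 + (-3) * x ^ 2 + 7 * x ^ 3 + (-4) * x ^ 4 + (-5) * x ^ 5 + 6 * x ^ 6 + (-2) * x ^ 7 + (-5) * x ^ 8 + 6 * x ^ 9 + 1 * x ^ 10 + (-5) * x ^ 11 + 3 * x ^ 12 + 1 * x ^ 13 + (-5) * x ^ 14 + 1 * x ^ 15 + 2 * x ^ 16 + (-3) * x ^ 17 + 2 * x ^ 19 + (-1) * x ^ 20 + 1 * x ^ 22 + (-1) * x ^ 23 + (-1) * x ^ 24) (a := 1 + 1 * x ^ 1 + 1 * x ^ 2) (by rw [hk]; ring) 4 _ (h'.trans (dvd_of_eq ?_))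
    ring
  replace h' : k ∣ (2 : ℤ) ^ 4 * ((-2 : ℤ) * (6 : ℤ) ^ 8 * (2 : ℤ) ^ 8 * (6 : ℤ) ^ 4 * (1 + 1 * x ^ 1 + 1 * x ^ 2 + 1 * x ^ 3 + 1 * x ^ 4) ^ 2 * (1 + (-1) * x ^ 1 + 1 * x ^ 2) ^ 4 * (1 + 1 * x ^ 1 + 1 * x ^ 2 + 1 * x ^ 3 + 1 * x ^ 4 + 1 * x ^ 5 + 1 * x ^ 6) ^ 1 * (1 + 1 * x ^ 4) ^ 2 * (1 + 1 * x ^ 3 + 1 * x ^ 6) ^ 1 * (1 + (-1) * x ^ 1 + 1 * x ^ 2 + (-1) * x ^ 3 + 1 * x ^ 4) ^ 2 * (1 + (-1) * x ^ 2 + 1 * x ^ 4) ^ 2 * (1 + (-1) * x ^ 1 + 1 * x ^ 2 + (-1) * x ^ 3 + 1 * x ^ 4 + (-1) * x ^ 5 + 1 * x ^ 6) ^ 1 * (1 + (-1) * x ^ 1 + 1 * x ^ 3 + (-1) * x ^ 4 + 1 * x ^ 5 + (-1) * x ^ 7 + 1 * x ^ 8) ^ 1 * (1 + (-1) * x ^ 3 + 1 * x ^ 6) ^ 1 * (1 + (-1) * x ^ 2 + 1 * x ^ 4 + (-1) * x ^ 6 + 1 * x ^ 8)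 ^ 1 * (1 + (-1) * x ^ 4 + 1 * x ^ 8) ^ 1 * (1 + 1 * x ^ 1 + (-1) * x ^ 3 + (-1) * x ^ 4 + (-1) * x ^ 5 + 1 * x ^ 7 + 1 * x ^ 8) ^ 1) := by
    refine peel (s := (-1)) (t := (-1) * x ^ 1 + 1 * x ^ 2 + 1 * x ^ 3 + (-1) * x ^ 4 + 1 * x ^ 5 + 2 * x ^ 6 + (-1) * x ^ 7 + (-1) * x ^ 8 + 1 * x ^ 9 + (-1) * x ^ 10 + (-1) * x ^ 11 + 2 * x ^ 12 + 1 * x ^ 13 + (-1) * x ^ 14 + 1 * x ^ 15 + 1 * x ^ 16 + (-1) * x ^ 17 + 1 * x ^ 19 + (-1) * x ^ 20 + (-1) * x ^ 21 + 1 * x ^ 22 + 1 * x ^ 23) (a := 1 + 1 * x ^ 2) (by rw [hk]; ring) 4 _ (h'.trans (dvd_of_eq ?_))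
    ring
  replace h' : k ∣ (2 : ℤ) ^ 2 * ((-2 : ℤ) * (6 : ℤ) ^ 8 * (2 : ℤ) ^ 8 * (6 : ℤ) ^ 4 * (2 : ℤ) ^ 4 * (1 + (-1) * x ^ 1 + 1 * x ^ 2) ^ 4 * (1 + 1 * x ^ 1 + 1 * x ^ 2 + 1 * x ^ 3 + 1 * x ^ 4 + 1 * x ^ 5 + 1 * x ^ 6) ^ 1 * (1 + 1 * x ^ 4) ^ 2 * (1 + 1 * x ^ 3 + 1 * x ^ 6) ^ 1 * (1 + (-1) * x ^ 1 + 1 * x ^ 2 + (-1) * x ^ 3 + 1 * x ^ 4) ^ 2 * (1 + (-1) * x ^ 2 + 1 * x ^ 4) ^ 2 * (1 + (-1) * x ^ 1 + 1 * x ^ 2 + (-1) * x ^ 3 + 1 * x ^ 4 + (-1) * x ^ 5 + 1 * x ^ 6) ^ 1 * (1 + (-1) * x ^ 1 + 1 * x ^ 3 + (-1) * x ^ 4 + 1 * x ^ 5 + (-1) * x ^ 7 + 1 * x ^ 8) ^ 1 * (1 + (-1) * x ^ 3 + 1 * x ^ 6) ^ 1 * (1 + (-1) * x ^ 2 + 1 * x ^ 4 + (-1) * x ^ 6 + 1 * x ^ 8) ^ 1 * (1 + (-1) * x ^ 4 + 1 * x ^ 8) ^ 1 *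 (1 + 1 * x ^ 1 + (-1) * x ^ 3 + (-1) * x ^ 4 + (-1) * x ^ 5 + 1 * x ^ 7 + 1 * x ^ 8) ^ 1) := by
    refine peel (s := 1 * x ^ 1 + 1 * x ^ 3) (t := 2 + (-1) * x ^ 2 + (-1) * x ^ 6 + (-1) * x ^ 8 + 2 * x ^ 10 + (-1) * x ^ 12 + (-1) * x ^ 14 + (-1) * x ^ 18 + 1 * x ^ 20 + (-1) * x ^ 24) (a := 1 + 1 * x ^ 1 + 1 * x ^ 2 + 1 * x ^ 3 + 1 * x ^ 4) (by rw [hk]; ring) 2 _ (h'.trans (dvd_of_eq ?_))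
    ring
  replace h' : k ∣ (2 : ℤ) ^ 4 * ((-2 : ℤ) * (6 : ℤ) ^ 8 * (2 : ℤ) ^ 8 * (6 : ℤ) ^ 4 * (2 : ℤ) ^ 4 * (2 : ℤ) ^ 2 * (1 + 1 * x ^ 1 + 1 * x ^ 2 + 1 * x ^ 3 + 1 * x ^ 4 + 1 * x ^ 5 + 1 * x ^ 6) ^ 1 * (1 + 1 * x ^ 4) ^ 2 * (1 + 1 * x ^ 3 + 1 * x ^ 6) ^ 1 * (1 + (-1) * x ^ 1 + 1 * x ^ 2 + (-1) * x ^ 3 + 1 * x ^ 4) ^ 2 * (1 + (-1) * x ^ 2 + 1 * x ^ 4) ^ 2 * (1 + (-1) * x ^ 1 + 1 * x ^ 2 + (-1) * x ^ 3 + 1 * x ^ 4 + (-1) * x ^ 5 + 1 * x ^ 6) ^ 1 * (1 + (-1) * x ^ 1 + 1 * x ^ 3 + (-1) * x ^ 4 + 1 * x ^ 5 + (-1) * x ^ 7 + 1 * x ^ 8) ^ 1 * (1 + (-1) * x ^ 3 + 1 * x ^ 6) ^ 1 * (1 + (-1) * x ^ 2 + 1 * x ^ 4 + (-1) * x ^ 6 + 1 * x ^ 8) ^ 1 * (1 + (-1) * x ^ 4 + 1 * x ^ 8) ^ 1 * (1 + 1 * x ^ 1 + (-1)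 * x ^ 3 + (-1) * x ^ 4 + (-1) * x ^ 5 + 1 * x ^ 7 + 1 * x ^ 8) ^ 1) := by
    refine peel (s := 1 + (-1) * x ^ 1) (t := 4 + 3 * x ^ 1 + (-3) * x ^ 2 + (-5) * x ^ 3 + (-2) * x ^ 4 + 1 * x ^ 5 + 4 * x ^ 6 + 4 * x ^ 7 + (-1) * x ^ 8 + (-4) * x ^ 9 + (-1) * x ^ 10 + 1 * x ^ 11 + 1 * x ^ 12 + 1 * x ^ 13 + (-1) * x ^ 14 + (-3) * x ^ 15 + 3 * x ^ 17 + 2 * x ^ 18 + (-1) * x ^ 20 + (-2) * x ^ 21 + (-1) * x ^ 22 + 1 * x ^ 23 + 1 * x ^ 24) (a := 1 + (-1) * x ^ 1 + 1 * x ^ 2) (by rw [hk]; ring) 4 _ (h'.trans (dvd_of_eq ?_))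
    ring
  replace h' : k ∣ (127 : ℤ) ^ 1 * ((-2 : ℤ) * (6 : ℤ) ^ 8 * (2 : ℤ) ^ 8 * (6 : ℤ) ^ 4 * (2 : ℤ) ^ 4 * (2 : ℤ) ^ 2 * (2 : ℤ) ^ 4 * (1 + 1 * x ^ 4) ^ 2 * (1 + 1 * x ^ 3 + 1 * x ^ 6) ^ 1 * (1 + (-1) * x ^ 1 + 1 * x ^ 2 + (-1) * x ^ 3 + 1 * x ^ 4) ^ 2 * (1 + (-1) * x ^ 2 + 1 * x ^ 4) ^ 2 * (1 + (-1) * x ^ 1 + 1 * x ^ 2 + (-1) * x ^ 3 + 1 * x ^ 4 + (-1) * x ^ 5 + 1 * x ^ 6) ^ 1 * (1 + (-1) * x ^ 1 + 1 * x ^ 3 + (-1) * x ^ 4 + 1 * x ^ 5 + (-1) * x ^ 7 + 1 * x ^ 8) ^ 1 * (1 + (-1) * x ^ 3 + 1 * x ^ 6) ^ 1 * (1 + (-1) * x ^ 2 + 1 * x ^ 4 + (-1) * x ^ 6 + 1 * x ^ 8) ^ 1 * (1 + (-1) * x ^ 4 + 1 * x ^ 8) ^ 1 * (1 + 1 * x ^ 1 + (-1) * x ^ 3 + (-1) * x ^ 4 + (-1) * x ^ 5 + 1 * x ^ 7 + 1 * x ^ 8) ^ 1)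 := by
    refine peel (s := (-58) + 40 * x ^ 1 + (-38) * x ^ 2 + 50 * x ^ 3 + (-33) * x ^ 4 + (-11) * x ^ 5) (t := 11 + 11 * x ^ 1 + (-11) * x ^ 5 + (-11) * x ^ 6 + 58 * x ^ 7 + (-40) * x ^ 8 + (-20) * x ^ 9 + 1 * x ^ 10 + 64 * x ^ 11 + (-37) * x ^ 12 + 45 * x ^ 13 + 17 * x ^ 14 + (-66) * x ^ 15 + (-33) * x ^ 16 + 47 * x ^ 17 + 18 * x ^ 18 + 9 * x ^ 19 + 10 * x ^ 20 + 5 * x ^ 21 + (-61) * x ^ 22 + 33 * x ^ 23 + 11 * x ^ 24) (a := 1 + 1 * x ^ 1 + 1 * x ^ 2 + 1 * x ^ 3 + 1 * x ^ 4 + 1 * x ^ 5 + 1 * x ^ 6) (by rw [hk]; ring) 1 _ (h'.trans (dvd_of_eq ?_))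
    ring
  replace h' : k ∣ (2 : ℤ) ^ 2 * ((-2 : ℤ) * (6 : ℤ) ^ 8 * (2 : ℤ) ^ 8 * (6 : ℤ) ^ 4 * (2 : ℤ) ^ 4 * (2 : ℤ) ^ 2 * (2 : ℤ) ^ 4 * (127 : ℤ) ^ 1 * (1 + 1 * x ^ 3 + 1 * x ^ 6) ^ 1 * (1 + (-1) * x ^ 1 + 1 * x ^ 2 + (-1) * x ^ 3 + 1 * x ^ 4) ^ 2 * (1 + (-1) * x ^ 2 + 1 * x ^ 4) ^ 2 * (1 + (-1) * x ^ 1 + 1 * x ^ 2 + (-1) * x ^ 3 + 1 * x ^ 4 + (-1) * x ^ 5 + 1 * x ^ 6) ^ 1 * (1 + (-1) * x ^ 1 + 1 * x ^ 3 + (-1) * x ^ 4 + 1 * x ^ 5 + (-1) * x ^ 7 + 1 * x ^ 8) ^ 1 * (1 + (-1) * x ^ 3 + 1 * x ^ 6) ^ 1 * (1 + (-1) * x ^ 2 + 1 * x ^ 4 + (-1) * x ^ 6 + 1 * x ^ 8) ^ 1 * (1 + (-1) * x ^ 4 + 1 * x ^ 8) ^ 1 * (1 + 1 * x ^ 1 + (-1) * x ^ 3 + (-1) * x ^ 4 + (-1) * x ^ 5 + 1 * x ^ 7 + 1 * x ^ 8) ^ 1) := by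
    refine peel (s := 1 * x ^ 1 + (-1) * x ^ 2 + 1 * x ^ 3) (t := 2 + 2 * x ^ 1 + (-1) * x ^ 2 + (-3) * x ^ 5 + (-1) * x ^ 6 + 1 * x ^ 7 + (-1) * x ^ 8 + 1 * x ^ 9 + 2 * x ^ 10 + (-1) * x ^ 12 + (-1) * x ^ 14 + (-2) * x ^ 15 + 1 * x ^ 17 + (-1) * x ^ 18 + 1 * x ^ 19 + 1 * x ^ 20 + (-1) * x ^ 21 + (-1) * x ^ 24) (a := 1 + 1 * x ^ 4) (by rw [hk]; ring) 2 _ (h'.trans (dvd_of_eq ?_))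
    ring
  replace h' : k ∣ (57 : ℤ) ^ 1 * ((-2 : ℤ) * (6 : ℤ) ^ 8 * (2 : ℤ) ^ 8 * (6 : ℤ) ^ 4 * (2 : ℤ) ^ 4 * (2 : ℤ) ^ 2 * (2 : ℤ) ^ 4 * (127 : ℤ) ^ 1 * (2 : ℤ) ^ 2 * (1 + (-1) * x ^ 1 + 1 * x ^ 2 + (-1) * x ^ 3 + 1 * x ^ 4) ^ 2 * (1 + (-1) * x ^ 2 + 1 * x ^ 4) ^ 2 * (1 + (-1) * x ^ 1 + 1 * x ^ 2 + (-1) * x ^ 3 + 1 * x ^ 4 + (-1) * x ^ 5 + 1 * x ^ 6) ^ 1 * (1 + (-1) * x ^ 1 + 1 * x ^ 3 + (-1) * x ^ 4 + 1 * x ^ 5 + (-1) * x ^ 7 + 1 * x ^ 8) ^ 1 * (1 + (-1) * x ^ 3 + 1 * x ^ 6) ^ 1 * (1 + (-1) * x ^ 2 + 1 * x ^ 4 + (-1) * x ^ 6 + 1 * x ^ 8) ^ 1 * (1 + (-1) * x ^ 4 + 1 * x ^ 8) ^ 1 * (1 + 1 * x ^ 1 + (-1) * x ^ 3 + (-1) * x ^ 4 + (-1) * x ^ 5 + 1 * x ^ 7 + 1 * x ^ 8) ^ 1) := by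
    refine peel (s := (-17) + 18 * x ^ 1 + (-28) * x ^ 2 + 35 * x ^ 3 + (-27) * x ^ 4 + 4 * x ^ 5) (t := 23 + 19 * x ^ 1 + (-21) * x ^ 2 + 1 * x ^ 3 + (-10) * x ^ 4 + 1 * x ^ 5 + (-12) * x ^ 6 + 25 * x ^ 7 + (-5) * x ^ 8 + 12 * x ^ 9 + (-2) * x ^ 10 + 1 * x ^ 11 + (-12) * x ^ 12 + 25 * x ^ 13 + (-5) * x ^ 14 + (-11) * x ^ 15 + (-4) * x ^ 16 + 21 * x ^ 17 + (-3) * x ^ 18 + 11 * x ^ 19 + (-13) * x ^ 20 + (-3) * x ^ 21 + (-8) * x ^ 22 + 23 * x ^ 23 + (-4) * x ^ 24) (a := 1 + 1 * x ^ 3 + 1 * x ^ 6) (by rw [hk]; ring) 1 _ (h'.trans (dvd_of_eq ?_))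
    ring
  replace h' : k ∣ (12 : ℤ) ^ 2 * ((-2 : ℤ) * (6 : ℤ) ^ 8 * (2 : ℤ) ^ 8 * (6 : ℤ) ^ 4 * (2 : ℤ) ^ 4 * (2 : ℤ) ^ 2 * (2 : ℤ) ^ 4 * (127 : ℤ) ^ 1 * (2 : ℤ) ^ 2 * (57 : ℤ) ^ 1 * (1 + (-1) * x ^ 2 + 1 * x ^ 4) ^ 2 * (1 + (-1) * x ^ 1 + 1 * x ^ 2 + (-1) * x ^ 3 + 1 * x ^ 4 + (-1) * x ^ 5 + 1 * x ^ 6) ^ 1 * (1 + (-1) * x ^ 1 + 1 * x ^ 3 + (-1) * x ^ 4 + 1 * x ^ 5 + (-1) * x ^ 7 + 1 * x ^ 8) ^ 1 * (1 + (-1) * x ^ 3 + 1 * x ^ 6) ^ 1 * (1 + (-1) * x ^ 2 + 1 * x ^ 4 + (-1) * x ^ 6 + 1 * x ^ 8) ^ 1 * (1 + (-1) * x ^ 4 + 1 * x ^ 8) ^ 1 * (1 + 1 * x ^ 1 + (-1) * x ^ 3 + (-1) * x ^ 4 + (-1) * x ^ 5 + 1 * x ^ 7 + 1 * x ^ 8) ^ 1) := by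
    refine peel (s := (-1)) (t := 10 + 9 * x ^ 1 + 1 * x ^ 3 + (-8) * x ^ 5 + (-6) * x ^ 6 + 1 * x ^ 7 + 1 * x ^ 9 + 6 * x ^ 10 + 4 * x ^ 11 + 1 * x ^ 13 + (-3) * x ^ 15 + (-2) * x ^ 16 + 1 * x ^ 19 + 2 * x ^ 20 + 1 * x ^ 21) (a := 1 + (-1) * x ^ 1 + 1 * x ^ 2 + (-1) * x ^ 3 + 1 * x ^ 4) (by rw [hk]; ring) 2 _ (h'.trans (dvd_of_eq ?_))
    ring
  replace h' : k ∣ (2 : ℤ) ^ 2 * ((-2 : ℤ) * (6 : ℤ) ^ 8 * (2 : ℤ) ^ 8 * (6 : ℤ) ^ 4 * (2 : ℤ) ^ 4 * (2 : ℤ) ^ 2 * (2 : ℤ) ^ 4 * (127 : ℤ) ^ 1 * (2 : ℤ) ^ 2 * (57 : ℤ) ^ 1 * (12 : ℤ) ^ 2 * (1 + (-1) * x ^ 1 + 1 * x ^ 2 + (-1) * x ^ 3 + 1 * x ^ 4 + (-1) * x ^ 5 + 1 * x ^ 6) ^ 1 * (1 + (-1) * x ^ 1 + 1 * x ^ 3 + (-1) * x ^ 4 + 1 * x ^ 5 + (-1) * x ^ 7 + 1 *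 x ^ 8) ^ 1 * (1 + (-1) * x ^ 3 + 1 * x ^ 6) ^ 1 * (1 + (-1) * x ^ 2 + 1 * x ^ 4 + (-1) * x ^ 6 + 1 * x ^ 8) ^ 1 * (1 + (-1) * x ^ 4 + 1 * x ^ 8) ^ 1 * (1 + 1 * x ^ 1 + (-1) * x ^ 3 + (-1) * x ^ 4 + (-1) * x ^ 5 + 1 * x ^ 7 + 1 * x ^ 8) ^ 1) := by
    refine peel (s := 1 * x ^ 1 + (-2) * x ^ 2 + 1 * x ^ 3) (t := 2 + 2 * x ^ 1 + (-1) * x ^ 2 + 1 * x ^ 3 + (-2) * x ^ 5 + (-1) * x ^ 6 + (-1) * x ^ 8 + 2 * x ^ 10 + 1 * x ^ 11 + (-1) * x ^ 12 + 2 * x ^ 13 + (-1) * x ^ 14 + (-1) * x ^ 15 + (-1) * x ^ 18 + 1 * x ^ 20 + 1 * x ^ 23 + (-1) * x ^ 24) (a := 1 + (-1) * x ^ 2 + 1 * x ^ 4) (by rw [hk]; ring) 2 _ (h'.trans (dvd_of_eq ?_))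
    ring
  replace h' : k ∣ (43 : ℤ) ^ 1 * ((-2 : ℤ) * (6 : ℤ) ^ 8 * (2 : ℤ) ^ 8 * (6 : ℤ) ^ 4 * (2 : ℤ) ^ 4 * (2 : ℤ) ^ 2 * (2 : ℤ) ^ 4 * (127 : ℤ) ^ 1 * (2 : ℤ) ^ 2 * (57 : ℤ) ^ 1 * (12 : ℤ) ^ 2 * (2 : ℤ) ^ 2 * (1 + (-1) * x ^ 1 + 1 * x ^ 3 + (-1) * x ^ 4 + 1 * x ^ 5 + (-1) * x ^ 7 + 1 * x ^ 8) ^ 1 * (1 + (-1) * x ^ 3 + 1 * x ^ 6) ^ 1 * (1 + (-1) * x ^ 2 + 1 * x ^ 4 + (-1) * x ^ 6 + 1 * x ^ 8) ^ 1 * (1 + (-1) * x ^ 4 + 1 * x ^ 8) ^ 1 * (1 + 1 * x ^ 1 + (-1) * x ^ 3 + (-1) * x ^ 4 + (-1) * x ^ 5 + 1 * x ^ 7 + 1 * x ^ 8) ^ 1) := by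
    refine peel (s := (-16) + 8 * x ^ 1 + (-12) * x ^ 2 + 10 * x ^ 3 + (-11) * x ^ 4 + (-11) * x ^ 5) (t := 11 + 11 * x ^ 1 + (-11) * x ^ 5 + (-11) * x ^ 6 + 16 * x ^ 7 + 24 * x ^ 8 + 12 * x ^ 9 + 17 * x ^ 10 + 30 * x ^ 11 + 31 * x ^ 12 + 37 * x ^ 13 + 13 * x ^ 14 + (-26) * x ^ 15 + (-13) * x ^ 16 + 15 * x ^ 17 + 2 * x ^ 18 + 1 * x ^ 19 + 6 * x ^ 20 + 3 * x ^ 21 + 23 * x ^ 22 + 33 * x ^ 23 + 11 * x ^ 24) (a := 1 + (-1) * x ^ 1 + 1 * x ^ 2 + (-1) * x ^ 3 + 1 * x ^ 4 + (-1) * x ^ 5 + 1 * x ^ 6) (by rw [hk]; ring) 1 _ (h'.trans (dvd_of_eq ?_))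
    ring
  replace h' : k ∣ (1 : ℤ) ^ 1 * ((-2 : ℤ) * (6 : ℤ) ^ 8 * (2 : ℤ) ^ 8 * (6 : ℤ) ^ 4 * (2 : ℤ) ^ 4 * (2 : ℤ) ^ 2 * (2 : ℤ) ^ 4 * (127 : ℤ) ^ 1 * (2 : ℤ) ^ 2 * (57 : ℤ) ^ 1 * (12 : ℤ) ^ 2 * (2 : ℤ) ^ 2 * (43 : ℤ) ^ 1 * (1 + (-1) * x ^ 3 + 1 * x ^ 6) ^ 1 * (1 + (-1) * x ^ 2 + 1 * x ^ 4 + (-1) * x ^ 6 + 1 * x ^ 8) ^ 1 * (1 + (-1) * x ^ 4 + 1 * x ^ 8) ^ 1 * (1 + 1 * x ^ 1 + (-1) * x ^ 3 + (-1) * x ^ 4 + (-1) * x ^ 5 + 1 * x ^ 7 + 1 * x ^ 8) ^ 1) := by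
    refine peel (s := (-1) + 1 * x ^ 1 + (-1) * x ^ 2 + 1 * x ^ 3 + (-1) * x ^ 4) (t := (-1) + 1 * x ^ 3 + 1 * x ^ 5 + 1 * x ^ 7 + 1 * x ^ 9 + 1 * x ^ 11 + 1 * x ^ 13 + (-1) * x ^ 16 + 1 * x ^ 19 + 1 * x ^ 20 + 1 * x ^ 21) (a := 1 + (-1) * x ^ 1 + 1 * x ^ 3 + (-1) * x ^ 4 + 1 * x ^ 5 + (-1) * x ^ 7 + 1 * x ^ 8) (by rw [hk]; ring) 1 _ (h'.trans (dvd_of_eq ?_))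
    ring
  replace h' : k ∣ (127 : ℤ) ^ 1 * ((-2 : ℤ) * (6 : ℤ) ^ 8 * (2 : ℤ) ^ 8 * (6 : ℤ) ^ 4 * (2 : ℤ) ^ 4 * (2 : ℤ) ^ 2 * (2 : ℤ) ^ 4 * (127 : ℤ) ^ 1 * (2 : ℤ) ^ 2 * (57 : ℤ) ^ 1 * (12 : ℤ) ^ 2 * (2 : ℤ) ^ 2 * (43 : ℤ) ^ 1 * (1 : ℤ) ^ 1 * (1 + (-1) * x ^ 2 + 1 * x ^ 4 + (-1) * x ^ 6 + 1 * x ^ 8) ^ 1 * (1 + (-1) * x ^ 4 + 1 * x ^ 8) ^ 1 * (1 + 1 * x ^ 1 + (-1) * x ^ 3 + (-1) * x ^ 4 + (-1) * x ^ 5 + 1 * x ^ 7 + 1 * x ^ 8) ^ 1) := by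
    refine peel (s := (-59) + 20 * x ^ 1 + (-24) * x ^ 2 + 37 * x ^ 3 + (-19) * x ^ 4 + (-28) * x ^ 5) (t := 9 + (-19) * x ^ 1 + 31 * x ^ 2 + 39 * x ^ 3 + 4 * x ^ 4 + 37 * x ^ 5 + 40 * x ^ 6 + 79 * x ^ 7 + 15 * x ^ 8 + (-18) * x ^ 9 + 56 * x ^ 10 + 9 * x ^ 11 + (-28) * x ^ 12 + 59 * x ^ 13 + 39 * x ^ 14 + (-5) * x ^ 15 + 6 * x ^ 16 + 69 * x ^ 17 + 27 * x ^ 18 + (-7) * x ^ 19 + 51 * x ^ 20 + 15 * x ^ 21 + (-18) * x ^ 22 + 47 * x ^ 23 + 28 * x ^ 24) (a := 1 + (-1) * x ^ 3 + 1 * x ^ 6) (by rw [hk]; ring) 1 _ (h'.trans (dvd_of_eq ?_))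
    ring
  replace h' : k ∣ (2 : ℤ) ^ 1 * ((-2 : ℤ) * (6 : ℤ) ^ 8 * (2 : ℤ) ^ 8 * (6 : ℤ) ^ 4 * (2 : ℤ) ^ 4 * (2 : ℤ) ^ 2 * (2 : ℤ) ^ 4 * (127 : ℤ) ^ 1 * (2 : ℤ) ^ 2 * (57 : ℤ) ^ 1 * (12 : ℤ) ^ 2 * (2 : ℤ) ^ 2 * (43 : ℤ) ^ 1 * (1 : ℤ) ^ 1 * (127 : ℤ) ^ 1 * (1 + (-1) * x ^ 4 + 1 * x ^ 8) ^ 1 * (1 + 1 * x ^ 1 + (-1) * x ^ 3 + (-1) * x ^ 4 + (-1) * x ^ 5 + 1 * x ^ 7 + 1 * x ^ 8) ^ 1) := by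
    refine peel (s := (-1) + 1 * x ^ 1 + (-1) * x ^ 2 + 1 * x ^ 3 + (-1) * x ^ 4) (t := 1 * x ^ 1 + 1 * x ^ 3 + 1 * x ^ 7 + 1 * x ^ 9 + 1 * x ^ 13 + 1 * x ^ 15 + 1 * x ^ 19 + 1 * x ^ 21) (a := 1 + (-1) * x ^ 2 + 1 * x ^ 4 + (-1) * x ^ 6 + 1 * x ^ 8) (by rw [hk]; ring) 1 _ (h'.trans (dvd_of_eq ?_))
    ring
  replace h' : k ∣ (2 : ℤ) ^ 1 * ((-2 : ℤ) * (6 : ℤ) ^ 8 * (2 : ℤ) ^ 8 * (6 : ℤ) ^ 4 * (2 : ℤ) ^ 4 * (2 : ℤ) ^ 2 * (2 : ℤ) ^ 4 * (127 : ℤ) ^ 1 * (2 : ℤ) ^ 2 * (57 : ℤ) ^ 1 * (12 : ℤ) ^ 2 * (2 : ℤ) ^ 2 * (43 : ℤ) ^ 1 * (1 : ℤ) ^ 1 * (127 : ℤ) ^ 1 * (2 : ℤ) ^ 1 * (1 + 1 * x ^ 1 + (-1) * x ^ 3 + (-1) * x ^ 4 + (-1) * x ^ 5 + 1 * x ^ 7 + 1 * x ^ 8) ^ 1) := by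
    refine peel (s := (-1) + 1 * x ^ 1 + (-1) * x ^ 2 + 1 * x ^ 3 + (-1) * x ^ 4) (t := 1 * x ^ 1 + 1 * x ^ 5 + 1 * x ^ 7 + 2 * x ^ 11 + 1 * x ^ 15 + 1 * x ^ 17 + 1 * x ^ 21) (a := 1 + (-1) * x ^ 4 + 1 * x ^ 8) (by rw [hk]; ring) 1 _ (h'.trans (dvd_of_eq ?_))
    ring
  replace h' : k ∣ (3 : ℤ) ^ 1 * ((-2 : ℤ) * (6 : ℤ) ^ 8 * (2 : ℤ) ^ 8 * (6 : ℤ) ^ 4 * (2 : ℤ) ^ 4 * (2 : ℤ) ^ 2 * (2 : ℤ) ^ 4 * (127 : ℤ) ^ 1 * (2 : ℤ) ^ 2 * (57 : ℤ) ^ 1 * (12 : ℤ) ^ 2 * (2 : ℤ) ^ 2 * (43 : ℤ) ^ 1 * (1 : ℤ) ^ 1 * (127 : ℤ) ^ 1 * (2 : ℤ) ^ 1 * (2 : ℤ) ^ 1) := by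
    refine peel (s := (-1) + 1 * x ^ 1 + (-1) * x ^ 2 + 1 * x ^ 3 + (-1) * x ^ 4) (t := 1 + 1 * x ^ 3 + 1 * x ^ 5 + 1 * x ^ 7 + 1 * x ^ 9 + 1 * x ^ 11 + 1 * x ^ 13 + 1 * x ^ 16 + 1 * x ^ 19 + (-1) * x ^ 20 + 1 * x ^ 21) (a := 1 + 1 * x ^ 1 + (-1) * x ^ 3 + (-1) * x ^ 4 + (-1) * x ^ 5 + 1 * x ^ 7 + 1 * x ^ 8) (by rw [hk]; ring) 1 _ (h'.trans (dvd_of_eq ?_))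
    ring
  have hpos : (0 : ℤ) < k ∧ (1247381779954503988707065856 : ℤ) < k := by
    obtain ⟨w, hw⟩ : ∃ w : ℕ, q = w + 250 := ⟨q - 250, by omega⟩
    have e1 : 1 * k = x ^ 25 + (3552713677891020779499787837326524734512329347656250062248 + 341060513092089560814313799145698471069824224648437500499 * (w : ℤ) ^ 1 + 15688783602818183833736335694852827606208007871406250001 * (w : ℤ) ^ 2 + 460204319030745714902932134629135117187554687813750000 * (w : ℤ) ^ 3 + 9664290699911082386971171856887740986328398438440000 * (w : ℤ) ^ 4 + 154628651202187069773679746635485351070313375001502 * (w : ℤ) ^ 5 + 1958629581932873640298881614731060545234376750001 * (w : ℤ) ^ 6 + 20145904271639593082428175105713664058750002000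 * (w : ℤ) ^ 7 + 171240186311246794469834160279054667963125001 * (w : ℤ) ^ 8 + 1217707991559992022018435062990237812495000 * (w : ℤ) ^ 9 + 7306247949424023342254644541019535374998 * (w : ℤ) ^ 10 + 37195444106414949452148448169750003000 * (w : ℤ) ^ 11 + 161180257795319065811523451724437501 * (w : ℤ) ^ 12 + 595127105708159188054687513128500 * (w : ℤ) ^ 13 + 1870399475088193371328125007501 * (w : ℤ) ^ 14 + 4987731933578609387750000002 * (w : ℤ) ^ 15 + 11222396850567011728312500 * (w : ℤ) ^ 16 + 21124511718732187504500 * (w : ℤ) ^ 17 + 32860351562488125001 * (w : ℤ) ^ 18 + 41507812499995000 * (w : ℤ) ^ 19 + 41507812499999 * (w : ℤ) ^ 20 + 31625000000 * (w : ℤ) ^ 21 + 17250000 * (w : ℤ) ^ 22 + 6000 * (w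 : ℤ) ^ 23 + 1 * (w : ℤ) ^ 24) := by
      rw [hk, hx, hw]; push_cast; ring
    have e2 : (250 : ℤ) ^ 25 ≤ x ^ 25 := pow_le_pow_left₀ (by norm_num) (by rw [hx]; exact_mod_cast hq0) _
    have e3 : (0 : ℤ) ≤ 3552713677891020779499787837326524734512329347656250062248 + 341060513092089560814313799145698471069824224648437500499 * (w : ℤ) ^ 1 + 15688783602818183833736335694852827606208007871406250001 * (w : ℤ) ^ 2 + 460204319030745714902932134629135117187554687813750000 * (w : ℤ) ^ 3 + 9664290699911082386971171856887740986328398438440000 * (w : ℤ) ^ 4 + 154628651202187069773679746635485351070313375001502 * (w : ℤ) ^ 5 + 1958629581932873640298881614731060545234376750001 * (w : ℤ) ^ 6 + 20145904271639593082428175105713664058750002000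 * (w : ℤ) ^ 7 + 171240186311246794469834160279054667963125001 * (w : ℤ) ^ 8 + 1217707991559992022018435062990237812495000 * (w : ℤ) ^ 9 + 7306247949424023342254644541019535374998 * (w : ℤ) ^ 10 + 37195444106414949452148448169750003000 * (w : ℤ) ^ 11 + 161180257795319065811523451724437501 * (w : ℤ) ^ 12 + 595127105708159188054687513128500 * (w : ℤ) ^ 13 + 1870399475088193371328125007501 * (w : ℤ) ^ 14 + 4987731933578609387750000002 * (w : ℤ) ^ 15 + 11222396850567011728312500 * (w : ℤ) ^ 16 + 21124511718732187504500 * (w : ℤ) ^ 17 + 32860351562488125001 * (w : ℤ) ^ 18 + 41507812499995000 * (w : ℤ) ^ 19 + 41507812499999 * (w : ℤ) ^ 20 + 31625000000 * (w : ℤ) ^ 21 + 17250000 * (w : ℤ) ^ 22 + 6000 * (w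 : ℤ) ^ 23 + 1 * (w : ℤ) ^ 24 := by positivity
    norm_num at e2
    constructor <;> linarith
  have := Int.le_of_dvd (by norm_num) (dvd_abs _ _ |>.2 h')
  norm_num at this
  linarith [hpos.1, hpos.2]

theorem not_dvd_3 {q : ℕ} (hq : IsPrimePow q) (hq0 : 250 ≤ q) : ¬ (bnd q - 3) ∣ ord' q := by
  intro h
  have hle : 3 ≤ bnd q := by
    have h1 : 1 ≤ (q ^ 12 + 1) * (q ^ 10 + 1) * (q ^ 6 + 1) := Nat.one_le_iff_ne_zero.2 (by positivity)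
    calc 3 ≤ q * 1 := by omega
      _ ≤ _ := by rw [bnd, mul_assoc, mul_assoc, ← mul_assoc (q ^ 12 + 1)]; exact Nat.mul_le_mul_left _ h1
  have h' : ((bnd q - 3 : ℕ) : ℤ) ∣ (ord' q : ℤ) := Int.natCast_dvd_natCast.2 h
  rw [Nat.cast_sub hle, ord'_cast (by omega)] at h'
  simp only [bnd, Nat.cast_mul, Nat.cast_add, Nat.cast_pow, Nat.cast_one, Nat.cast_ofNat] at h'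
  set x : ℤ := (q : ℤ) with hx
  set k : ℤ := (-3) + 1 * x ^ 1 + 1 * x ^ 7 + 1 * x ^ 11 + 1 * x ^ 13 + 1 * x ^ 17 + 1 * x ^ 19 + 1 * x ^ 23 + 1 * x ^ 29 with hk
  replace h' : k ∣ x ^ 120 * (((-1) + 1 * x ^ 1) ^ 8 * (1 + 1 * x ^ 1) ^ 8 * (1 + 1 * x ^ 1 + 1 * x ^ 2) ^ 4 * (1 + 1 * x ^ 2) ^ 4 * (1 + 1 * x ^ 1 + 1 * x ^ 2 + 1 * x ^ 3 + 1 * x ^ 4) ^ 2 * (1 + (-1) * x ^ 1 + 1 * x ^ 2) ^ 4 * (1 + 1 * x ^ 1 + 1 * x ^ 2 + 1 * x ^ 3 + 1 * x ^ 4 + 1 * x ^ 5 + 1 * x ^ 6) ^ 1 * (1 + 1 * x ^ 4) ^ 2 * (1 + 1 * x ^ 3 + 1 * x ^ 6) ^ 1 * (1 + (-1) * x ^ 1 + 1 * x ^ 2 + (-1) * x ^ 3 + 1 * x ^ 4) ^ 2 * (1 + (-1) * x ^ 2 + 1 * x ^ 4) ^ 2 * (1 + (-1) * x ^ 1 + 1 * x ^ 2 + (-1) * x ^ 3 + 1 * x ^ 4 + (-1) * x ^ 5 + 1 *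 x ^ 6) ^ 1 * (1 + (-1) * x ^ 1 + 1 * x ^ 3 + (-1) * x ^ 4 + 1 * x ^ 5 + (-1) * x ^ 7 + 1 * x ^ 8) ^ 1 * (1 + (-1) * x ^ 3 + 1 * x ^ 6) ^ 1 * (1 + (-1) * x ^ 2 + 1 * x ^ 4 + (-1) * x ^ 6 + 1 * x ^ 8) ^ 1 * (1 + (-1) * x ^ 4 + 1 * x ^ 8) ^ 1 * (1 + 1 * x ^ 1 + (-1) * x ^ 3 + (-1) * x ^ 4 + (-1) * x ^ 5 + 1 * x ^ 7 + 1 * x ^ 8) ^ 1) := by
    refine dvd_trans ⟨1, ?_⟩ h'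
    rw [hk]; ring
  replace h' := peel_prime_pow hq (r := 1 + 1 * x ^ 6 + 1 * x ^ 10 + 1 * x ^ 12 + 1 * x ^ 16 + 1 * x ^ 18 + 1 * x ^ 22 + 1 * x ^ 28) (c := -3) (by rw [hk]; ring) (by norm_num) (by norm_num; omega) h'
  simp only [← mul_assoc] at h'
  replace h' : k ∣ (5 : ℤ) ^ 8 * ((-3 : ℤ) * (1 + 1 * x ^ 1) ^ 8 * (1 + 1 * x ^ 1 + 1 * x ^ 2) ^ 4 * (1 + 1 * x ^ 2) ^ 4 * (1 + 1 * x ^ 1 + 1 * x ^ 2 + 1 * x ^ 3 + 1 * x ^ 4) ^ 2 * (1 + (-1) * x ^ 1 + 1 * x ^ 2) ^ 4 * (1 + 1 * x ^ 1 + 1 * x ^ 2 + 1 * x ^ 3 + 1 * x ^ 4 + 1 * x ^ 5 + 1 * x ^ 6) ^ 1 * (1 + 1 * x ^ 4) ^ 2 * (1 + 1 * x ^ 3 + 1 * x ^ 6) ^ 1 * (1 + (-1) * x ^ 1 + 1 * x ^ 2 + (-1) * x ^ 3 + 1 * x ^ 4) ^ 2 * (1 + (-1) * x ^ 2 + 1 * x ^ 4) ^ 2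 * (1 + (-1) * x ^ 1 + 1 * x ^ 2 + (-1) * x ^ 3 + 1 * x ^ 4 + (-1) * x ^ 5 + 1 * x ^ 6) ^ 1 * (1 + (-1) * x ^ 1 + 1 * x ^ 3 + (-1) * x ^ 4 + 1 * x ^ 5 + (-1) * x ^ 7 + 1 * x ^ 8) ^ 1 * (1 + (-1) * x ^ 3 + 1 * x ^ 6) ^ 1 * (1 + (-1) * x ^ 2 + 1 * x ^ 4 + (-1) * x ^ 6 + 1 * x ^ 8) ^ 1 * (1 + (-1) * x ^ 4 + 1 * x ^ 8) ^ 1 * (1 + 1 * x ^ 1 + (-1) * x ^ 3 + (-1) * x ^ 4 + (-1) * x ^ 5 + 1 * x ^ 7 + 1 * x ^ 8) ^ 1) := by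
    refine peel (s := 1) (t := (-8) + (-7) * x ^ 1 + (-7) * x ^ 2 + (-7) * x ^ 3 + (-7) * x ^ 4 + (-7) * x ^ 5 + (-7) * x ^ 6 + (-6) * x ^ 7 + (-6) * x ^ 8 + (-6) * x ^ 9 + (-6) * x ^ 10 + (-5) * x ^ 11 + (-5) * x ^ 12 + (-4) * x ^ 13 + (-4) * x ^ 14 + (-4) * x ^ 15 + (-4) * x ^ 16 + (-3) * x ^ 17 + (-3) * x ^ 18 + (-2) * x ^ 19 + (-2) * x ^ 20 + (-2) * x ^ 21 + (-2) * x ^ 22 + (-1) * x ^ 23 + (-1) * x ^ 24 + (-1) * x ^ 25 + (-1) * x ^ 26 + (-1) * x ^ 27 + (-1) * x ^ 28) (a := (-1) + 1 * x ^ 1) (by rw [hk]; ring) 8 _ (h'.trans (dvd_of_eq ?_))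
    ring
  replace h' : k ∣ (11 : ℤ) ^ 8 * ((-3 : ℤ) * (5 : ℤ) ^ 8 * (1 + 1 * x ^ 1 + 1 * x ^ 2) ^ 4 * (1 + 1 * x ^ 2) ^ 4 * (1 + 1 * x ^ 1 + 1 * x ^ 2 + 1 * x ^ 3 + 1 * x ^ 4) ^ 2 * (1 + (-1) * x ^ 1 + 1 * x ^ 2) ^ 4 * (1 + 1 * x ^ 1 + 1 * x ^ 2 + 1 * x ^ 3 + 1 * x ^ 4 + 1 * x ^ 5 + 1 * x ^ 6) ^ 1 * (1 + 1 * x ^ 4) ^ 2 * (1 + 1 * x ^ 3 + 1 * x ^ 6) ^ 1 * (1 + (-1) * x ^ 1 + 1 * x ^ 2 + (-1) * x ^ 3 + 1 * x ^ 4) ^ 2 * (1 + (-1) * x ^ 2 + 1 * x ^ 4) ^ 2 * (1 + (-1) * x ^ 1 + 1 * x ^ 2 + (-1) * x ^ 3 + 1 * x ^ 4 + (-1) * x ^ 5 + 1 * x ^ 6) ^ 1 * (1 + (-1) * x ^ 1 + 1 * x ^ 3 + (-1) * x ^ 4 + 1 * x ^ 5 + (-1) * x ^ 7 + 1 * x ^ 8) ^ 1 * (1 + (-1) * x ^ 3 + 1 * x ^ 6) ^ 1 * (1 + (-1) * x ^ 2 + 1 * x ^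 4 + (-1) * x ^ 6 + 1 * x ^ 8) ^ 1 * (1 + (-1) * x ^ 4 + 1 * x ^ 8) ^ 1 * (1 + 1 * x ^ 1 + (-1) * x ^ 3 + (-1) * x ^ 4 + (-1) * x ^ 5 + 1 * x ^ 7 + 1 * x ^ 8) ^ 1) := by
    refine peel (s := (-1)) (t := 8 + (-7) * x ^ 1 + 7 * x ^ 2 + (-7) * x ^ 3 + 7 * x ^ 4 + (-7) * x ^ 5 + 7 * x ^ 6 + (-6) * x ^ 7 + 6 * x ^ 8 + (-6) * x ^ 9 + 6 * x ^ 10 + (-5) * x ^ 11 + 5 * x ^ 12 + (-4) * x ^ 13 + 4 * x ^ 14 + (-4) * x ^ 15 + 4 * x ^ 16 + (-3) * x ^ 17 + 3 * x ^ 18 + (-2) * x ^ 19 + 2 * x ^ 20 + (-2) * x ^ 21 + 2 * x ^ 22 + (-1) * x ^ 23 + 1 * x ^ 24 + (-1) * x ^ 25 + 1 * x ^ 26 + (-1) * x ^ 27 + 1 * x ^ 28) (a := 1 + 1 * x ^ 1) (by rw [hk]; ring) 8 _ (h'.trans (dvd_of_eq ?_))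
    ring
  replace h' : k ∣ (7 : ℤ) ^ 4 * ((-3 : ℤ) * (5 : ℤ) ^ 8 * (11 : ℤ) ^ 8 * (1 + 1 * x ^ 2) ^ 4 * (1 + 1 * x ^ 1 + 1 * x ^ 2 + 1 * x ^ 3 + 1 * x ^ 4) ^ 2 * (1 + (-1) * x ^ 1 + 1 * x ^ 2) ^ 4 * (1 + 1 * x ^ 1 + 1 * x ^ 2 + 1 * x ^ 3 + 1 * x ^ 4 + 1 * x ^ 5 + 1 * x ^ 6) ^ 1 * (1 + 1 * x ^ 4) ^ 2 * (1 + 1 * x ^ 3 + 1 * x ^ 6) ^ 1 * (1 + (-1) * x ^ 1 + 1 * x ^ 2 + (-1) * x ^ 3 + 1 * x ^ 4) ^ 2 * (1 + (-1) * x ^ 2 + 1 * x ^ 4) ^ 2 * (1 + (-1) * x ^ 1 + 1 * x ^ 2 + (-1) * x ^ 3 + 1 * x ^ 4 + (-1) * x ^ 5 + 1 * x ^ 6) ^ 1 * (1 + (-1) * x ^ 1 + 1 * x ^ 3 + (-1) * x ^ 4 + 1 * x ^ 5 + (-1) * x ^ 7 + 1 * x ^ 8) ^ 1 * (1 + (-1) * x ^ 3 + 1 * x ^ 6) ^ 1 * (1 + (-1) * x ^ 2 + 1 * x ^ 4 + (-1) * x ^ 6 +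 1 * x ^ 8) ^ 1 * (1 + (-1) * x ^ 4 + 1 * x ^ 8) ^ 1 * (1 + 1 * x ^ 1 + (-1) * x ^ 3 + (-1) * x ^ 4 + (-1) * x ^ 5 + 1 * x ^ 7 + 1 * x ^ 8) ^ 1) := by
    refine peel (s := (-1)) (t := 4 + (-3) * x ^ 1 + (-1) * x ^ 2 + 4 * x ^ 3 + (-3) * x ^ 4 + (-1) * x ^ 5 + 4 * x ^ 6 + (-2) * x ^ 7 + (-2) * x ^ 8 + 4 * x ^ 9 + (-2) * x ^ 10 + (-1) * x ^ 11 + 3 * x ^ 12 + (-1) * x ^ 13 + (-2) * x ^ 14 + 3 * x ^ 15 + (-1) * x ^ 16 + (-1) * x ^ 17 + 2 * x ^ 18 + (-2) * x ^ 20 + 2 * x ^ 21 + (-1) * x ^ 23 + 1 * x ^ 24 + (-1) * x ^ 26 + 1 * x ^ 27) (a := 1 + 1 * x ^ 1 + 1 * x ^ 2) (by rw [hk]; ring) 4 _ (h'.trans (dvd_of_eq ?_))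
    ring
  replace h' : k ∣ (3 : ℤ) ^ 4 * ((-3 : ℤ) * (5 : ℤ) ^ 8 * (11 : ℤ) ^ 8 * (7 : ℤ) ^ 4 * (1 + 1 * x ^ 1 + 1 * x ^ 2 + 1 * x ^ 3 + 1 * x ^ 4) ^ 2 * (1 + (-1) * x ^ 1 + 1 * x ^ 2) ^ 4 * (1 + 1 * x ^ 1 + 1 * x ^ 2 + 1 * x ^ 3 + 1 * x ^ 4 + 1 * x ^ 5 + 1 * x ^ 6) ^ 1 * (1 + 1 * x ^ 4) ^ 2 * (1 + 1 * x ^ 3 + 1 * x ^ 6) ^ 1 * (1 + (-1) * x ^ 1 + 1 * x ^ 2 + (-1) * x ^ 3 + 1 * x ^ 4) ^ 2 * (1 + (-1) * x ^ 2 + 1 * x ^ 4) ^ 2 * (1 + (-1) * x ^ 1 + 1 * x ^ 2 + (-1) * x ^ 3 + 1 * x ^ 4 + (-1) * x ^ 5 + 1 * x ^ 6) ^ 1 * (1 + (-1) * x ^ 1 + 1 * x ^ 3 + (-1) * x ^ 4 + 1 * x ^ 5 + (-1) * x ^ 7 + 1 * x ^ 8) ^ 1 * (1 + (-1) * x ^ 3 + 1 * x ^ 6) ^ 1 * (1 + (-1) * x ^ 2 + 1 * x ^ 4 + (-1) * x ^ 6 + 1 * x ^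 8) ^ 1 * (1 + (-1) * x ^ 4 + 1 * x ^ 8) ^ 1 * (1 + 1 * x ^ 1 + (-1) * x ^ 3 + (-1) * x ^ 4 + (-1) * x ^ 5 + 1 * x ^ 7 + 1 * x ^ 8) ^ 1) := by
    refine peel (s := (-1)) (t := 1 * x ^ 1 + (-1) * x ^ 3 + 1 * x ^ 5 + 1 * x ^ 11 + 1 * x ^ 17 + 1 * x ^ 23 + (-1) * x ^ 25 + 1 * x ^ 27) (a := 1 + 1 * x ^ 2) (by rw [hk]; ring) 4 _ (h'.trans (dvd_of_eq ?_))
    ring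
  replace h' : k ∣ (5 : ℤ) ^ 2 * ((-3 : ℤ) * (5 : ℤ) ^ 8 * (11 : ℤ) ^ 8 * (7 : ℤ) ^ 4 * (3 : ℤ) ^ 4 * (1 + (-1) * x ^ 1 + 1 * x ^ 2) ^ 4 * (1 + 1 * x ^ 1 + 1 * x ^ 2 + 1 * x ^ 3 + 1 * x ^ 4 + 1 * x ^ 5 + 1 * x ^ 6) ^ 1 * (1 + 1 * x ^ 4) ^ 2 * (1 + 1 * x ^ 3 + 1 * x ^ 6) ^ 1 * (1 + (-1) * x ^ 1 + 1 * x ^ 2 + (-1) * x ^ 3 + 1 * x ^ 4) ^ 2 * (1 + (-1) * x ^ 2 + 1 * x ^ 4) ^ 2 * (1 + (-1) * x ^ 1 + 1 * x ^ 2 + (-1) * x ^ 3 + 1 * x ^ 4 + (-1) * x ^ 5 + 1 * x ^ 6) ^ 1 * (1 + (-1) * x ^ 1 + 1 * x ^ 3 + (-1) * x ^ 4 + 1 * x ^ 5 + (-1) * x ^ 7 + 1 * x ^ 8) ^ 1 * (1 + (-1) * x ^ 3 + 1 * x ^ 6) ^ 1 * (1 + (-1) * x ^ 2 + 1 * x ^ 4 + (-1) * x ^ 6 + 1 * x ^ 8) ^ 1 * (1 + (-1) * x ^ 4 + 1 * x ^ 8) ^ 1 * (1 + 1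 * x ^ 1 + (-1) * x ^ 3 + (-1) * x ^ 4 + (-1) * x ^ 5 + 1 * x ^ 7 + 1 * x ^ 8) ^ 1) := by
    refine peel (s := (-1)) (t := 2 + (-1) * x ^ 1 + (-1) * x ^ 2 + 2 * x ^ 5 + (-1) * x ^ 6 + (-1) * x ^ 8 + 2 * x ^ 10 + (-1) * x ^ 12 + (-1) * x ^ 14 + 2 * x ^ 15 + (-1) * x ^ 18 + 1 * x ^ 20 + (-1) * x ^ 24 + 1 * x ^ 25) (a := 1 + 1 * x ^ 1 + 1 * x ^ 2 + 1 * x ^ 3 + 1 * x ^ 4) (by rw [hk]; ring) 2 _ (h'.trans (dvd_of_eq ?_))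
    ring
  replace h' : k ∣ (1 : ℤ) ^ 4 * ((-3 : ℤ) * (5 : ℤ) ^ 8 * (11 : ℤ) ^ 8 * (7 : ℤ) ^ 4 * (3 : ℤ) ^ 4 * (5 : ℤ) ^ 2 * (1 + 1 * x ^ 1 + 1 * x ^ 2 + 1 * x ^ 3 + 1 * x ^ 4 + 1 * x ^ 5 + 1 * x ^ 6) ^ 1 * (1 + 1 * x ^ 4) ^ 2 * (1 + 1 * x ^ 3 + 1 * x ^ 6) ^ 1 * (1 + (-1) * x ^ 1 + 1 * x ^ 2 + (-1) * x ^ 3 + 1 * x ^ 4) ^ 2 * (1 + (-1) * x ^ 2 + 1 * x ^ 4) ^ 2 * (1 + (-1) * x ^ 1 + 1 * x ^ 2 + (-1) * x ^ 3 + 1 * x ^ 4 + (-1) * x ^ 5 + 1 * x ^ 6) ^ 1 * (1 + (-1) * x ^ 1 + 1 * x ^ 3 + (-1) * x ^ 4 + 1 * x ^ 5 + (-1) * x ^ 7 + 1 * x ^ 8) ^ 1 * (1 + (-1) * x ^ 3 + 1 * x ^ 6) ^ 1 * (1 + (-1) * x ^ 2 + 1 * x ^ 4 + (-1) * x ^ 6 + 1 * x ^ 8) ^ 1 * (1 + (-1) * x ^ 4 + 1 * x ^ 8) ^ 1 * (1 + 1 * x ^ 1 + (-1)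 * x ^ 3 + (-1) * x ^ 4 + (-1) * x ^ 5 + 1 * x ^ 7 + 1 * x ^ 8) ^ 1) := by
    refine peel (s := 1) (t := 4 + 3 * x ^ 1 + (-1) * x ^ 2 + (-4) * x ^ 3 + (-3) * x ^ 4 + 1 * x ^ 5 + 4 * x ^ 6 + 2 * x ^ 7 + (-2) * x ^ 8 + (-4) * x ^ 9 + (-2) * x ^ 10 + 1 * x ^ 11 + 3 * x ^ 12 + 1 * x ^ 13 + (-2) * x ^ 14 + (-3) * x ^ 15 + (-1) * x ^ 16 + 1 * x ^ 17 + 2 * x ^ 18 + (-2) * x ^ 20 + (-2) * x ^ 21 + 1 * x ^ 23 + 1 * x ^ 24 + (-1) * x ^ 26 + (-1) * x ^ 27) (a := 1 + (-1) * x ^ 1 + 1 * x ^ 2) (by rw [hk]; ring) 4 _ (h'.trans (dvd_of_eq ?_))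
    ring
  replace h' : k ∣ (1093 : ℤ) ^ 1 * ((-3 : ℤ) * (5 : ℤ) ^ 8 * (11 : ℤ) ^ 8 * (7 : ℤ) ^ 4 * (3 : ℤ) ^ 4 * (5 : ℤ) ^ 2 * (1 : ℤ) ^ 4 * (1 + 1 * x ^ 4) ^ 2 * (1 + 1 * x ^ 3 + 1 * x ^ 6) ^ 1 * (1 + (-1) * x ^ 1 + 1 * x ^ 2 + (-1) * x ^ 3 + 1 * x ^ 4) ^ 2 * (1 + (-1) * x ^ 2 + 1 * x ^ 4) ^ 2 * (1 + (-1) * x ^ 1 + 1 * x ^ 2 + (-1) * x ^ 3 + 1 * x ^ 4 + (-1) * x ^ 5 + 1 * x ^ 6) ^ 1 * (1 + (-1) * x ^ 1 + 1 * x ^ 3 + (-1) * x ^ 4 + 1 * x ^ 5 + (-1) * x ^ 7 + 1 * x ^ 8) ^ 1 * (1 + (-1) * x ^ 3 + 1 * x ^ 6) ^ 1 * (1 + (-1) * x ^ 2 + 1 * x ^ 4 + (-1) * x ^ 6 + 1 * x ^ 8) ^ 1 * (1 + (-1) * x ^ 4 + 1 * x ^ 8) ^ 1 * (1 + 1 * x ^ 1 + (-1) * x ^ 3 + (-1) * x ^ 4 + (-1) * x ^ 5 + 1 * x ^ 7 + 1 * x ^ 8) ^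 1) := by
    refine peel (s := (-364) + (-121) * x ^ 1 + (-40) * x ^ 2 + (-13) * x ^ 3 + (-4) * x ^ 4 + (-1) * x ^ 5) (t := 1 + 364 * x ^ 7 + (-243) * x ^ 8 + (-81) * x ^ 9 + (-27) * x ^ 10 + 355 * x ^ 11 + (-246) * x ^ 12 + 282 * x ^ 13 + 94 * x ^ 14 + (-333) * x ^ 15 + (-111) * x ^ 16 + 327 * x ^ 17 + 109 * x ^ 18 + 36 * x ^ 19 + 12 * x ^ 20 + 4 * x ^ 21 + (-363) * x ^ 22 + 243 * x ^ 23 + 81 * x ^ 24 + 27 * x ^ 25 + 9 * x ^ 26 + 3 * x ^ 27 + 1 * x ^ 28) (a := 1 + 1 * x ^ 1 + 1 * x ^ 2 + 1 * x ^ 3 + 1 * x ^ 4 + 1 * x ^ 5 + 1 * x ^ 6) (by rw [hk]; ring) 1 _ (h'.trans (dvd_of_eq ?_))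
    ring
  replace h' : k ∣ (3 : ℤ) ^ 2 * ((-3 : ℤ) * (5 : ℤ) ^ 8 * (11 : ℤ) ^ 8 * (7 : ℤ) ^ 4 * (3 : ℤ) ^ 4 * (5 : ℤ) ^ 2 * (1 : ℤ) ^ 4 * (1093 : ℤ) ^ 1 * (1 + 1 * x ^ 3 + 1 * x ^ 6) ^ 1 * (1 + (-1) * x ^ 1 + 1 * x ^ 2 + (-1) * x ^ 3 + 1 * x ^ 4) ^ 2 * (1 + (-1) * x ^ 2 + 1 * x ^ 4) ^ 2 * (1 + (-1) * x ^ 1 + 1 * x ^ 2 + (-1) * x ^ 3 + 1 * x ^ 4 + (-1) * x ^ 5 + 1 * x ^ 6) ^ 1 * (1 + (-1) * x ^ 1 + 1 * x ^ 3 + (-1) * x ^ 4 + 1 * x ^ 5 + (-1) * x ^ 7 + 1 * x ^ 8) ^ 1 * (1 + (-1) * x ^ 3 + 1 * x ^ 6) ^ 1 * (1 + (-1) * x ^ 2 + 1 * x ^ 4 + (-1) * x ^ 6 + 1 * x ^ 8) ^ 1 * (1 + (-1) * x ^ 4 + 1 * x ^ 8) ^ 1 * (1 + 1 * x ^ 1 + (-1) * x ^ 3 + (-1) * x ^ 4 + (-1) * x ^ 5 + 1 * x ^ 7 + 1 * x ^ 8) ^ 1) := by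
    refine peel (s := (-1)) (t := 1 * x ^ 1 + (-1) * x ^ 5 + 1 * x ^ 7 + 1 * x ^ 9 + 1 * x ^ 17 + 1 * x ^ 19 + (-1) * x ^ 21 + 1 * x ^ 25) (a := 1 + 1 * x ^ 4) (by rw [hk]; ring) 2 _ (h'.trans (dvd_of_eq ?_))
    ring
  replace h' : k ∣ (1117 : ℤ) ^ 1 * ((-3 : ℤ) * (5 : ℤ) ^ 8 * (11 : ℤ) ^ 8 * (7 : ℤ) ^ 4 * (3 : ℤ) ^ 4 * (5 : ℤ) ^ 2 * (1 : ℤ) ^ 4 * (1093 : ℤ) ^ 1 * (3 : ℤ) ^ 2 * (1 + (-1) * x ^ 1 + 1 * x ^ 2 + (-1) * x ^ 3 + 1 * x ^ 4) ^ 2 * (1 + (-1) * x ^ 2 + 1 * x ^ 4) ^ 2 * (1 + (-1) * x ^ 1 + 1 * x ^ 2 + (-1) * x ^ 3 + 1 * x ^ 4 + (-1) * x ^ 5 + 1 * x ^ 6) ^ 1 * (1 + (-1) * x ^ 1 + 1 * x ^ 3 + (-1) * x ^ 4 + 1 * x ^ 5 + (-1) * x ^ 7 + 1 * x ^ 8) ^ 1 * (1 + (-1) * x ^ 3 + 1 * x ^ 6) ^ 1 * (1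 + (-1) * x ^ 2 + 1 * x ^ 4 + (-1) * x ^ 6 + 1 * x ^ 8) ^ 1 * (1 + (-1) * x ^ 4 + 1 * x ^ 8) ^ 1 * (1 + 1 * x ^ 1 + (-1) * x ^ 3 + (-1) * x ^ 4 + (-1) * x ^ 5 + 1 * x ^ 7 + 1 * x ^ 8) ^ 1) := by
    refine peel (s := (-342) + (-102) * x ^ 1 + (-148) * x ^ 2 + (-53) * x ^ 3 + (-55) * x ^ 4 + (-36) * x ^ 5) (t := 91 + 36 * x ^ 1 + (-342) * x ^ 2 + (-102) * x ^ 3 + (-148) * x ^ 4 + 289 * x ^ 5 + 47 * x ^ 6 + 454 * x ^ 7 + 155 * x ^ 8 + 203 * x ^ 9 + (-253) * x ^ 10 + (-47) * x ^ 11 + (-112) * x ^ 12 + 289 * x ^ 13 + 47 * x ^ 14 + 112 * x ^ 15 + 53 * x ^ 16 + 397 * x ^ 17 + 138 * x ^ 18 + 148 * x ^ 19 + (-289) * x ^ 20 + (-47) * x ^ 21 + (-112) * x ^ 22 + 289 * x ^ 23 + 47 * x ^ 24 + 112 * x ^ 25 + 53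 * x ^ 26 + 55 * x ^ 27 + 36 * x ^ 28) (a := 1 + 1 * x ^ 3 + 1 * x ^ 6) (by rw [hk]; ring) 1 _ (h'.trans (dvd_of_eq ?_))
    ring
  replace h' : k ∣ (1 : ℤ) ^ 2 * ((-3 : ℤ) * (5 : ℤ) ^ 8 * (11 : ℤ) ^ 8 * (7 : ℤ) ^ 4 * (3 : ℤ) ^ 4 * (5 : ℤ) ^ 2 * (1 : ℤ) ^ 4 * (1093 : ℤ) ^ 1 * (3 : ℤ) ^ 2 * (1117 : ℤ) ^ 1 * (1 + (-1) * x ^ 2 + 1 * x ^ 4) ^ 2 * (1 + (-1) * x ^ 1 + 1 * x ^ 2 + (-1) * x ^ 3 + 1 * x ^ 4 + (-1) * x ^ 5 + 1 * x ^ 6) ^ 1 * (1 + (-1) * x ^ 1 + 1 * x ^ 3 + (-1) * x ^ 4 + 1 * x ^ 5 + (-1) * x ^ 7 + 1 * x ^ 8) ^ 1 * (1 + (-1) * x ^ 3 + 1 * x ^ 6) ^ 1 * (1 + (-1) * x ^ 2 + 1 * x ^ 4 + (-1) * x ^ 6 + 1 * x ^ 8) ^ 1 * (1 + (-1) * x ^ 4 + 1 * x ^ 8) ^ 1 * (1 + 1 * x ^ 1 + (-1) * x ^ 3 + (-1) * x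 ^ 4 + (-1) * x ^ 5 + 1 * x ^ 7 + 1 * x ^ 8) ^ 1) := by
    refine peel (s := (-1)) (t := (-2) + (-1) * x ^ 1 + 1 * x ^ 2 + 2 * x ^ 5 + 1 * x ^ 6 + 1 * x ^ 8 + (-2) * x ^ 10 + 1 * x ^ 12 + 1 * x ^ 14 + 2 * x ^ 15 + 1 * x ^ 18 + (-1) * x ^ 20 + 1 * x ^ 24 + 1 * x ^ 25) (a := 1 + (-1) * x ^ 1 + 1 * x ^ 2 + (-1) * x ^ 3 + 1 * x ^ 4) (by rw [hk]; ring) 2 _ (h'.trans (dvd_of_eq ?_))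
    ring
  replace h' : k ∣ (3 : ℤ) ^ 2 * ((-3 : ℤ) * (5 : ℤ) ^ 8 * (11 : ℤ) ^ 8 * (7 : ℤ) ^ 4 * (3 : ℤ) ^ 4 * (5 : ℤ) ^ 2 * (1 : ℤ) ^ 4 * (1093 : ℤ) ^ 1 * (3 : ℤ) ^ 2 * (1117 : ℤ) ^ 1 * (1 : ℤ) ^ 2 * (1 + (-1) * x ^ 1 + 1 * x ^ 2 + (-1) * x ^ 3 + 1 * x ^ 4 + (-1) * x ^ 5 + 1 * x ^ 6) ^ 1 * (1 + (-1) * x ^ 1 + 1 * x ^ 3 + (-1) * x ^ 4 + 1 * x ^ 5 + (-1) * x ^ 7 + 1 * x ^ 8) ^ 1 * (1 + (-1) * x ^ 3 + 1 * x ^ 6) ^ 1 * (1 + (-1) * x ^ 2 + 1 * x ^ 4 + (-1) * x ^ 6 + 1 * x ^ 8) ^ 1 * (1 + (-1) * x ^ 4 + 1 * x ^ 8) ^ 1 * (1 + 1 * x ^ 1 + (-1) * x ^ 3 + (-1) * x ^ 4 + (-1) * x ^ 5 + 1 * x ^ 7 + 1 * x ^ 8) ^ 1) := by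
    refine peel (s := (-1)) (t := 1 * x ^ 1 + 1 * x ^ 3 + 1 * x ^ 11 + 2 * x ^ 13 + 1 * x ^ 15 + 1 * x ^ 23 + 1 * x ^ 25) (a := 1 + (-1) * x ^ 2 + 1 * x ^ 4) (by rw [hk]; ring) 2 _ (h'.trans (dvd_of_eq ?_))
    ring
  replace h' : k ∣ (547 : ℤ) ^ 1 * ((-3 : ℤ) * (5 : ℤ) ^ 8 * (11 : ℤ) ^ 8 * (7 : ℤ) ^ 4 * (3 : ℤ) ^ 4 * (5 : ℤ) ^ 2 * (1 : ℤ) ^ 4 * (1093 : ℤ) ^ 1 * (3 : ℤ) ^ 2 * (1117 : ℤ) ^ 1 * (1 : ℤ) ^ 2 * (3 : ℤ) ^ 2 * (1 + (-1) * x ^ 1 + 1 * x ^ 3 + (-1) * x ^ 4 + 1 * x ^ 5 + (-1) * x ^ 7 + 1 * x ^ 8) ^ 1 * (1 + (-1) * x ^ 3 + 1 * x ^ 6) ^ 1 * (1 + (-1) * x ^ 2 + 1 * x ^ 4 + (-1) * x ^ 6 + 1 * x ^ 8) ^ 1 * (1 + (-1) * x ^ 4 + 1 * x ^ 8) ^ 1 * (1 + 1 * x ^ 1 + (-1) * x ^ 3 + (-1) * x ^ 4 + (-1)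 * x ^ 5 + 1 * x ^ 7 + 1 * x ^ 8) ^ 1) := by
    refine peel (s := (-182) + (-61) * x ^ 1 + (-20) * x ^ 2 + (-7) * x ^ 3 + (-2) * x ^ 4 + (-1) * x ^ 5) (t := 1 + 182 * x ^ 7 + 243 * x ^ 8 + 81 * x ^ 9 + 27 * x ^ 10 + 191 * x ^ 11 + 246 * x ^ 12 + 264 * x ^ 13 + 88 * x ^ 14 + (-153) * x ^ 15 + (-51) * x ^ 16 + 165 * x ^ 17 + 55 * x ^ 18 + 18 * x ^ 19 + 6 * x ^ 20 + 2 * x ^ 21 + 183 * x ^ 22 + 243 * x ^ 23 + 81 * x ^ 24 + 27 * x ^ 25 + 9 * x ^ 26 + 3 * x ^ 27 + 1 * x ^ 28) (a := 1 + (-1) * x ^ 1 + 1 * x ^ 2 + (-1) * x ^ 3 + 1 * x ^ 4 + (-1) * x ^ 5 + 1 * x ^ 6) (by rw [hk]; ring) 1 _ (h'.trans (dvd_of_eq ?_))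
    ring
  replace h' : k ∣ (2 : ℤ) ^ 1 * ((-3 : ℤ) * (5 : ℤ) ^ 8 * (11 : ℤ) ^ 8 * (7 : ℤ) ^ 4 * (3 : ℤ) ^ 4 * (5 : ℤ) ^ 2 * (1 : ℤ) ^ 4 * (1093 : ℤ) ^ 1 * (3 : ℤ) ^ 2 * (1117 : ℤ) ^ 1 * (1 : ℤ) ^ 2 * (3 : ℤ) ^ 2 * (547 : ℤ) ^ 1 * (1 + (-1) * x ^ 3 + 1 * x ^ 6) ^ 1 * (1 + (-1) * x ^ 2 + 1 * x ^ 4 + (-1) * x ^ 6 + 1 * x ^ 8) ^ 1 * (1 + (-1) * x ^ 4 + 1 * x ^ 8) ^ 1 * (1 + 1 * x ^ 1 + (-1) * x ^ 3 + (-1) * x ^ 4 + (-1) * x ^ 5 + 1 * x ^ 7 + 1 * x ^ 8) ^ 1) := by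
    refine peel (s := (-1)) (t := (-1) + 1 * x ^ 3 + 1 * x ^ 5 + 1 * x ^ 7 + 1 * x ^ 9 + 1 * x ^ 11 + 1 * x ^ 13 + (-1) * x ^ 16 + 1 * x ^ 19 + 1 * x ^ 20 + 1 * x ^ 21) (a := 1 + (-1) * x ^ 1 + 1 * x ^ 3 + (-1) * x ^ 4 + 1 * x ^ 5 + (-1) * x ^ 7 + 1 * x ^ 8) (by rw [hk]; ring) 1 _ (h'.trans (dvd_of_eq ?_))
    ring
  replace h' : k ∣ (991 : ℤ) ^ 1 * ((-3 : ℤ) * (5 : ℤ) ^ 8 * (11 : ℤ) ^ 8 * (7 : ℤ) ^ 4 * (3 : ℤ) ^ 4 * (5 : ℤ) ^ 2 * (1 : ℤ) ^ 4 * (1093 : ℤ) ^ 1 * (3 : ℤ) ^ 2 * (1117 : ℤ) ^ 1 * (1 : ℤ) ^ 2 * (3 : ℤ) ^ 2 * (547 : ℤ) ^ 1 * (2 : ℤ) ^ 1 * (1 + (-1) * x ^ 2 + 1 * x ^ 4 + (-1) * x ^ 6 + 1 * x ^ 8) ^ 1 * (1 + (-1) * x ^ 4 + 1 * x ^ 8) ^ 1 * (1 + 1 * x ^ 1 + (-1) * x ^ 3 + (-1) * x ^ 4 + (-1)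 * x ^ 5 + 1 * x ^ 7 + 1 * x ^ 8) ^ 1) := by
    refine peel (s := (-324) + (-114) * x ^ 1 + 70 * x ^ 2 + 55 * x ^ 3 + 1 * x ^ 4 + (-18) * x ^ 5) (t := 19 + (-18) * x ^ 1 + 324 * x ^ 2 + 114 * x ^ 3 + (-70) * x ^ 4 + 269 * x ^ 5 + 113 * x ^ 6 + 272 * x ^ 7 + 59 * x ^ 8 + (-71) * x ^ 9 + 287 * x ^ 10 + 113 * x ^ 11 + (-52) * x ^ 12 + 269 * x ^ 13 + 113 * x ^ 14 + (-52) * x ^ 15 + (-55) * x ^ 16 + 323 * x ^ 17 + 132 * x ^ 18 + (-70) * x ^ 19 + 269 * x ^ 20 + 113 * x ^ 21 + (-52) * x ^ 22 + 269 * x ^ 23 + 113 * x ^ 24 + (-52) * x ^ 25 + (-55) * x ^ 26 + (-1) * x ^ 27 + 18 * x ^ 28) (a := 1 + (-1) * x ^ 3 + 1 * x ^ 6) (by rw [hk]; ring) 1 _ (h'.trans (dvd_of_eq ?_))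
    ring
  replace h' : k ∣ (3 : ℤ) ^ 1 * ((-3 : ℤ) * (5 : ℤ) ^ 8 * (11 : ℤ) ^ 8 * (7 : ℤ) ^ 4 * (3 : ℤ) ^ 4 * (5 : ℤ) ^ 2 * (1 : ℤ) ^ 4 * (1093 : ℤ) ^ 1 * (3 : ℤ) ^ 2 * (1117 : ℤ) ^ 1 * (1 : ℤ) ^ 2 * (3 : ℤ) ^ 2 * (547 : ℤ) ^ 1 * (2 : ℤ) ^ 1 * (991 : ℤ) ^ 1 * (1 + (-1) * x ^ 4 + 1 * x ^ 8) ^ 1 * (1 + 1 * x ^ 1 + (-1) * x ^ 3 + (-1) * x ^ 4 + (-1) * x ^ 5 + 1 * x ^ 7 + 1 * x ^ 8) ^ 1) := by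
    refine peel (s := (-1)) (t := 1 * x ^ 1 + 1 * x ^ 3 + 1 * x ^ 7 + 1 * x ^ 9 + 1 * x ^ 13 + 1 * x ^ 15 + 1 * x ^ 19 + 1 * x ^ 21) (a := 1 + (-1) * x ^ 2 + 1 * x ^ 4 + (-1) * x ^ 6 + 1 * x ^ 8) (by rw [hk]; ring) 1 _ (h'.trans (dvd_of_eq ?_))
    ring
  replace h' : k ∣ (3 : ℤ) ^ 1 * ((-3 : ℤ) * (5 : ℤ) ^ 8 * (11 : ℤ) ^ 8 * (7 : ℤ) ^ 4 * (3 : ℤ) ^ 4 * (5 : ℤ) ^ 2 * (1 : ℤ) ^ 4 * (1093 : ℤ) ^ 1 * (3 : ℤ) ^ 2 * (1117 : ℤ) ^ 1 * (1 : ℤ) ^ 2 * (3 : ℤ) ^ 2 * (547 : ℤ) ^ 1 * (2 : ℤ) ^ 1 * (991 : ℤ) ^ 1 * (3 : ℤ) ^ 1 * (1 + 1 * x ^ 1 + (-1) * x ^ 3 + (-1) * x ^ 4 + (-1) * x ^ 5 + 1 * x ^ 7 + 1 * x ^ 8) ^ 1) := by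
    refine peel (s := (-1)) (t := 1 * x ^ 1 + 1 * x ^ 5 + 1 * x ^ 7 + 2 * x ^ 11 + 1 * x ^ 15 + 1 * x ^ 17 + 1 * x ^ 21) (a := 1 + (-1) * x ^ 4 + 1 * x ^ 8) (by rw [hk]; ring) 1 _ (h'.trans (dvd_of_eq ?_))
    ring
  replace h' : k ∣ (4 : ℤ) ^ 1 * ((-3 : ℤ) * (5 : ℤ) ^ 8 * (11 : ℤ) ^ 8 * (7 : ℤ) ^ 4 * (3 : ℤ) ^ 4 * (5 : ℤ) ^ 2 * (1 : ℤ) ^ 4 * (1093 : ℤ) ^ 1 * (3 : ℤ) ^ 2 * (1117 : ℤ) ^ 1 * (1 : ℤ) ^ 2 * (3 : ℤ) ^ 2 * (547 : ℤ) ^ 1 * (2 : ℤ) ^ 1 * (991 : ℤ) ^ 1 * (3 : ℤ) ^ 1 * (3 : ℤ) ^ 1) := by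
    refine peel (s := (-1)) (t := 1 + 1 * x ^ 3 + 1 * x ^ 5 + 1 * x ^ 7 + 1 * x ^ 9 + 1 * x ^ 11 + 1 * x ^ 13 + 1 * x ^ 16 + 1 * x ^ 19 + (-1) * x ^ 20 + 1 * x ^ 21) (a := 1 + 1 * x ^ 1 + (-1) * x ^ 3 + (-1) * x ^ 4 + (-1) * x ^ 5 + 1 * x ^ 7 + 1 * x ^ 8) (by rw [hk]; ring) 1 _ (h'.trans (dvd_of_eq ?_))
    ring
  have hpos : (0 : ℤ) < k ∧ (4714024002223600272116090074921875000 : ℤ) < k := by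
    obtain ⟨w, hw⟩ : ∃ w : ℕ, q = w + 250 := ⟨q - 250, by omega⟩
    have e1 : 1 * k = x ^ 29 + (14210854718840040732175126672029495239318847656250000247 + 1307398634075074689462781727324485778810302734375000001 * (w : ℤ) ^ 1 + 57525539897091347724199313640804290771504882812500000 * (w : ℤ) ^ 2 + 1610715117065471336245537076952590942382949218750000 * (w : ℤ) ^ 3 + 32214302340406959950923922405263061523438046875000 * (w : ℤ) ^ 4 + 489657395562634240865707417099111816406251312500 * (w : ℤ) ^ 5 + 5875888746636095613479614362549279296875001750 * (w : ℤ) ^ 6 + 57080062109255094001770019950196601562500001 * (w : ℤ) ^ 7 + 456640496868033978691101075475588515625000 * (w : ℤ) ^ 8 + 3044269979088190449676513674667972187500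 * (w : ℤ) ^ 9 + 17047911882752907986328125004468752750 * (w : ℤ) ^ 10 + 80590128899773898285156250004875001 * (w : ℤ) ^ 11 + 322360515597557867371093750003250 * (w : ℤ) ^ 12 + 1091066360480256845234375000001 * (w : ℤ) ^ 13 + 3117332458507449229375000000 * (w : ℤ) ^ 14 + 7481597900405765633500000 * (w : ℤ) ^ 15 + 14963195800796390629250 * (w : ℤ) ^ 16 + 24645263671885687501 * (w : ℤ) ^ 17 + 32860351562504750 * (w : ℤ) ^ 18 + 34589843750001 * (w : ℤ) ^ 19 + 27671875000 * (w : ℤ) ^ 20 + 15812500 * (w : ℤ) ^ 21 + 5750 * (w : ℤ) ^ 22 + 1 * (w : ℤ) ^ 23) := by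
      rw [hk, hx, hw]; push_cast; ring
    have e2 : (250 : ℤ) ^ 29 ≤ x ^ 29 := pow_le_pow_left₀ (by norm_num) (by rw [hx]; exact_mod_cast hq0) _
    have e3 : (0 : ℤ) ≤ 14210854718840040732175126672029495239318847656250000247 + 1307398634075074689462781727324485778810302734375000001 * (w : ℤ) ^ 1 + 57525539897091347724199313640804290771504882812500000 * (w : ℤ) ^ 2 + 1610715117065471336245537076952590942382949218750000 * (w : ℤ) ^ 3 + 32214302340406959950923922405263061523438046875000 * (w : ℤ) ^ 4 + 489657395562634240865707417099111816406251312500 * (w : ℤ) ^ 5 + 5875888746636095613479614362549279296875001750 * (w : ℤ) ^ 6 + 57080062109255094001770019950196601562500001 * (w : ℤ) ^ 7 + 456640496868033978691101075475588515625000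 * (w : ℤ) ^ 8 + 3044269979088190449676513674667972187500 * (w : ℤ) ^ 9 + 17047911882752907986328125004468752750 * (w : ℤ) ^ 10 + 80590128899773898285156250004875001 * (w : ℤ) ^ 11 + 322360515597557867371093750003250 * (w : ℤ) ^ 12 + 1091066360480256845234375000001 * (w : ℤ) ^ 13 + 3117332458507449229375000000 * (w : ℤ) ^ 14 + 7481597900405765633500000 * (w : ℤ) ^ 15 + 14963195800796390629250 * (w : ℤ) ^ 16 + 24645263671885687501 * (w : ℤ) ^ 17 + 32860351562504750 * (w : ℤ) ^ 18 + 34589843750001 * (w : ℤ) ^ 19 + 27671875000 * (w : ℤ) ^ 20 + 15812500 * (w : ℤ) ^ 21 + 5750 * (w : ℤ) ^ 22 + 1 * (w : ℤ) ^ 23 := by positivity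
    norm_num at e2
    constructor <;> linarith
  have := Int.le_of_dvd (by norm_num) (dvd_abs _ _ |>.2 h')
  norm_num at this
  linarith [hpos.1, hpos.2]

theorem not_dvd_4 {q : ℕ} (hq : IsPrimePow q) (hq0 : 250 ≤ q) : ¬ (bnd q - 4) ∣ ord' q := by
  intro h
  have hle : 4 ≤ bnd q := by
    have h1 : 1 ≤ (q ^ 12 + 1) * (q ^ 10 + 1) * (q ^ 6 + 1) := Nat.one_le_iff_ne_zero.2 (by positivity)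
    calc 4 ≤ q * 1 := by omega
      _ ≤ _ := by rw [bnd, mul_assoc, mul_assoc, ← mul_assoc (q ^ 12 + 1)]; exact Nat.mul_le_mul_left _ h1
  have h' : ((bnd q - 4 : ℕ) : ℤ) ∣ (ord' q : ℤ) := Int.natCast_dvd_natCast.2 h
  rw [Nat.cast_sub hle, ord'_cast (by omega)] at h'
  simp only [bnd, Nat.cast_mul, Nat.cast_add, Nat.cast_pow, Nat.cast_one, Nat.cast_ofNat] at h'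
  set x : ℤ := (q : ℤ) with hx
  set k : ℤ := (-4) + (-3) * x ^ 1 + 1 * x ^ 2 + 4 * x ^ 3 + 3 * x ^ 4 + (-1) * x ^ 5 + (-4) * x ^ 6 + (-2) * x ^ 7 + 2 * x ^ 8 + 4 * x ^ 9 + 2 * x ^ 10 + (-1) * x ^ 11 + (-3) * x ^ 12 + (-1) * x ^ 13 + 2 * x ^ 14 + 3 * x ^ 15 + 1 * x ^ 16 + (-1) * x ^ 17 + (-2) * x ^ 18 + 2 * x ^ 20 + 2 * x ^ 21 + (-1) * x ^ 23 + (-1) * x ^ 24 + 1 * x ^ 26 + 1 * x ^ 27 with hk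
  replace h' : k ∣ x ^ 120 * (((-1) + 1 * x ^ 1) ^ 8 * (1 + 1 * x ^ 1) ^ 8 * (1 + 1 * x ^ 1 + 1 * x ^ 2) ^ 4 * (1 + 1 * x ^ 2) ^ 4 * (1 + 1 * x ^ 1 + 1 * x ^ 2 + 1 * x ^ 3 + 1 * x ^ 4) ^ 2 * (1 + (-1) * x ^ 1 + 1 * x ^ 2) ^ 4 * (1 + 1 * x ^ 1 + 1 * x ^ 2 + 1 * x ^ 3 + 1 * x ^ 4 + 1 * x ^ 5 + 1 * x ^ 6) ^ 1 * (1 + 1 * x ^ 4) ^ 2 * (1 + 1 * x ^ 3 + 1 * x ^ 6) ^ 1 * (1 + (-1) * x ^ 1 + 1 * x ^ 2 + (-1) * x ^ 3 + 1 * x ^ 4) ^ 2 * (1 + (-1) * x ^ 2 + 1 * x ^ 4) ^ 2 * (1 + (-1) * x ^ 1 + 1 * x ^ 2 + (-1) * x ^ 3 + 1 * x ^ 4 + (-1) * x ^ 5 + 1 * x ^ 6) ^ 1 * (1 + (-1) * x ^ 1 + 1 * x ^ 3 + (-1) * x ^ 4 + 1 * x ^ 5 + (-1) * x ^ 7 + 1 * x ^ 8) ^ 1 * (1 + (-1) * x ^ 3 + 1 * x ^ 6) ^ 1 * (1 + (-1) * x ^ 2 +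 1 * x ^ 4 + (-1) * x ^ 6 + 1 * x ^ 8) ^ 1 * (1 + (-1) * x ^ 4 + 1 * x ^ 8) ^ 1 * (1 + 1 * x ^ 1 + (-1) * x ^ 3 + (-1) * x ^ 4 + (-1) * x ^ 5 + 1 * x ^ 7 + 1 * x ^ 8) ^ 1) := by
    refine dvd_trans ⟨1 + (-1) * x ^ 1 + 1 * x ^ 2, ?_⟩ h'
    rw [hk]; ring
  replace h' := peel_prime_pow hq (r := (-3) + 1 * x ^ 1 + 4 * x ^ 2 + 3 * x ^ 3 + (-1) * x ^ 4 + (-4) * x ^ 5 + (-2) * x ^ 6 + 2 * x ^ 7 + 4 * x ^ 8 + 2 * x ^ 9 + (-1) * x ^ 10 + (-3) * x ^ 11 + (-1) * x ^ 12 + 2 * x ^ 13 + 3 * x ^ 14 + 1 * x ^ 15 + (-1) * x ^ 16 + (-2) * x ^ 17 + 2 * x ^ 19 + 2 * x ^ 20 + (-1) * x ^ 22 + (-1) * x ^ 23 + 1 * x ^ 25 + 1 * x ^ 26) (c := -4) (by rw [hk]; ring) (by norm_num) (by norm_num; omega) h'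
  simp only [← mul_assoc] at h'
  replace h' : k ∣ (4 : ℤ) ^ 8 * ((-4 : ℤ) * (1 + 1 * x ^ 1) ^ 8 * (1 + 1 * x ^ 1 + 1 * x ^ 2) ^ 4 * (1 + 1 * x ^ 2) ^ 4 * (1 + 1 * x ^ 1 + 1 * x ^ 2 + 1 * x ^ 3 + 1 * x ^ 4) ^ 2 * (1 + (-1) * x ^ 1 + 1 * x ^ 2) ^ 4 * (1 + 1 * x ^ 1 + 1 * x ^ 2 + 1 * x ^ 3 + 1 * x ^ 4 + 1 * x ^ 5 + 1 * x ^ 6) ^ 1 * (1 + 1 * x ^ 4) ^ 2 * (1 + 1 * x ^ 3 + 1 * x ^ 6) ^ 1 * (1 + (-1) * x ^ 1 + 1 * x ^ 2 + (-1) * x ^ 3 + 1 * x ^ 4) ^ 2 * (1 + (-1) * x ^ 2 + 1 * x ^ 4) ^ 2 * (1 + (-1) * x ^ 1 + 1 * x ^ 2 + (-1) * x ^ 3 + 1 * x ^ 4 + (-1) * x ^ 5 + 1 * x ^ 6) ^ 1 * (1 + (-1) * x ^ 1 + 1 * x ^ 3 + (-1) * x ^ 4 + 1 * x ^ 5 + (-1) * x ^ 7 + 1 * x ^ 8) ^ 1 * (1 + (-1) * x ^ 3 + 1 * x ^ 6) ^ 1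 * (1 + (-1) * x ^ 2 + 1 * x ^ 4 + (-1) * x ^ 6 + 1 * x ^ 8) ^ 1 * (1 + (-1) * x ^ 4 + 1 * x ^ 8) ^ 1 * (1 + 1 * x ^ 1 + (-1) * x ^ 3 + (-1) * x ^ 4 + (-1) * x ^ 5 + 1 * x ^ 7 + 1 * x ^ 8) ^ 1) := by
    refine peel (s := 1) (t := (-8) + (-11) * x ^ 1 + (-10) * x ^ 2 + (-6) * x ^ 3 + (-3) * x ^ 4 + (-4) * x ^ 5 + (-8) * x ^ 6 + (-10) * x ^ 7 + (-8) * x ^ 8 + (-4) * x ^ 9 + (-2) * x ^ 10 + (-3) * x ^ 11 + (-6) * x ^ 12 + (-7) * x ^ 13 + (-5) * x ^ 14 + (-2) * x ^ 15 + (-1) * x ^ 16 + (-2) * x ^ 17 + (-4) * x ^ 18 + (-4) * x ^ 19 + (-2) * x ^ 20 + (-1) * x ^ 23 + (-2) * x ^ 24 + (-2) * x ^ 25 + (-1) * x ^ 26) (a := (-1) + 1 * x ^ 1) (by rw [hk]; ring) 8 _ (h'.trans (dvd_of_eq ?_))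
    ring
  replace h' : k ∣ (4 : ℤ) ^ 8 * ((-4 : ℤ) * (4 : ℤ) ^ 8 * (1 + 1 * x ^ 1 + 1 * x ^ 2) ^ 4 * (1 + 1 * x ^ 2) ^ 4 * (1 + 1 * x ^ 1 + 1 * x ^ 2 + 1 * x ^ 3 + 1 * x ^ 4) ^ 2 * (1 + (-1) * x ^ 1 + 1 * x ^ 2) ^ 4 * (1 + 1 * x ^ 1 + 1 * x ^ 2 + 1 * x ^ 3 + 1 * x ^ 4 + 1 * x ^ 5 + 1 * x ^ 6) ^ 1 * (1 + 1 * x ^ 4) ^ 2 * (1 + 1 * x ^ 3 + 1 * x ^ 6) ^ 1 * (1 + (-1) * x ^ 1 + 1 * x ^ 2 + (-1) * x ^ 3 + 1 * x ^ 4) ^ 2 * (1 + (-1) * x ^ 2 + 1 * x ^ 4) ^ 2 * (1 + (-1) * x ^ 1 + 1 * x ^ 2 + (-1) * x ^ 3 + 1 * x ^ 4 + (-1) * x ^ 5 + 1 * x ^ 6) ^ 1 * (1 + (-1) * x ^ 1 + 1 * x ^ 3 + (-1) * x ^ 4 + 1 * x ^ 5 + (-1) * x ^ 7 + 1 * x ^ 8) ^ 1 * (1 + (-1) * x ^ 3 + 1 * x ^ 6) ^ 1 * (1 + (-1) * x ^ 2 + 1 * x ^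 4 + (-1) * x ^ 6 + 1 * x ^ 8) ^ 1 * (1 + (-1) * x ^ 4 + 1 * x ^ 8) ^ 1 * (1 + 1 * x ^ 1 + (-1) * x ^ 3 + (-1) * x ^ 4 + (-1) * x ^ 5 + 1 * x ^ 7 + 1 * x ^ 8) ^ 1) := by
    refine peel (s := (-1)) (t := (-3) * x ^ 1 + 4 * x ^ 2 + 3 * x ^ 4 + (-4) * x ^ 5 + (-2) * x ^ 7 + 4 * x ^ 8 + 2 * x ^ 10 + (-3) * x ^ 11 + (-1) * x ^ 13 + 3 * x ^ 14 + 1 * x ^ 16 + (-2) * x ^ 17 + 2 * x ^ 20 + (-1) * x ^ 23 + 1 * x ^ 26) (a := 1 + 1 * x ^ 1) (by rw [hk]; ring) 8 _ (h'.trans (dvd_of_eq ?_))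
    ring
  replace h' : k ∣ (4 : ℤ) ^ 4 * ((-4 : ℤ) * (4 : ℤ) ^ 8 * (4 : ℤ) ^ 8 * (1 + 1 * x ^ 2) ^ 4 * (1 + 1 * x ^ 1 + 1 * x ^ 2 + 1 * x ^ 3 + 1 * x ^ 4) ^ 2 * (1 + (-1) * x ^ 1 + 1 * x ^ 2) ^ 4 * (1 + 1 * x ^ 1 + 1 * x ^ 2 + 1 * x ^ 3 + 1 * x ^ 4 + 1 * x ^ 5 + 1 * x ^ 6) ^ 1 * (1 + 1 * x ^ 4) ^ 2 * (1 + 1 * x ^ 3 + 1 * x ^ 6) ^ 1 * (1 + (-1) * x ^ 1 + 1 * x ^ 2 + (-1) * x ^ 3 + 1 * x ^ 4) ^ 2 * (1 + (-1) * x ^ 2 + 1 * x ^ 4) ^ 2 * (1 + (-1) * x ^ 1 + 1 * x ^ 2 + (-1) * x ^ 3 + 1 * x ^ 4 + (-1) * x ^ 5 + 1 * x ^ 6) ^ 1 * (1 + (-1) * x ^ 1 + 1 * x ^ 3 + (-1) * x ^ 4 + 1 * x ^ 5 + (-1) * x ^ 7 + 1 * x ^ 8) ^ 1 * (1 + (-1) * x ^ 3 + 1 * x ^ 6) ^ 1 * (1 + (-1) * x ^ 2 + 1 * x ^ 4 + (-1) * x ^ 6 + 1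 * x ^ 8) ^ 1 * (1 + (-1) * x ^ 4 + 1 * x ^ 8) ^ 1 * (1 + 1 * x ^ 1 + (-1) * x ^ 3 + (-1) * x ^ 4 + (-1) * x ^ 5 + 1 * x ^ 7 + 1 * x ^ 8) ^ 1) := by
    refine peel (s := 1 * x ^ 1) (t := 4 + (-1) * x ^ 2 + (-3) * x ^ 4 + 4 * x ^ 6 + (-2) * x ^ 8 + (-2) * x ^ 10 + 3 * x ^ 12 + (-2) * x ^ 14 + (-1) * x ^ 16 + 2 * x ^ 18 + (-2) * x ^ 20 + 1 * x ^ 24 + (-1) * x ^ 26) (a := 1 + 1 * x ^ 1 + 1 * x ^ 2) (by rw [hk]; ring) 4 _ (h'.trans (dvd_of_eq ?_))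
    ring
  replace h' : k ∣ (4 : ℤ) ^ 4 * ((-4 : ℤ) * (4 : ℤ) ^ 8 * (4 : ℤ) ^ 8 * (4 : ℤ) ^ 4 * (1 + 1 * x ^ 1 + 1 * x ^ 2 + 1 * x ^ 3 + 1 * x ^ 4) ^ 2 * (1 + (-1) * x ^ 1 + 1 * x ^ 2) ^ 4 * (1 + 1 * x ^ 1 + 1 * x ^ 2 + 1 * x ^ 3 + 1 * x ^ 4 + 1 * x ^ 5 + 1 * x ^ 6) ^ 1 * (1 + 1 * x ^ 4) ^ 2 * (1 + 1 * x ^ 3 + 1 * x ^ 6) ^ 1 * (1 + (-1) * x ^ 1 + 1 * x ^ 2 + (-1) * x ^ 3 + 1 * x ^ 4) ^ 2 * (1 + (-1) * x ^ 2 + 1 * x ^ 4) ^ 2 * (1 + (-1) * x ^ 1 + 1 * x ^ 2 + (-1) * x ^ 3 + 1 * x ^ 4 + (-1) * x ^ 5 + 1 * x ^ 6) ^ 1 * (1 + (-1) * x ^ 1 + 1 * x ^ 3 + (-1) * x ^ 4 + 1 * x ^ 5 + (-1) * x ^ 7 + 1 * x ^ 8) ^ 1 * (1 + (-1) * x ^ 3 + 1 * x ^ 6) ^ 1 * (1 + (-1) * x ^ 2 + 1 * x ^ 4 + (-1) * x ^ 6 + 1 * x ^ 8)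 ^ 1 * (1 + (-1) * x ^ 4 + 1 * x ^ 8) ^ 1 * (1 + 1 * x ^ 1 + (-1) * x ^ 3 + (-1) * x ^ 4 + (-1) * x ^ 5 + 1 * x ^ 7 + 1 * x ^ 8) ^ 1) := by
    refine peel (s := 1 * x ^ 1) (t := 4 + 4 * x ^ 1 + (-1) * x ^ 2 + (-5) * x ^ 3 + (-3) * x ^ 4 + 2 * x ^ 5 + 4 * x ^ 6 + 2 * x ^ 7 + (-2) * x ^ 8 + (-4) * x ^ 9 + (-2) * x ^ 10 + 2 * x ^ 11 + 3 * x ^ 12 + 1 * x ^ 13 + (-2) * x ^ 14 + (-3) * x ^ 15 + (-1) * x ^ 16 + 2 * x ^ 17 + 2 * x ^ 18 + (-2) * x ^ 20 + (-2) * x ^ 21 + 2 * x ^ 23 + 1 * x ^ 24 + (-1) * x ^ 25 + (-1) * x ^ 26) (a := 1 + 1 * x ^ 2) (by rw [hk]; ring) 4 _ (h'.trans (dvd_of_eq ?_))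
    ring
  replace h' : k ∣ (6 : ℤ) ^ 2 * ((-4 : ℤ) * (4 : ℤ) ^ 8 * (4 : ℤ) ^ 8 * (4 : ℤ) ^ 4 * (4 : ℤ) ^ 4 * (1 + (-1) * x ^ 1 + 1 * x ^ 2) ^ 4 * (1 + 1 * x ^ 1 + 1 * x ^ 2 + 1 * x ^ 3 + 1 * x ^ 4 + 1 * x ^ 5 + 1 * x ^ 6) ^ 1 * (1 + 1 * x ^ 4) ^ 2 * (1 + 1 * x ^ 3 + 1 * x ^ 6) ^ 1 * (1 + (-1) * x ^ 1 + 1 * x ^ 2 + (-1) * x ^ 3 + 1 * x ^ 4) ^ 2 * (1 + (-1) * x ^ 2 + 1 * x ^ 4) ^ 2 * (1 + (-1) * x ^ 1 + 1 * x ^ 2 + (-1) * x ^ 3 + 1 * x ^ 4 + (-1) * x ^ 5 + 1 * x ^ 6) ^ 1 * (1 + (-1) * x ^ 1 + 1 * x ^ 3 + (-1) * x ^ 4 + 1 * x ^ 5 + (-1) * x ^ 7 + 1 * x ^ 8) ^ 1 * (1 + (-1) * x ^ 3 + 1 * x ^ 6) ^ 1 * (1 + (-1) * x ^ 2 + 1 * x ^ 4 + (-1) * x ^ 6 + 1 * x ^ 8) ^ 1 * (1 + (-1) * x ^ 4 + 1 * x ^ 8) ^ 1 *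 (1 + 1 * x ^ 1 + (-1) * x ^ 3 + (-1) * x ^ 4 + (-1) * x ^ 5 + 1 * x ^ 7 + 1 * x ^ 8) ^ 1) := by
    refine peel (s := (-1) + 1 * x ^ 1 + (-1) * x ^ 2) (t := 2 + (-1) * x ^ 1 + (-1) * x ^ 2 + 2 * x ^ 5 + (-1) * x ^ 6 + (-1) * x ^ 8 + 2 * x ^ 10 + (-1) * x ^ 12 + (-1) * x ^ 14 + 2 * x ^ 15 + (-1) * x ^ 18 + 1 * x ^ 20 + (-1) * x ^ 24 + 1 * x ^ 25) (a := 1 + 1 * x ^ 1 + 1 * x ^ 2 + 1 * x ^ 3 + 1 * x ^ 4) (by rw [hk]; ring) 2 _ (h'.trans (dvd_of_eq ?_))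
    ring
  replace h' : k ∣ (40 : ℤ) ^ 4 * ((-4 : ℤ) * (4 : ℤ) ^ 8 * (4 : ℤ) ^ 8 * (4 : ℤ) ^ 4 * (4 : ℤ) ^ 4 * (6 : ℤ) ^ 2 * (1 + 1 * x ^ 1 + 1 * x ^ 2 + 1 * x ^ 3 + 1 * x ^ 4 + 1 * x ^ 5 + 1 * x ^ 6) ^ 1 * (1 + 1 * x ^ 4) ^ 2 * (1 + 1 * x ^ 3 + 1 * x ^ 6) ^ 1 * (1 + (-1) * x ^ 1 + 1 * x ^ 2 + (-1) * x ^ 3 + 1 * x ^ 4) ^ 2 * (1 + (-1) * x ^ 2 + 1 * x ^ 4) ^ 2 * (1 + (-1) * x ^ 1 + 1 * x ^ 2 + (-1) * x ^ 3 + 1 * x ^ 4 + (-1) * x ^ 5 + 1 * x ^ 6) ^ 1 * (1 + (-1) * x ^ 1 + 1 * x ^ 3 + (-1) * x ^ 4 + 1 * x ^ 5 + (-1) * x ^ 7 + 1 * x ^ 8) ^ 1 * (1 + (-1) * x ^ 3 + 1 * x ^ 6) ^ 1 * (1 + (-1) * x ^ 2 + 1 * x ^ 4 + (-1) * x ^ 6 + 1 * x ^ 8) ^ 1 * (1 + (-1) * x ^ 4 + 1 * x ^ 8) ^ 1 * (1 + 1 * x ^ 1 + (-1)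 * x ^ 3 + (-1) * x ^ 4 + (-1) * x ^ 5 + 1 * x ^ 7 + 1 * x ^ 8) ^ 1) := by
    refine peel (s := (-1)) (t := 36 + 33 * x ^ 1 + (-2) * x ^ 2 + (-31) * x ^ 3 + (-26) * x ^ 4 + 4 * x ^ 5 + 26 * x ^ 6 + 20 * x ^ 7 + (-4) * x ^ 8 + (-20) * x ^ 9 + (-14) * x ^ 10 + 5 * x ^ 11 + 16 * x ^ 12 + 10 * x ^ 13 + (-4) * x ^ 14 + (-11) * x ^ 15 + (-6) * x ^ 16 + 4 * x ^ 17 + 8 * x ^ 18 + 4 * x ^ 19 + (-2) * x ^ 20 + (-4) * x ^ 21 + (-2) * x ^ 22 + 1 * x ^ 23 + 2 * x ^ 24 + 1 * x ^ 25) (a := 1 + (-1) * x ^ 1 + 1 * x ^ 2) (by rw [hk]; ring) 4 _ (h'.trans (dvd_of_eq ?_))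
    ring
  replace h' : k ∣ (5461 : ℤ) ^ 1 * ((-4 : ℤ) * (4 : ℤ) ^ 8 * (4 : ℤ) ^ 8 * (4 : ℤ) ^ 4 * (4 : ℤ) ^ 4 * (6 : ℤ) ^ 2 * (40 : ℤ) ^ 4 * (1 + 1 * x ^ 4) ^ 2 * (1 + 1 * x ^ 3 + 1 * x ^ 6) ^ 1 * (1 + (-1) * x ^ 1 + 1 * x ^ 2 + (-1) * x ^ 3 + 1 * x ^ 4) ^ 2 * (1 + (-1) * x ^ 2 + 1 * x ^ 4) ^ 2 * (1 + (-1) * x ^ 1 + 1 * x ^ 2 + (-1) * x ^ 3 + 1 * x ^ 4 + (-1) * x ^ 5 + 1 * x ^ 6) ^ 1 * (1 + (-1) * x ^ 1 + 1 * x ^ 3 + (-1) * x ^ 4 + 1 * x ^ 5 + (-1) * x ^ 7 + 1 * x ^ 8) ^ 1 * (1 + (-1) * x ^ 3 + 1 * x ^ 6) ^ 1 * (1 + (-1) * x ^ 2 + 1 * x ^ 4 + (-1) * x ^ 6 + 1 * x ^ 8) ^ 1 * (1 + (-1) * x ^ 4 + 1 * x ^ 8) ^ 1 * (1 + 1 * x ^ 1 + (-1) * x ^ 3 + (-1) * x ^ 4 + (-1) * x ^ 5 + 1 * x ^ 7 + 1 * x ^ 8) ^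 1) := by
    refine peel (s := (-1362) + 1028 * x ^ 1 + (-1105) * x ^ 2 + (-273) * x ^ 3 + (-65) * x ^ 4 + (-13) * x ^ 5) (t := 13 + 13 * x ^ 1 + (-13) * x ^ 3 + (-13) * x ^ 4 + 13 * x ^ 6 + 1375 * x ^ 7 + (-1028) * x ^ 8 + (-270) * x ^ 9 + (-74) * x ^ 10 + 1350 * x ^ 11 + (-1018) * x ^ 12 + 1114 * x ^ 13 + 272 * x ^ 14 + (-1307) * x ^ 15 + (-330) * x ^ 16 + 1286 * x ^ 17 + 328 * x ^ 18 + 82 * x ^ 19 + 14 * x ^ 20 + (-3) * x ^ 21 + (-1366) * x ^ 22 + 1027 * x ^ 23 + 260 * x ^ 24 + 65 * x ^ 25 + 13 * x ^ 26) (a := 1 + 1 * x ^ 1 + 1 * x ^ 2 + 1 * x ^ 3 + 1 * x ^ 4 + 1 * x ^ 5 + 1 * x ^ 6) (by rw [hk]; ring) 1 _ (h'.trans (dvd_of_eq ?_))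
    ring
  replace h' : k ∣ (4 : ℤ) ^ 2 * ((-4 : ℤ) * (4 : ℤ) ^ 8 * (4 : ℤ) ^ 8 * (4 : ℤ) ^ 4 * (4 : ℤ) ^ 4 * (6 : ℤ) ^ 2 * (40 : ℤ) ^ 4 * (5461 : ℤ) ^ 1 * (1 + 1 * x ^ 3 + 1 * x ^ 6) ^ 1 * (1 + (-1) * x ^ 1 + 1 * x ^ 2 + (-1) * x ^ 3 + 1 * x ^ 4) ^ 2 * (1 + (-1) * x ^ 2 + 1 * x ^ 4) ^ 2 * (1 + (-1) * x ^ 1 + 1 * x ^ 2 + (-1) * x ^ 3 + 1 * x ^ 4 + (-1) * x ^ 5 + 1 * x ^ 6) ^ 1 * (1 + (-1) * x ^ 1 + 1 * x ^ 3 + (-1) * x ^ 4 + 1 * x ^ 5 + (-1) * x ^ 7 + 1 * x ^ 8) ^ 1 * (1 + (-1) * x ^ 3 + 1 * x ^ 6) ^ 1 * (1 + (-1) * x ^ 2 + 1 * x ^ 4 + (-1) * x ^ 6 + 1 * x ^ 8) ^ 1 * (1 + (-1) * x ^ 4 + 1 * x ^ 8) ^ 1 * (1 + 1 * x ^ 1 + (-1) * x ^ 3 + (-1) * x ^ 4 + (-1) * x ^ 5 + 1 * x ^ 7 + 1 * x ^ 8) ^ 1) := by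
    refine peel (s := (-1) + 1 * x ^ 1 + (-1) * x ^ 2) (t := 1 * x ^ 1 + (-1) * x ^ 5 + 1 * x ^ 7 + 1 * x ^ 9 + 1 * x ^ 17 + 1 * x ^ 19 + (-1) * x ^ 21 + 1 * x ^ 25) (a := 1 + 1 * x ^ 4) (by rw [hk]; ring) 2 _ (h'.trans (dvd_of_eq ?_))
    ring
  replace h' : k ∣ (5149 : ℤ) ^ 1 * ((-4 : ℤ) * (4 : ℤ) ^ 8 * (4 : ℤ) ^ 8 * (4 : ℤ) ^ 4 * (4 : ℤ) ^ 4 * (6 : ℤ) ^ 2 * (40 : ℤ) ^ 4 * (5461 : ℤ) ^ 1 * (4 : ℤ) ^ 2 * (1 + (-1) * x ^ 1 + 1 * x ^ 2 + (-1) * x ^ 3 + 1 * x ^ 4) ^ 2 * (1 + (-1) * x ^ 2 + 1 * x ^ 4) ^ 2 * (1 + (-1) * x ^ 1 + 1 * x ^ 2 + (-1) * x ^ 3 + 1 * x ^ 4 + (-1) * x ^ 5 + 1 * x ^ 6) ^ 1 * (1 + (-1) * x ^ 1 + 1 * x ^ 3 + (-1) * x ^ 4 + 1 * x ^ 5 + (-1) * x ^ 7 + 1 * x ^ 8) ^ 1 * (1 + (-1) * x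 ^ 3 + 1 * x ^ 6) ^ 1 * (1 + (-1) * x ^ 2 + 1 * x ^ 4 + (-1) * x ^ 6 + 1 * x ^ 8) ^ 1 * (1 + (-1) * x ^ 4 + 1 * x ^ 8) ^ 1 * (1 + 1 * x ^ 1 + (-1) * x ^ 3 + (-1) * x ^ 4 + (-1) * x ^ 5 + 1 * x ^ 7 + 1 * x ^ 8) ^ 1) := by
    refine peel (s := (-1191) + 1008 * x ^ 1 + (-1333) * x ^ 2 + 15 * x ^ 3 + (-311) * x ^ 4 + (-74) * x ^ 5) (t := 385 + 459 * x ^ 1 + (-1117) * x ^ 2 + (-568) * x ^ 3 + (-784) * x ^ 4 + 990 * x ^ 5 + 455 * x ^ 6 + 1915 * x ^ 7 + 437 * x ^ 8 + 166 * x ^ 9 + (-1403) * x ^ 10 + (-250) * x ^ 11 + (-106) * x ^ 12 + 1350 * x ^ 13 + 137 * x ^ 14 + 46 * x ^ 15 + (-106) * x ^ 16 + 1350 * x ^ 17 + 522 * x ^ 18 + 505 * x ^ 19 + (-1223) * x ^ 20 + (-409) * x ^ 21 + (-445) * x ^ 22 + 1170 *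 x ^ 23 + 296 * x ^ 24 + 385 * x ^ 25 + 74 * x ^ 26) (a := 1 + 1 * x ^ 3 + 1 * x ^ 6) (by rw [hk]; ring) 1 _ (h'.trans (dvd_of_eq ?_))
    ring
  replace h' : k ∣ (2 : ℤ) ^ 2 * ((-4 : ℤ) * (4 : ℤ) ^ 8 * (4 : ℤ) ^ 8 * (4 : ℤ) ^ 4 * (4 : ℤ) ^ 4 * (6 : ℤ) ^ 2 * (40 : ℤ) ^ 4 * (5461 : ℤ) ^ 1 * (4 : ℤ) ^ 2 * (5149 : ℤ) ^ 1 * (1 + (-1) * x ^ 2 + 1 * x ^ 4) ^ 2 * (1 + (-1) * x ^ 1 + 1 * x ^ 2 + (-1) * x ^ 3 + 1 * x ^ 4 + (-1) * x ^ 5 + 1 * x ^ 6) ^ 1 * (1 + (-1) * x ^ 1 + 1 * x ^ 3 + (-1) * x ^ 4 + 1 * x ^ 5 + (-1) * x ^ 7 + 1 * x ^ 8) ^ 1 * (1 + (-1) * x ^ 3 + 1 * x ^ 6) ^ 1 * (1 + (-1) * x ^ 2 + 1 * x ^ 4 + (-1) * x ^ 6 + 1 * x ^ 8) ^ 1 * (1 + (-1) * x ^ 4 + 1 * x ^ 8) ^ 1 * (1 + 1 * x ^ 1 + (-1) * x ^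 3 + (-1) * x ^ 4 + (-1) * x ^ 5 + 1 * x ^ 7 + 1 * x ^ 8) ^ 1) := by
    refine peel (s := (-1) + 1 * x ^ 1 + (-1) * x ^ 2) (t := (-2) + (-1) * x ^ 1 + 1 * x ^ 2 + 2 * x ^ 5 + 1 * x ^ 6 + 1 * x ^ 8 + (-2) * x ^ 10 + 1 * x ^ 12 + 1 * x ^ 14 + 2 * x ^ 15 + 1 * x ^ 18 + (-1) * x ^ 20 + 1 * x ^ 24 + 1 * x ^ 25) (a := 1 + (-1) * x ^ 1 + 1 * x ^ 2 + (-1) * x ^ 3 + 1 * x ^ 4) (by rw [hk]; ring) 2 _ (h'.trans (dvd_of_eq ?_))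
    ring
  replace h' : k ∣ (4 : ℤ) ^ 2 * ((-4 : ℤ) * (4 : ℤ) ^ 8 * (4 : ℤ) ^ 8 * (4 : ℤ) ^ 4 * (4 : ℤ) ^ 4 * (6 : ℤ) ^ 2 * (40 : ℤ) ^ 4 * (5461 : ℤ) ^ 1 * (4 : ℤ) ^ 2 * (5149 : ℤ) ^ 1 * (2 : ℤ) ^ 2 * (1 + (-1) * x ^ 1 + 1 * x ^ 2 + (-1) * x ^ 3 + 1 * x ^ 4 + (-1) * x ^ 5 + 1 * x ^ 6) ^ 1 * (1 + (-1) * x ^ 1 + 1 * x ^ 3 + (-1) * x ^ 4 + 1 * x ^ 5 + (-1) * x ^ 7 + 1 * x ^ 8) ^ 1 * (1 + (-1) * x ^ 3 + 1 * x ^ 6) ^ 1 * (1 + (-1) * x ^ 2 + 1 * x ^ 4 + (-1) * x ^ 6 + 1 * x ^ 8) ^ 1 * (1 + (-1) * x ^ 4 + 1 * x ^ 8) ^ 1 * (1 + 1 * x ^ 1 + (-1) * x ^ 3 + (-1) * x ^ 4 + (-1) * x ^ 5 + 1 * x ^ 7 + 1 * x ^ 8) ^ 1) := by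
    refine peel (s := (-1) + 1 * x ^ 1 + (-1) * x ^ 2) (t := 1 * x ^ 1 + 1 * x ^ 3 + 1 * x ^ 11 + 2 * x ^ 13 + 1 * x ^ 15 + 1 * x ^ 23 + 1 * x ^ 25) (a := 1 + (-1) * x ^ 2 + 1 * x ^ 4) (by rw [hk]; ring) 2 _ (h'.trans (dvd_of_eq ?_))
    ring
  replace h' : k ∣ (3277 : ℤ) ^ 1 * ((-4 : ℤ) * (4 : ℤ) ^ 8 * (4 : ℤ) ^ 8 * (4 : ℤ) ^ 4 * (4 : ℤ) ^ 4 * (6 : ℤ) ^ 2 * (40 : ℤ) ^ 4 * (5461 : ℤ) ^ 1 * (4 : ℤ) ^ 2 * (5149 : ℤ) ^ 1 * (2 : ℤ) ^ 2 * (4 : ℤ) ^ 2 * (1 + (-1) * x ^ 1 + 1 * x ^ 3 + (-1) * x ^ 4 + 1 * x ^ 5 + (-1) * x ^ 7 + 1 * x ^ 8) ^ 1 * (1 + (-1) * x ^ 3 + 1 * x ^ 6) ^ 1 * (1 + (-1) * x ^ 2 + 1 * x ^ 4 + (-1) * x ^ 6 + 1 * x ^ 8) ^ 1 * (1 + (-1) * x ^ 4 + 1 * x ^ 8) ^ 1 * (1 + 1 * x ^ 1 + (-1) *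 x ^ 3 + (-1) * x ^ 4 + (-1) * x ^ 5 + 1 * x ^ 7 + 1 * x ^ 8) ^ 1) := by
    refine peel (s := (-816) + 612 * x ^ 1 + (-663) * x ^ 2 + (-169) * x ^ 3 + (-39) * x ^ 4 + (-13) * x ^ 5) (t := 13 + 13 * x ^ 1 + (-13) * x ^ 3 + (-13) * x ^ 4 + 13 * x ^ 6 + 829 * x ^ 7 + 1020 * x ^ 8 + 242 * x ^ 9 + 54 * x ^ 10 + 836 * x ^ 11 + 1038 * x ^ 12 + 1082 * x ^ 13 + 264 * x ^ 14 + (-763) * x ^ 15 + (-194) * x ^ 16 + 774 * x ^ 17 + 200 * x ^ 18 + 50 * x ^ 19 + 6 * x ^ 20 + (-5) * x ^ 21 + 818 * x ^ 22 + 1027 * x ^ 23 + 260 * x ^ 24 + 65 * x ^ 25 + 13 * x ^ 26) (a := 1 + (-1) * x ^ 1 + 1 * x ^ 2 + (-1) * x ^ 3 + 1 * x ^ 4 + (-1) * x ^ 5 + 1 * x ^ 6) (by rw [hk]; ring) 1 _ (h'.trans (dvd_of_eq ?_))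
    ring
  replace h' : k ∣ (3 : ℤ) ^ 1 * ((-4 : ℤ) * (4 : ℤ) ^ 8 * (4 : ℤ) ^ 8 * (4 : ℤ) ^ 4 * (4 : ℤ) ^ 4 * (6 : ℤ) ^ 2 * (40 : ℤ) ^ 4 * (5461 : ℤ) ^ 1 * (4 : ℤ) ^ 2 * (5149 : ℤ) ^ 1 * (2 : ℤ) ^ 2 * (4 : ℤ) ^ 2 * (3277 : ℤ) ^ 1 * (1 + (-1) * x ^ 3 + 1 * x ^ 6) ^ 1 * (1 + (-1) * x ^ 2 + 1 * x ^ 4 + (-1) * x ^ 6 + 1 * x ^ 8) ^ 1 * (1 + (-1) * x ^ 4 + 1 * x ^ 8) ^ 1 * (1 + 1 * x ^ 1 + (-1) * x ^ 3 + (-1) * x ^ 4 + (-1) * x ^ 5 + 1 * x ^ 7 + 1 * x ^ 8) ^ 1) := by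
    refine peel (s := (-1) + 1 * x ^ 1 + (-1) * x ^ 2) (t := (-1) + 1 * x ^ 3 + 1 * x ^ 5 + 1 * x ^ 7 + 1 * x ^ 9 + 1 * x ^ 11 + 1 * x ^ 13 + (-1) * x ^ 16 + 1 * x ^ 19 + 1 * x ^ 20 + 1 * x ^ 21) (a := 1 + (-1) * x ^ 1 + 1 * x ^ 3 + (-1) * x ^ 4 + 1 * x ^ 5 + (-1) * x ^ 7 + 1 * x ^ 8) (by rw [hk]; ring) 1 _ (h'.trans (dvd_of_eq ?_))
    ring
  replace h' : k ∣ (541 : ℤ) ^ 1 * ((-4 : ℤ) * (4 : ℤ) ^ 8 * (4 : ℤ) ^ 8 * (4 : ℤ) ^ 4 * (4 : ℤ) ^ 4 * (6 : ℤ) ^ 2 * (40 : ℤ) ^ 4 * (5461 : ℤ) ^ 1 * (4 : ℤ) ^ 2 * (5149 : ℤ) ^ 1 * (2 : ℤ) ^ 2 * (4 : ℤ) ^ 2 * (3277 : ℤ) ^ 1 * (3 : ℤ) ^ 1 * (1 + (-1) * x ^ 2 + 1 * x ^ 4 + (-1) * x ^ 6 + 1 * x ^ 8) ^ 1 * (1 + (-1) * x ^ 4 + 1 * x ^ 8) ^ 1 * (1 + 1 * x ^ 1 + (-1)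 * x ^ 3 + (-1) * x ^ 4 + (-1) * x ^ 5 + 1 * x ^ 7 + 1 * x ^ 8) ^ 1) := by
    refine peel (s := (-137) + 104 * x ^ 1 + (-75) * x ^ 2 + (-43) * x ^ 3 + 5 * x ^ 4 + 12 * x ^ 5) (t := (-7) + 5 * x ^ 1 + 149 * x ^ 2 + 40 * x ^ 3 + (-34) * x ^ 4 + 106 * x ^ 5 + 31 * x ^ 6 + 125 * x ^ 7 + 33 * x ^ 8 + (-22) * x ^ 9 + 113 * x ^ 10 + 26 * x ^ 11 + (-24) * x ^ 12 + 130 * x ^ 13 + 45 * x ^ 14 + (-22) * x ^ 15 + (-24) * x ^ 16 + 130 * x ^ 17 + 38 * x ^ 18 + (-17) * x ^ 19 + 125 * x ^ 20 + 33 * x ^ 21 + (-29) * x ^ 22 + 118 * x ^ 23 + 38 * x ^ 24 + (-17) * x ^ 25 + (-12) * x ^ 26) (a := 1 + (-1) * x ^ 3 + 1 * x ^ 6) (by rw [hk]; ring) 1 _ (h'.trans (dvd_of_eq ?_))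
    ring
  replace h' : k ∣ (4 : ℤ) ^ 1 * ((-4 : ℤ) * (4 : ℤ) ^ 8 * (4 : ℤ) ^ 8 * (4 : ℤ) ^ 4 * (4 : ℤ) ^ 4 * (6 : ℤ) ^ 2 * (40 : ℤ) ^ 4 * (5461 : ℤ) ^ 1 * (4 : ℤ) ^ 2 * (5149 : ℤ) ^ 1 * (2 : ℤ) ^ 2 * (4 : ℤ) ^ 2 * (3277 : ℤ) ^ 1 * (3 : ℤ) ^ 1 * (541 : ℤ) ^ 1 * (1 + (-1) * x ^ 4 + 1 * x ^ 8) ^ 1 * (1 + 1 * x ^ 1 + (-1) * x ^ 3 + (-1) * x ^ 4 + (-1) * x ^ 5 + 1 * x ^ 7 + 1 * x ^ 8) ^ 1) := by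
    refine peel (s := (-1) + 1 * x ^ 1 + (-1) * x ^ 2) (t := 1 * x ^ 1 + 1 * x ^ 3 + 1 * x ^ 7 + 1 * x ^ 9 + 1 * x ^ 13 + 1 * x ^ 15 + 1 * x ^ 19 + 1 * x ^ 21) (a := 1 + (-1) * x ^ 2 + 1 * x ^ 4 + (-1) * x ^ 6 + 1 * x ^ 8) (by rw [hk]; ring) 1 _ (h'.trans (dvd_of_eq ?_))
    ring
  replace h' : k ∣ (4 : ℤ) ^ 1 * ((-4 : ℤ) * (4 : ℤ) ^ 8 * (4 : ℤ) ^ 8 * (4 : ℤ) ^ 4 * (4 : ℤ) ^ 4 * (6 : ℤ) ^ 2 * (40 : ℤ) ^ 4 * (5461 : ℤ) ^ 1 * (4 : ℤ) ^ 2 * (5149 : ℤ) ^ 1 * (2 : ℤ) ^ 2 * (4 : ℤ) ^ 2 * (3277 : ℤ) ^ 1 * (3 : ℤ) ^ 1 * (541 : ℤ) ^ 1 * (4 : ℤ) ^ 1 * (1 + 1 * x ^ 1 + (-1) * x ^ 3 + (-1) * x ^ 4 + (-1) * x ^ 5 + 1 * x ^ 7 + 1 * x ^ 8) ^ 1) := by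
    refine peel (s := (-1) + 1 * x ^ 1 + (-1) * x ^ 2) (t := 1 * x ^ 1 + 1 * x ^ 5 + 1 * x ^ 7 + 2 * x ^ 11 + 1 * x ^ 15 + 1 * x ^ 17 + 1 * x ^ 21) (a := 1 + (-1) * x ^ 4 + 1 * x ^ 8) (by rw [hk]; ring) 1 _ (h'.trans (dvd_of_eq ?_))
    ring
  replace h' : k ∣ (5 : ℤ) ^ 1 * ((-4 : ℤ) * (4 : ℤ) ^ 8 * (4 : ℤ) ^ 8 * (4 : ℤ) ^ 4 * (4 : ℤ) ^ 4 * (6 : ℤ) ^ 2 * (40 : ℤ) ^ 4 * (5461 : ℤ) ^ 1 * (4 : ℤ) ^ 2 * (5149 : ℤ) ^ 1 * (2 : ℤ) ^ 2 * (4 : ℤ) ^ 2 * (3277 : ℤ) ^ 1 * (3 : ℤ) ^ 1 * (541 : ℤ) ^ 1 * (4 : ℤ) ^ 1 * (4 : ℤ) ^ 1) := by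
    refine peel (s := (-1) + 1 * x ^ 1 + (-1) * x ^ 2) (t := 1 + 1 * x ^ 3 + 1 * x ^ 5 + 1 * x ^ 7 + 1 * x ^ 9 + 1 * x ^ 11 + 1 * x ^ 13 + 1 * x ^ 16 + 1 * x ^ 19 + (-1) * x ^ 20 + 1 * x ^ 21) (a := 1 + 1 * x ^ 1 + (-1) * x ^ 3 + (-1) * x ^ 4 + (-1) * x ^ 5 + 1 * x ^ 7 + 1 * x ^ 8) (by rw [hk]; ring) 1 _ (h'.trans (dvd_of_eq ?_))
    ring
  have hpos : (0 : ℤ) < k ∧ (1271224406770736867601768138652463923200000 : ℤ) < k := by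
    obtain ⟨w, hw⟩ : ∃ w : ℕ, q = w + 250 := ⟨q - 250, by omega⟩
    have e1 : 1 * k = x ^ 27 + (222041038000954358692921468064173877002731353636717785218811746 + 23092296544329801688665306363671234597282959957496074407000497 * (w : ℤ) ^ 1 + 1154616199302550812646154766019087125569771986286874844878001 * (w : ℤ) ^ 2 + 36947760444529836530206062875265323026061483507537811878004 * (w : ℤ) ^ 3 + 849799415464775448176527430797337642878521000545777498753 * (w : ℤ) ^ 4 + 14956485252356697346759428359055514579599615251747368999 * (w : ℤ) ^ 5 + 209391000683811808077265180652767167535683286503496496 * (w : ℤ) ^ 6 + 2393042256321462542399471853322333196897152196503998 * (w : ℤ) ^ 7 + 22733921666576087292349230734974914752985708759002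 * (w : ℤ) ^ 8 + 181871526154948127488718654418952881962340317504 * (w : ℤ) ^ 9 + 1236727355673094251165960790049821292393872252 * (w : ℤ) ^ 10 + 7195509947057563567806170810922257463865999 * (w : ℤ) ^ 11 + 35977574612839560957937706854786964496747 * (w : ℤ) ^ 12 + 154980420894566079714338725086894694499 * (w : ℤ) ^ 13 + 575641904330496696171851083132511252 * (w : ℤ) ^ 14 + 1842055093897823157234349491504003 * (w : ℤ) ^ 15 + 5065654007696145739023418370751 * (w : ℤ) ^ 16 + 11919191192151658121562490999 * (w : ℤ) ^ 17 + 23838391789405315023749998 * (w : ℤ) ^ 18 + 40148884238847682510000 * (w : ℤ) ^ 19 + 56208454558265635502 * (w : ℤ) ^ 20 + 64238249609187502 * (w : ℤ) ^ 21 + 58398420244250 * (w : ℤ)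 ^ 22 + 40624993999 * (w : ℤ) ^ 23 + 20312499 * (w : ℤ) ^ 24 + 6500 * (w : ℤ) ^ 25 + 1 * (w : ℤ) ^ 26) := by
      rw [hk, hx, hw]; push_cast; ring
    have e2 : (250 : ℤ) ^ 27 ≤ x ^ 27 := pow_le_pow_left₀ (by norm_num) (by rw [hx]; exact_mod_cast hq0) _
    have e3 : (0 : ℤ) ≤ 222041038000954358692921468064173877002731353636717785218811746 + 23092296544329801688665306363671234597282959957496074407000497 * (w : ℤ) ^ 1 + 1154616199302550812646154766019087125569771986286874844878001 * (w : ℤ) ^ 2 + 36947760444529836530206062875265323026061483507537811878004 * (w : ℤ) ^ 3 + 849799415464775448176527430797337642878521000545777498753 * (w : ℤ) ^ 4 + 14956485252356697346759428359055514579599615251747368999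 * (w : ℤ) ^ 5 + 209391000683811808077265180652767167535683286503496496 * (w : ℤ) ^ 6 + 2393042256321462542399471853322333196897152196503998 * (w : ℤ) ^ 7 + 22733921666576087292349230734974914752985708759002 * (w : ℤ) ^ 8 + 181871526154948127488718654418952881962340317504 * (w : ℤ) ^ 9 + 1236727355673094251165960790049821292393872252 * (w : ℤ) ^ 10 + 7195509947057563567806170810922257463865999 * (w : ℤ) ^ 11 + 35977574612839560957937706854786964496747 * (w : ℤ) ^ 12 + 154980420894566079714338725086894694499 * (w : ℤ) ^ 13 + 575641904330496696171851083132511252 * (w : ℤ) ^ 14 + 1842055093897823157234349491504003 * (w : ℤ) ^ 15 + 5065654007696145739023418370751 * (w : ℤ) ^ 16 + 11919191192151658121562490999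 * (w : ℤ) ^ 17 + 23838391789405315023749998 * (w : ℤ) ^ 18 + 40148884238847682510000 * (w : ℤ) ^ 19 + 56208454558265635502 * (w : ℤ) ^ 20 + 64238249609187502 * (w : ℤ) ^ 21 + 58398420244250 * (w : ℤ) ^ 22 + 40624993999 * (w : ℤ) ^ 23 + 20312499 * (w : ℤ) ^ 24 + 6500 * (w : ℤ) ^ 25 + 1 * (w : ℤ) ^ 26 := by positivity
    norm_num at e2
    constructor <;> linarith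
  have := Int.le_of_dvd (by norm_num) (dvd_abs _ _ |>.2 h')
  norm_num at this
  linarith [hpos.1, hpos.2]

theorem not_dvd_5 {q : ℕ} (hq : IsPrimePow q) (hq0 : 250 ≤ q) : ¬ (bnd q - 5) ∣ ord' q := by
  intro h
  have hle : 5 ≤ bnd q := by
    have h1 : 1 ≤ (q ^ 12 + 1) * (q ^ 10 + 1) * (q ^ 6 + 1) := Nat.one_le_iff_ne_zero.2 (by positivity)
    calc 5 ≤ q * 1 := by omega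
      _ ≤ _ := by rw [bnd, mul_assoc, mul_assoc, ← mul_assoc (q ^ 12 + 1)]; exact Nat.mul_le_mul_left _ h1
  have h' : ((bnd q - 5 : ℕ) : ℤ) ∣ (ord' q : ℤ) := Int.natCast_dvd_natCast.2 h
  rw [Nat.cast_sub hle, ord'_cast (by omega)] at h'
  simp only [bnd, Nat.cast_mul, Nat.cast_add, Nat.cast_pow, Nat.cast_one, Nat.cast_ofNat] at h'
  set x : ℤ := (q : ℤ) with hx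
  set k : ℤ := (-5) + 1 * x ^ 1 + 1 * x ^ 7 + 1 * x ^ 11 + 1 * x ^ 13 + 1 * x ^ 17 + 1 * x ^ 19 + 1 * x ^ 23 + 1 * x ^ 29 with hk
  replace h' : k ∣ x ^ 120 * (((-1) + 1 * x ^ 1) ^ 8 * (1 + 1 * x ^ 1) ^ 8 * (1 + 1 * x ^ 1 + 1 * x ^ 2) ^ 4 * (1 + 1 * x ^ 2) ^ 4 * (1 + 1 * x ^ 1 + 1 * x ^ 2 + 1 * x ^ 3 + 1 * x ^ 4) ^ 2 * (1 + (-1) * x ^ 1 + 1 * x ^ 2) ^ 4 * (1 + 1 * x ^ 1 + 1 * x ^ 2 + 1 * x ^ 3 + 1 * x ^ 4 + 1 * x ^ 5 + 1 * x ^ 6) ^ 1 * (1 + 1 * x ^ 4) ^ 2 * (1 + 1 * x ^ 3 + 1 * x ^ 6) ^ 1 * (1 + (-1) * x ^ 1 + 1 * x ^ 2 + (-1) * x ^ 3 + 1 * x ^ 4) ^ 2 * (1 + (-1) * x ^ 2 + 1 * x ^ 4) ^ 2 * (1 + (-1) * x ^ 1 + 1 * x ^ 2 + (-1) * x ^ 3 + 1 * x ^ 4 + (-1) * x ^ 5 + 1 * x ^ 6) ^ 1 * (1 + (-1) * x ^ 1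 + 1 * x ^ 3 + (-1) * x ^ 4 + 1 * x ^ 5 + (-1) * x ^ 7 + 1 * x ^ 8) ^ 1 * (1 + (-1) * x ^ 3 + 1 * x ^ 6) ^ 1 * (1 + (-1) * x ^ 2 + 1 * x ^ 4 + (-1) * x ^ 6 + 1 * x ^ 8) ^ 1 * (1 + (-1) * x ^ 4 + 1 * x ^ 8) ^ 1 * (1 + 1 * x ^ 1 + (-1) * x ^ 3 + (-1) * x ^ 4 + (-1) * x ^ 5 + 1 * x ^ 7 + 1 * x ^ 8) ^ 1) := by
    refine dvd_trans ⟨1, ?_⟩ h'
    rw [hk]; ring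
  replace h' := peel_prime_pow hq (r := 1 + 1 * x ^ 6 + 1 * x ^ 10 + 1 * x ^ 12 + 1 * x ^ 16 + 1 * x ^ 18 + 1 * x ^ 22 + 1 * x ^ 28) (c := -5) (by rw [hk]; ring) (by norm_num) (by norm_num; omega) h'
  simp only [← mul_assoc] at h'
  replace h' : k ∣ (3 : ℤ) ^ 8 * ((-5 : ℤ) * (1 + 1 * x ^ 1) ^ 8 * (1 + 1 * x ^ 1 + 1 * x ^ 2) ^ 4 * (1 + 1 * x ^ 2) ^ 4 * (1 + 1 * x ^ 1 + 1 * x ^ 2 + 1 * x ^ 3 + 1 * x ^ 4) ^ 2 * (1 + (-1) * x ^ 1 + 1 * x ^ 2) ^ 4 * (1 + 1 * x ^ 1 + 1 * x ^ 2 + 1 * x ^ 3 + 1 * x ^ 4 + 1 * x ^ 5 + 1 * x ^ 6) ^ 1 * (1 + 1 * x ^ 4) ^ 2 * (1 + 1 * x ^ 3 + 1 * x ^ 6) ^ 1 * (1 + (-1) * x ^ 1 + 1 * x ^ 2 + (-1) * x ^ 3 + 1 * x ^ 4) ^ 2 * (1 + (-1) * x ^ 2 + 1 * x ^ 4) ^ 2 * (1 + (-1) * x ^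 1 + 1 * x ^ 2 + (-1) * x ^ 3 + 1 * x ^ 4 + (-1) * x ^ 5 + 1 * x ^ 6) ^ 1 * (1 + (-1) * x ^ 1 + 1 * x ^ 3 + (-1) * x ^ 4 + 1 * x ^ 5 + (-1) * x ^ 7 + 1 * x ^ 8) ^ 1 * (1 + (-1) * x ^ 3 + 1 * x ^ 6) ^ 1 * (1 + (-1) * x ^ 2 + 1 * x ^ 4 + (-1) * x ^ 6 + 1 * x ^ 8) ^ 1 * (1 + (-1) * x ^ 4 + 1 * x ^ 8) ^ 1 * (1 + 1 * x ^ 1 + (-1) * x ^ 3 + (-1) * x ^ 4 + (-1) * x ^ 5 + 1 * x ^ 7 + 1 * x ^ 8) ^ 1) := by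
    refine peel (s := 1) (t := (-8) + (-7) * x ^ 1 + (-7) * x ^ 2 + (-7) * x ^ 3 + (-7) * x ^ 4 + (-7) * x ^ 5 + (-7) * x ^ 6 + (-6) * x ^ 7 + (-6) * x ^ 8 + (-6) * x ^ 9 + (-6) * x ^ 10 + (-5) * x ^ 11 + (-5) * x ^ 12 + (-4) * x ^ 13 + (-4) * x ^ 14 + (-4) * x ^ 15 + (-4) * x ^ 16 + (-3) * x ^ 17 + (-3) * x ^ 18 + (-2) * x ^ 19 + (-2) * x ^ 20 + (-2) * x ^ 21 + (-2) * x ^ 22 + (-1) * x ^ 23 + (-1) * x ^ 24 + (-1) * x ^ 25 + (-1) * x ^ 26 + (-1) * x ^ 27 + (-1) * x ^ 28) (a := (-1) + 1 * x ^ 1) (by rw [hk]; ring) 8 _ (h'.trans (dvd_of_eq ?_))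
    ring
  replace h' : k ∣ (13 : ℤ) ^ 8 * ((-5 : ℤ) * (3 : ℤ) ^ 8 * (1 + 1 * x ^ 1 + 1 * x ^ 2) ^ 4 * (1 + 1 * x ^ 2) ^ 4 * (1 + 1 * x ^ 1 + 1 * x ^ 2 + 1 * x ^ 3 + 1 * x ^ 4) ^ 2 * (1 + (-1) * x ^ 1 + 1 * x ^ 2) ^ 4 * (1 + 1 * x ^ 1 + 1 * x ^ 2 + 1 * x ^ 3 + 1 * x ^ 4 + 1 * x ^ 5 + 1 * x ^ 6) ^ 1 * (1 + 1 * x ^ 4) ^ 2 * (1 + 1 * x ^ 3 + 1 * x ^ 6) ^ 1 * (1 + (-1) * x ^ 1 + 1 * x ^ 2 + (-1) * x ^ 3 + 1 * x ^ 4) ^ 2 * (1 + (-1) * x ^ 2 + 1 * x ^ 4) ^ 2 * (1 + (-1) * x ^ 1 + 1 * x ^ 2 + (-1) * x ^ 3 + 1 * x ^ 4 + (-1) * x ^ 5 + 1 * x ^ 6) ^ 1 * (1 + (-1) * x ^ 1 + 1 * x ^ 3 + (-1) * x ^ 4 + 1 * x ^ 5 + (-1) * x ^ 7 + 1 * x ^ 8) ^ 1 * (1 + (-1) * x ^ 3 + 1 * x ^ 6) ^ 1 * (1 + (-1) * x ^ 2 + 1 * x ^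 4 + (-1) * x ^ 6 + 1 * x ^ 8) ^ 1 * (1 + (-1) * x ^ 4 + 1 * x ^ 8) ^ 1 * (1 + 1 * x ^ 1 + (-1) * x ^ 3 + (-1) * x ^ 4 + (-1) * x ^ 5 + 1 * x ^ 7 + 1 * x ^ 8) ^ 1) := by
    refine peel (s := (-1)) (t := 8 + (-7) * x ^ 1 + 7 * x ^ 2 + (-7) * x ^ 3 + 7 * x ^ 4 + (-7) * x ^ 5 + 7 * x ^ 6 + (-6) * x ^ 7 + 6 * x ^ 8 + (-6) * x ^ 9 + 6 * x ^ 10 + (-5) * x ^ 11 + 5 * x ^ 12 + (-4) * x ^ 13 + 4 * x ^ 14 + (-4) * x ^ 15 + 4 * x ^ 16 + (-3) * x ^ 17 + 3 * x ^ 18 + (-2) * x ^ 19 + 2 * x ^ 20 + (-2) * x ^ 21 + 2 * x ^ 22 + (-1) * x ^ 23 + 1 * x ^ 24 + (-1) * x ^ 25 + 1 * x ^ 26 + (-1) * x ^ 27 + 1 * x ^ 28) (a := 1 + 1 * x ^ 1) (by rw [hk]; ring) 8 _ (h'.trans (dvd_of_eq ?_))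
    ring
  replace h' : k ∣ (9 : ℤ) ^ 4 * ((-5 : ℤ) * (3 : ℤ) ^ 8 * (13 : ℤ) ^ 8 * (1 + 1 * x ^ 2) ^ 4 * (1 + 1 * x ^ 1 + 1 * x ^ 2 + 1 * x ^ 3 + 1 * x ^ 4) ^ 2 * (1 + (-1) * x ^ 1 + 1 * x ^ 2) ^ 4 * (1 + 1 * x ^ 1 + 1 * x ^ 2 + 1 * x ^ 3 + 1 * x ^ 4 + 1 * x ^ 5 + 1 * x ^ 6) ^ 1 * (1 + 1 * x ^ 4) ^ 2 * (1 + 1 * x ^ 3 + 1 * x ^ 6) ^ 1 * (1 + (-1) * x ^ 1 + 1 * x ^ 2 + (-1) * x ^ 3 + 1 * x ^ 4) ^ 2 * (1 + (-1) * x ^ 2 + 1 * x ^ 4) ^ 2 * (1 + (-1) * x ^ 1 + 1 * x ^ 2 + (-1) * x ^ 3 + 1 * x ^ 4 + (-1) * x ^ 5 + 1 * x ^ 6) ^ 1 * (1 + (-1) * x ^ 1 + 1 * x ^ 3 + (-1) * x ^ 4 + 1 * x ^ 5 + (-1) * x ^ 7 + 1 * x ^ 8) ^ 1 * (1 + (-1) * x ^ 3 + 1 * x ^ 6) ^ 1 * (1 + (-1) * x ^ 2 + 1 * x ^ 4 + (-1) * x ^ 6 +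 1 * x ^ 8) ^ 1 * (1 + (-1) * x ^ 4 + 1 * x ^ 8) ^ 1 * (1 + 1 * x ^ 1 + (-1) * x ^ 3 + (-1) * x ^ 4 + (-1) * x ^ 5 + 1 * x ^ 7 + 1 * x ^ 8) ^ 1) := by
    refine peel (s := (-1)) (t := 4 + (-3) * x ^ 1 + (-1) * x ^ 2 + 4 * x ^ 3 + (-3) * x ^ 4 + (-1) * x ^ 5 + 4 * x ^ 6 + (-2) * x ^ 7 + (-2) * x ^ 8 + 4 * x ^ 9 + (-2) * x ^ 10 + (-1) * x ^ 11 + 3 * x ^ 12 + (-1) * x ^ 13 + (-2) * x ^ 14 + 3 * x ^ 15 + (-1) * x ^ 16 + (-1) * x ^ 17 + 2 * x ^ 18 + (-2) * x ^ 20 + 2 * x ^ 21 + (-1) * x ^ 23 + 1 * x ^ 24 + (-1) * x ^ 26 + 1 * x ^ 27) (a := 1 + 1 * x ^ 1 + 1 * x ^ 2) (by rw [hk]; ring) 4 _ (h'.trans (dvd_of_eq ?_))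
    ring
  replace h' : k ∣ (5 : ℤ) ^ 4 * ((-5 : ℤ) * (3 : ℤ) ^ 8 * (13 : ℤ) ^ 8 * (9 : ℤ) ^ 4 * (1 + 1 * x ^ 1 + 1 * x ^ 2 + 1 * x ^ 3 + 1 * x ^ 4) ^ 2 * (1 + (-1) * x ^ 1 + 1 * x ^ 2) ^ 4 * (1 + 1 * x ^ 1 + 1 * x ^ 2 + 1 * x ^ 3 + 1 * x ^ 4 + 1 * x ^ 5 + 1 * x ^ 6) ^ 1 * (1 + 1 * x ^ 4) ^ 2 * (1 + 1 * x ^ 3 + 1 * x ^ 6) ^ 1 * (1 + (-1) * x ^ 1 + 1 * x ^ 2 + (-1) * x ^ 3 + 1 * x ^ 4) ^ 2 * (1 + (-1) * x ^ 2 + 1 * x ^ 4) ^ 2 * (1 + (-1) * x ^ 1 + 1 * x ^ 2 + (-1) * x ^ 3 + 1 * x ^ 4 + (-1) * x ^ 5 + 1 * x ^ 6) ^ 1 * (1 + (-1) * x ^ 1 + 1 * x ^ 3 + (-1) * x ^ 4 + 1 * x ^ 5 + (-1) * x ^ 7 + 1 * x ^ 8) ^ 1 * (1 + (-1) * x ^ 3 + 1 * x ^ 6) ^ 1 * (1 + (-1) * x ^ 2 + 1 * x ^ 4 + (-1) * x ^ 6 + 1 * x ^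 8) ^ 1 * (1 + (-1) * x ^ 4 + 1 * x ^ 8) ^ 1 * (1 + 1 * x ^ 1 + (-1) * x ^ 3 + (-1) * x ^ 4 + (-1) * x ^ 5 + 1 * x ^ 7 + 1 * x ^ 8) ^ 1) := by
    refine peel (s := (-1)) (t := 1 * x ^ 1 + (-1) * x ^ 3 + 1 * x ^ 5 + 1 * x ^ 11 + 1 * x ^ 17 + 1 * x ^ 23 + (-1) * x ^ 25 + 1 * x ^ 27) (a := 1 + 1 * x ^ 2) (by rw [hk]; ring) 4 _ (h'.trans (dvd_of_eq ?_))
    ring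
  replace h' : k ∣ (7 : ℤ) ^ 2 * ((-5 : ℤ) * (3 : ℤ) ^ 8 * (13 : ℤ) ^ 8 * (9 : ℤ) ^ 4 * (5 : ℤ) ^ 4 * (1 + (-1) * x ^ 1 + 1 * x ^ 2) ^ 4 * (1 + 1 * x ^ 1 + 1 * x ^ 2 + 1 * x ^ 3 + 1 * x ^ 4 + 1 * x ^ 5 + 1 * x ^ 6) ^ 1 * (1 + 1 * x ^ 4) ^ 2 * (1 + 1 * x ^ 3 + 1 * x ^ 6) ^ 1 * (1 + (-1) * x ^ 1 + 1 * x ^ 2 + (-1) * x ^ 3 + 1 * x ^ 4) ^ 2 * (1 + (-1) * x ^ 2 + 1 * x ^ 4) ^ 2 * (1 + (-1) * x ^ 1 + 1 * x ^ 2 + (-1) * x ^ 3 + 1 * x ^ 4 + (-1) * x ^ 5 + 1 * x ^ 6) ^ 1 * (1 + (-1) * x ^ 1 + 1 * x ^ 3 + (-1) * x ^ 4 + 1 * x ^ 5 + (-1) * x ^ 7 + 1 * x ^ 8) ^ 1 * (1 + (-1) * x ^ 3 + 1 * x ^ 6) ^ 1 * (1 + (-1) * x ^ 2 + 1 * x ^ 4 + (-1) * x ^ 6 + 1 * x ^ 8) ^ 1 * (1 + (-1) * x ^ 4 + 1 * x ^ 8) ^ 1 * (1 + 1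 * x ^ 1 + (-1) * x ^ 3 + (-1) * x ^ 4 + (-1) * x ^ 5 + 1 * x ^ 7 + 1 * x ^ 8) ^ 1) := by
    refine peel (s := (-1)) (t := 2 + (-1) * x ^ 1 + (-1) * x ^ 2 + 2 * x ^ 5 + (-1) * x ^ 6 + (-1) * x ^ 8 + 2 * x ^ 10 + (-1) * x ^ 12 + (-1) * x ^ 14 + 2 * x ^ 15 + (-1) * x ^ 18 + 1 * x ^ 20 + (-1) * x ^ 24 + 1 * x ^ 25) (a := 1 + 1 * x ^ 1 + 1 * x ^ 2 + 1 * x ^ 3 + 1 * x ^ 4) (by rw [hk]; ring) 2 _ (h'.trans (dvd_of_eq ?_))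
    ring
  replace h' : k ∣ (1 : ℤ) ^ 4 * ((-5 : ℤ) * (3 : ℤ) ^ 8 * (13 : ℤ) ^ 8 * (9 : ℤ) ^ 4 * (5 : ℤ) ^ 4 * (7 : ℤ) ^ 2 * (1 + 1 * x ^ 1 + 1 * x ^ 2 + 1 * x ^ 3 + 1 * x ^ 4 + 1 * x ^ 5 + 1 * x ^ 6) ^ 1 * (1 + 1 * x ^ 4) ^ 2 * (1 + 1 * x ^ 3 + 1 * x ^ 6) ^ 1 * (1 + (-1) * x ^ 1 + 1 * x ^ 2 + (-1) * x ^ 3 + 1 * x ^ 4) ^ 2 * (1 + (-1) * x ^ 2 + 1 * x ^ 4) ^ 2 * (1 + (-1) * x ^ 1 + 1 * x ^ 2 + (-1) * x ^ 3 + 1 * x ^ 4 + (-1) * x ^ 5 + 1 * x ^ 6) ^ 1 * (1 + (-1) * x ^ 1 + 1 * x ^ 3 + (-1) * x ^ 4 + 1 * x ^ 5 + (-1) * x ^ 7 + 1 * x ^ 8) ^ 1 * (1 + (-1) * x ^ 3 + 1 * x ^ 6) ^ 1 * (1 + (-1) * x ^ 2 + 1 * x ^ 4 + (-1) * x ^ 6 + 1 * x ^ 8) ^ 1 * (1 + (-1) * x ^ 4 + 1 * x ^ 8) ^ 1 * (1 + 1 * x ^ 1 + (-1)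 * x ^ 3 + (-1) * x ^ 4 + (-1) * x ^ 5 + 1 * x ^ 7 + 1 * x ^ 8) ^ 1) := by
    refine peel (s := (-1)) (t := (-4) + (-3) * x ^ 1 + 1 * x ^ 2 + 4 * x ^ 3 + 3 * x ^ 4 + (-1) * x ^ 5 + (-4) * x ^ 6 + (-2) * x ^ 7 + 2 * x ^ 8 + 4 * x ^ 9 + 2 * x ^ 10 + (-1) * x ^ 11 + (-3) * x ^ 12 + (-1) * x ^ 13 + 2 * x ^ 14 + 3 * x ^ 15 + 1 * x ^ 16 + (-1) * x ^ 17 + (-2) * x ^ 18 + 2 * x ^ 20 + 2 * x ^ 21 + (-1) * x ^ 23 + (-1) * x ^ 24 + 1 * x ^ 26 + 1 * x ^ 27) (a := 1 + (-1) * x ^ 1 + 1 * x ^ 2) (by rw [hk]; ring) 4 _ (h'.trans (dvd_of_eq ?_))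
    ring
  replace h' : k ∣ (19531 : ℤ) ^ 1 * ((-5 : ℤ) * (3 : ℤ) ^ 8 * (13 : ℤ) ^ 8 * (9 : ℤ) ^ 4 * (5 : ℤ) ^ 4 * (7 : ℤ) ^ 2 * (1 : ℤ) ^ 4 * (1 + 1 * x ^ 4) ^ 2 * (1 + 1 * x ^ 3 + 1 * x ^ 6) ^ 1 * (1 + (-1) * x ^ 1 + 1 * x ^ 2 + (-1) * x ^ 3 + 1 * x ^ 4) ^ 2 * (1 + (-1) * x ^ 2 + 1 * x ^ 4) ^ 2 * (1 + (-1) * x ^ 1 + 1 * x ^ 2 + (-1) * x ^ 3 + 1 * x ^ 4 + (-1) * x ^ 5 + 1 * x ^ 6) ^ 1 * (1 + (-1) * x ^ 1 + 1 * x ^ 3 + (-1) * x ^ 4 + 1 * x ^ 5 + (-1) * x ^ 7 + 1 * x ^ 8) ^ 1 * (1 + (-1) * x ^ 3 + 1 * x ^ 6) ^ 1 * (1 + (-1) * x ^ 2 + 1 * x ^ 4 + (-1) * x ^ 6 + 1 * x ^ 8) ^ 1 * (1 + (-1) * x ^ 4 + 1 * x ^ 8) ^ 1 * (1 + 1 * x ^ 1 + (-1) * x ^ 3 + (-1) * x ^ 4 + (-1) * x ^ 5 + 1 * x ^ 7 + 1 * x ^ 8)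 ^ 1) := by
    refine peel (s := (-3906) + (-781) * x ^ 1 + (-156) * x ^ 2 + (-31) * x ^ 3 + (-6) * x ^ 4 + (-1) * x ^ 5) (t := 1 + 3906 * x ^ 7 + (-3125) * x ^ 8 + (-625) * x ^ 9 + (-125) * x ^ 10 + 3881 * x ^ 11 + (-3130) * x ^ 12 + 3280 * x ^ 13 + 656 * x ^ 14 + (-3775) * x ^ 15 + (-755) * x ^ 16 + 3755 * x ^ 17 + 751 * x ^ 18 + 150 * x ^ 19 + 30 * x ^ 20 + 6 * x ^ 21 + (-3905) * x ^ 22 + 3125 * x ^ 23 + 625 * x ^ 24 + 125 * x ^ 25 + 25 * x ^ 26 + 5 * x ^ 27 + 1 * x ^ 28) (a := 1 + 1 * x ^ 1 + 1 * x ^ 2 + 1 * x ^ 3 + 1 * x ^ 4 + 1 * x ^ 5 + 1 * x ^ 6) (by rw [hk]; ring) 1 _ (h'.trans (dvd_of_eq ?_))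
    ring
  replace h' : k ∣ (5 : ℤ) ^ 2 * ((-5 : ℤ) * (3 : ℤ) ^ 8 * (13 : ℤ) ^ 8 * (9 : ℤ) ^ 4 * (5 : ℤ) ^ 4 * (7 : ℤ) ^ 2 * (1 : ℤ) ^ 4 * (19531 : ℤ) ^ 1 * (1 + 1 * x ^ 3 + 1 * x ^ 6) ^ 1 * (1 + (-1) * x ^ 1 + 1 * x ^ 2 + (-1) * x ^ 3 + 1 * x ^ 4) ^ 2 * (1 + (-1) * x ^ 2 + 1 * x ^ 4) ^ 2 * (1 + (-1) * x ^ 1 + 1 * x ^ 2 + (-1) * x ^ 3 + 1 * x ^ 4 + (-1) * x ^ 5 + 1 * x ^ 6) ^ 1 * (1 + (-1) * x ^ 1 + 1 * x ^ 3 + (-1) * x ^ 4 + 1 * x ^ 5 + (-1) * x ^ 7 + 1 * x ^ 8) ^ 1 * (1 + (-1) * x ^ 3 + 1 * x ^ 6) ^ 1 * (1 + (-1) * x ^ 2 + 1 * x ^ 4 + (-1) * x ^ 6 + 1 * x ^ 8) ^ 1 * (1 + (-1) * x ^ 4 + 1 * x ^ 8) ^ 1 * (1 + 1 * x ^ 1 + (-1) * x ^ 3 + (-1) * x ^ 4 + (-1) * x ^ 5 + 1 * x ^ 7 + 1 * x ^ 8) ^ 1) :=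 by
    refine peel (s := (-1)) (t := 1 * x ^ 1 + (-1) * x ^ 5 + 1 * x ^ 7 + 1 * x ^ 9 + 1 * x ^ 17 + 1 * x ^ 19 + (-1) * x ^ 21 + 1 * x ^ 25) (a := 1 + 1 * x ^ 4) (by rw [hk]; ring) 2 _ (h'.trans (dvd_of_eq ?_))
    ring
  replace h' : k ∣ (5997 : ℤ) ^ 1 * ((-5 : ℤ) * (3 : ℤ) ^ 8 * (13 : ℤ) ^ 8 * (9 : ℤ) ^ 4 * (5 : ℤ) ^ 4 * (7 : ℤ) ^ 2 * (1 : ℤ) ^ 4 * (19531 : ℤ) ^ 1 * (5 : ℤ) ^ 2 * (1 + (-1) * x ^ 1 + 1 * x ^ 2 + (-1) * x ^ 3 + 1 * x ^ 4) ^ 2 * (1 + (-1) * x ^ 2 + 1 * x ^ 4) ^ 2 * (1 + (-1) * x ^ 1 + 1 * x ^ 2 + (-1) * x ^ 3 + 1 * x ^ 4 + (-1) * x ^ 5 + 1 * x ^ 6) ^ 1 * (1 + (-1) * x ^ 1 + 1 * x ^ 3 + (-1) * x ^ 4 + 1 * x ^ 5 + (-1) * x ^ 7 + 1 * x ^ 8) ^ 1 * (1 + (-1) * x ^ 3 + 1 * x ^ 6) ^ 1 *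 (1 + (-1) * x ^ 2 + 1 * x ^ 4 + (-1) * x ^ 6 + 1 * x ^ 8) ^ 1 * (1 + (-1) * x ^ 4 + 1 * x ^ 8) ^ 1 * (1 + 1 * x ^ 1 + (-1) * x ^ 3 + (-1) * x ^ 4 + (-1) * x ^ 5 + 1 * x ^ 7 + 1 * x ^ 8) ^ 1) := by
    refine peel (s := (-1180) + (-230) * x ^ 1 + (-282) * x ^ 2 + (-83) * x ^ 3 + (-67) * x ^ 4 + (-30) * x ^ 5) (t := 97 + 30 * x ^ 1 + (-1180) * x ^ 2 + (-230) * x ^ 3 + (-282) * x ^ 4 + 1097 * x ^ 5 + 163 * x ^ 6 + 1432 * x ^ 7 + 313 * x ^ 8 + 349 * x ^ 9 + (-1067) * x ^ 10 + (-163) * x ^ 11 + (-252) * x ^ 12 + 1097 * x ^ 13 + 163 * x ^ 14 + 252 * x ^ 15 + 83 * x ^ 16 + 1247 * x ^ 17 + 260 * x ^ 18 + 282 * x ^ 19 + (-1097) * x ^ 20 + (-163) * x ^ 21 + (-252) * x ^ 22 + 1097 * x ^ 23 + 163 * x ^ 24 +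 252 * x ^ 25 + 83 * x ^ 26 + 67 * x ^ 27 + 30 * x ^ 28) (a := 1 + 1 * x ^ 3 + 1 * x ^ 6) (by rw [hk]; ring) 1 _ (h'.trans (dvd_of_eq ?_))
    ring
  replace h' : k ∣ (3 : ℤ) ^ 2 * ((-5 : ℤ) * (3 : ℤ) ^ 8 * (13 : ℤ) ^ 8 * (9 : ℤ) ^ 4 * (5 : ℤ) ^ 4 * (7 : ℤ) ^ 2 * (1 : ℤ) ^ 4 * (19531 : ℤ) ^ 1 * (5 : ℤ) ^ 2 * (5997 : ℤ) ^ 1 * (1 + (-1) * x ^ 2 + 1 * x ^ 4) ^ 2 * (1 + (-1) * x ^ 1 + 1 * x ^ 2 + (-1) * x ^ 3 + 1 * x ^ 4 + (-1) * x ^ 5 + 1 * x ^ 6) ^ 1 * (1 + (-1) * x ^ 1 + 1 * x ^ 3 + (-1) * x ^ 4 + 1 * x ^ 5 + (-1) * x ^ 7 + 1 * x ^ 8) ^ 1 * (1 + (-1) * x ^ 3 + 1 * x ^ 6) ^ 1 * (1 + (-1) * x ^ 2 + 1 * x ^ 4 + (-1) * x ^ 6 + 1 * x ^ 8) ^ 1 * (1 + (-1) * x ^ 4 + 1 * x ^ 8) ^ 1 * (1 + 1 * x ^ 1 + (-1)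 * x ^ 3 + (-1) * x ^ 4 + (-1) * x ^ 5 + 1 * x ^ 7 + 1 * x ^ 8) ^ 1) := by
    refine peel (s := (-1)) (t := (-2) + (-1) * x ^ 1 + 1 * x ^ 2 + 2 * x ^ 5 + 1 * x ^ 6 + 1 * x ^ 8 + (-2) * x ^ 10 + 1 * x ^ 12 + 1 * x ^ 14 + 2 * x ^ 15 + 1 * x ^ 18 + (-1) * x ^ 20 + 1 * x ^ 24 + 1 * x ^ 25) (a := 1 + (-1) * x ^ 1 + 1 * x ^ 2 + (-1) * x ^ 3 + 1 * x ^ 4) (by rw [hk]; ring) 2 _ (h'.trans (dvd_of_eq ?_))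
    ring
  replace h' : k ∣ (5 : ℤ) ^ 2 * ((-5 : ℤ) * (3 : ℤ) ^ 8 * (13 : ℤ) ^ 8 * (9 : ℤ) ^ 4 * (5 : ℤ) ^ 4 * (7 : ℤ) ^ 2 * (1 : ℤ) ^ 4 * (19531 : ℤ) ^ 1 * (5 : ℤ) ^ 2 * (5997 : ℤ) ^ 1 * (3 : ℤ) ^ 2 * (1 + (-1) * x ^ 1 + 1 * x ^ 2 + (-1) * x ^ 3 + 1 * x ^ 4 + (-1) * x ^ 5 + 1 * x ^ 6) ^ 1 * (1 + (-1) * x ^ 1 + 1 * x ^ 3 + (-1) * x ^ 4 + 1 * x ^ 5 + (-1) * x ^ 7 + 1 * x ^ 8) ^ 1 * (1 + (-1) * x ^ 3 + 1 * x ^ 6) ^ 1 * (1 + (-1) * x ^ 2 + 1 * x ^ 4 + (-1) * x ^ 6 + 1 * x ^ 8) ^ 1 * (1 + (-1) * x ^ 4 + 1 * x ^ 8) ^ 1 * (1 + 1 * x ^ 1 + (-1) * x ^ 3 + (-1) * x ^ 4 + (-1) * x ^ 5 + 1 * x ^ 7 + 1 * x ^ 8) ^ 1) := by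
    refine peel (s := (-1)) (t := 1 * x ^ 1 + 1 * x ^ 3 + 1 * x ^ 11 + 2 * x ^ 13 + 1 * x ^ 15 + 1 * x ^ 23 + 1 * x ^ 25) (a := 1 + (-1) * x ^ 2 + 1 * x ^ 4) (by rw [hk]; ring) 2 _ (h'.trans (dvd_of_eq ?_))
    ring
  replace h' : k ∣ (13021 : ℤ) ^ 1 * ((-5 : ℤ) * (3 : ℤ) ^ 8 * (13 : ℤ) ^ 8 * (9 : ℤ) ^ 4 * (5 : ℤ) ^ 4 * (7 : ℤ) ^ 2 * (1 : ℤ) ^ 4 * (19531 : ℤ) ^ 1 * (5 : ℤ) ^ 2 * (5997 : ℤ) ^ 1 * (3 : ℤ) ^ 2 * (5 : ℤ) ^ 2 * (1 + (-1) * x ^ 1 + 1 * x ^ 3 + (-1) * x ^ 4 + 1 * x ^ 5 + (-1) * x ^ 7 + 1 * x ^ 8) ^ 1 * (1 + (-1) * x ^ 3 + 1 * x ^ 6) ^ 1 * (1 + (-1) * x ^ 2 + 1 * x ^ 4 + (-1) * x ^ 6 + 1 * x ^ 8) ^ 1 * (1 + (-1) * x ^ 4 + 1 * x ^ 8) ^ 1 * (1 + 1 * x ^ 1 + (-1) * x ^ 3 + (-1) * x ^ 4 + (-1)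 * x ^ 5 + 1 * x ^ 7 + 1 * x ^ 8) ^ 1) := by
    refine peel (s := (-2604) + (-521) * x ^ 1 + (-104) * x ^ 2 + (-21) * x ^ 3 + (-4) * x ^ 4 + (-1) * x ^ 5) (t := 1 + 2604 * x ^ 7 + 3125 * x ^ 8 + 625 * x ^ 9 + 125 * x ^ 10 + 2629 * x ^ 11 + 3130 * x ^ 12 + 3230 * x ^ 13 + 646 * x ^ 14 + (-2475) * x ^ 15 + (-495) * x ^ 16 + 2505 * x ^ 17 + 501 * x ^ 18 + 100 * x ^ 19 + 20 * x ^ 20 + 4 * x ^ 21 + 2605 * x ^ 22 + 3125 * x ^ 23 + 625 * x ^ 24 + 125 * x ^ 25 + 25 * x ^ 26 + 5 * x ^ 27 + 1 * x ^ 28) (a := 1 + (-1) * x ^ 1 + 1 * x ^ 2 + (-1) * x ^ 3 + 1 * x ^ 4 + (-1) * x ^ 5 + 1 * x ^ 6) (by rw [hk]; ring) 1 _ (h'.trans (dvd_of_eq ?_))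
    ring
  replace h' : k ∣ (4 : ℤ) ^ 1 * ((-5 : ℤ) * (3 : ℤ) ^ 8 * (13 : ℤ) ^ 8 * (9 : ℤ) ^ 4 * (5 : ℤ) ^ 4 * (7 : ℤ) ^ 2 * (1 : ℤ) ^ 4 * (19531 : ℤ) ^ 1 * (5 : ℤ) ^ 2 * (5997 : ℤ) ^ 1 * (3 : ℤ) ^ 2 * (5 : ℤ) ^ 2 * (13021 : ℤ) ^ 1 * (1 + (-1) * x ^ 3 + 1 * x ^ 6) ^ 1 * (1 + (-1) * x ^ 2 + 1 * x ^ 4 + (-1) * x ^ 6 + 1 * x ^ 8) ^ 1 * (1 + (-1) * x ^ 4 + 1 * x ^ 8) ^ 1 * (1 + 1 * x ^ 1 + (-1) * x ^ 3 + (-1) * x ^ 4 + (-1) * x ^ 5 + 1 * x ^ 7 + 1 * x ^ 8) ^ 1) := by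
    refine peel (s := (-1)) (t := (-1) + 1 * x ^ 3 + 1 * x ^ 5 + 1 * x ^ 7 + 1 * x ^ 9 + 1 * x ^ 11 + 1 * x ^ 13 + (-1) * x ^ 16 + 1 * x ^ 19 + 1 * x ^ 20 + 1 * x ^ 21) (a := 1 + (-1) * x ^ 1 + 1 * x ^ 3 + (-1) * x ^ 4 + 1 * x ^ 5 + (-1) * x ^ 7 + 1 * x ^ 8) (by rw [hk]; ring) 1 _ (h'.trans (dvd_of_eq ?_))
    ring
  replace h' : k ∣ (17461 : ℤ) ^ 1 * ((-5 : ℤ) * (3 : ℤ) ^ 8 * (13 : ℤ) ^ 8 * (9 : ℤ) ^ 4 * (5 : ℤ) ^ 4 * (7 : ℤ) ^ 2 * (1 : ℤ) ^ 4 * (19531 : ℤ) ^ 1 * (5 : ℤ) ^ 2 * (5997 : ℤ) ^ 1 * (3 : ℤ) ^ 2 * (5 : ℤ) ^ 2 * (13021 : ℤ) ^ 1 * (4 : ℤ) ^ 1 * (1 + (-1) * x ^ 2 + 1 * x ^ 4 + (-1) * x ^ 6 + 1 * x ^ 8) ^ 1 * (1 + (-1) * x ^ 4 + 1 * x ^ 8) ^ 1 * (1 + 1 * x ^ 1 + (-1) * x ^ 3 + (-1) * x ^ 4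 + (-1) * x ^ 5 + 1 * x ^ 7 + 1 * x ^ 8) ^ 1) := by
    refine peel (s := (-3490) + (-710) * x ^ 1 + 556 * x ^ 2 + 251 * x ^ 3 + (-49) * x ^ 4 + (-60) * x ^ 5) (t := 11 + (-60) * x ^ 1 + 3490 * x ^ 2 + 710 * x ^ 3 + (-556) * x ^ 4 + 3239 * x ^ 5 + 759 * x ^ 6 + 2994 * x ^ 7 + 459 * x ^ 8 + (-507) * x ^ 9 + 3299 * x ^ 10 + 759 * x ^ 11 + (-496) * x ^ 12 + 3239 * x ^ 13 + 759 * x ^ 14 + (-496) * x ^ 15 + (-251) * x ^ 16 + 3539 * x ^ 17 + 770 * x ^ 18 + (-556) * x ^ 19 + 3239 * x ^ 20 + 759 * x ^ 21 + (-496) * x ^ 22 + 3239 * x ^ 23 + 759 * x ^ 24 + (-496) * x ^ 25 + (-251) * x ^ 26 + 49 * x ^ 27 + 60 * x ^ 28) (a := 1 + (-1) * x ^ 3 + 1 * x ^ 6) (by rw [hk]; ring) 1 _ (h'.trans (dvd_of_eq ?_))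
    ring
  replace h' : k ∣ (5 : ℤ) ^ 1 * ((-5 : ℤ) * (3 : ℤ) ^ 8 * (13 : ℤ) ^ 8 * (9 : ℤ) ^ 4 * (5 : ℤ) ^ 4 * (7 : ℤ) ^ 2 * (1 : ℤ) ^ 4 * (19531 : ℤ) ^ 1 * (5 : ℤ) ^ 2 * (5997 : ℤ) ^ 1 * (3 : ℤ) ^ 2 * (5 : ℤ) ^ 2 * (13021 : ℤ) ^ 1 * (4 : ℤ) ^ 1 * (17461 : ℤ) ^ 1 * (1 + (-1) * x ^ 4 + 1 * x ^ 8) ^ 1 * (1 + 1 * x ^ 1 + (-1) * x ^ 3 + (-1) * x ^ 4 + (-1) * x ^ 5 + 1 * x ^ 7 + 1 * x ^ 8) ^ 1) := by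
    refine peel (s := (-1)) (t := 1 * x ^ 1 + 1 * x ^ 3 + 1 * x ^ 7 + 1 * x ^ 9 + 1 * x ^ 13 + 1 * x ^ 15 + 1 * x ^ 19 + 1 * x ^ 21) (a := 1 + (-1) * x ^ 2 + 1 * x ^ 4 + (-1) * x ^ 6 + 1 * x ^ 8) (by rw [hk]; ring) 1 _ (h'.trans (dvd_of_eq ?_))
    ring
  replace h' : k ∣ (5 : ℤ) ^ 1 * ((-5 : ℤ) * (3 : ℤ) ^ 8 * (13 : ℤ) ^ 8 * (9 : ℤ) ^ 4 * (5 : ℤ) ^ 4 * (7 : ℤ) ^ 2 * (1 : ℤ) ^ 4 * (19531 : ℤ) ^ 1 * (5 : ℤ) ^ 2 * (5997 : ℤ) ^ 1 * (3 : ℤ) ^ 2 * (5 : ℤ) ^ 2 * (13021 : ℤ) ^ 1 * (4 : ℤ) ^ 1 * (17461 : ℤ) ^ 1 * (5 : ℤ) ^ 1 * (1 + 1 * x ^ 1 + (-1) * x ^ 3 + (-1) * x ^ 4 + (-1) * x ^ 5 + 1 * x ^ 7 + 1 * x ^ 8) ^ 1) := by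
    refine peel (s := (-1)) (t := 1 * x ^ 1 + 1 * x ^ 5 + 1 * x ^ 7 + 2 * x ^ 11 + 1 * x ^ 15 + 1 * x ^ 17 + 1 * x ^ 21) (a := 1 + (-1) * x ^ 4 + 1 * x ^ 8) (by rw [hk]; ring) 1 _ (h'.trans (dvd_of_eq ?_))
    ring
  replace h' : k ∣ (6 : ℤ) ^ 1 * ((-5 : ℤ) * (3 : ℤ) ^ 8 * (13 : ℤ) ^ 8 * (9 : ℤ) ^ 4 * (5 : ℤ) ^ 4 * (7 : ℤ) ^ 2 * (1 : ℤ) ^ 4 * (19531 : ℤ) ^ 1 * (5 : ℤ) ^ 2 * (5997 : ℤ) ^ 1 * (3 : ℤ) ^ 2 * (5 : ℤ) ^ 2 * (13021 : ℤ) ^ 1 * (4 : ℤ) ^ 1 * (17461 : ℤ) ^ 1 * (5 : ℤ) ^ 1 * (5 : ℤ) ^ 1) := by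
    refine peel (s := (-1)) (t := 1 + 1 * x ^ 3 + 1 * x ^ 5 + 1 * x ^ 7 + 1 * x ^ 9 + 1 * x ^ 11 + 1 * x ^ 13 + 1 * x ^ 16 + 1 * x ^ 19 + (-1) * x ^ 20 + 1 * x ^ 21) (a := 1 + 1 * x ^ 1 + (-1) * x ^ 3 + (-1) * x ^ 4 + (-1) * x ^ 5 + 1 * x ^ 7 + 1 * x ^ 8) (by rw [hk]; ring) 1 _ (h'.trans (dvd_of_eq ?_))
    ring
  have hpos : (0 : ℤ) < k ∧ (483257667000796160790406114665561476953125000 : ℤ) < k := by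
    obtain ⟨w, hw⟩ : ∃ w : ℕ, q = w + 250 := ⟨q - 250, by omega⟩
    have e1 : 1 * k = x ^ 29 + (14210854718840040732175126672029495239318847656250000245 + 1307398634075074689462781727324485778810302734375000001 * (w : ℤ) ^ 1 + 57525539897091347724199313640804290771504882812500000 * (w : ℤ) ^ 2 + 1610715117065471336245537076952590942382949218750000 * (w : ℤ) ^ 3 + 32214302340406959950923922405263061523438046875000 * (w : ℤ) ^ 4 + 489657395562634240865707417099111816406251312500 * (w : ℤ) ^ 5 + 5875888746636095613479614362549279296875001750 * (w : ℤ) ^ 6 + 57080062109255094001770019950196601562500001 * (w : ℤ) ^ 7 + 456640496868033978691101075475588515625000 * (w : ℤ) ^ 8 + 3044269979088190449676513674667972187500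 * (w : ℤ) ^ 9 + 17047911882752907986328125004468752750 * (w : ℤ) ^ 10 + 80590128899773898285156250004875001 * (w : ℤ) ^ 11 + 322360515597557867371093750003250 * (w : ℤ) ^ 12 + 1091066360480256845234375000001 * (w : ℤ) ^ 13 + 3117332458507449229375000000 * (w : ℤ) ^ 14 + 7481597900405765633500000 * (w : ℤ) ^ 15 + 14963195800796390629250 * (w : ℤ) ^ 16 + 24645263671885687501 * (w : ℤ) ^ 17 + 32860351562504750 * (w : ℤ) ^ 18 + 34589843750001 * (w : ℤ) ^ 19 + 27671875000 * (w : ℤ) ^ 20 + 15812500 * (w : ℤ) ^ 21 + 5750 * (w : ℤ) ^ 22 + 1 * (w : ℤ) ^ 23) := by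
      rw [hk, hx, hw]; push_cast; ring
    have e2 : (250 : ℤ) ^ 29 ≤ x ^ 29 := pow_le_pow_left₀ (by norm_num) (by rw [hx]; exact_mod_cast hq0) _
    have e3 : (0 : ℤ) ≤ 14210854718840040732175126672029495239318847656250000245 + 1307398634075074689462781727324485778810302734375000001 * (w : ℤ) ^ 1 + 57525539897091347724199313640804290771504882812500000 * (w : ℤ) ^ 2 + 1610715117065471336245537076952590942382949218750000 * (w : ℤ) ^ 3 + 32214302340406959950923922405263061523438046875000 * (w : ℤ) ^ 4 + 489657395562634240865707417099111816406251312500 * (w : ℤ) ^ 5 + 5875888746636095613479614362549279296875001750 * (w : ℤ) ^ 6 + 57080062109255094001770019950196601562500001 * (w : ℤ) ^ 7 + 456640496868033978691101075475588515625000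 * (w : ℤ) ^ 8 + 3044269979088190449676513674667972187500 * (w : ℤ) ^ 9 + 17047911882752907986328125004468752750 * (w : ℤ) ^ 10 + 80590128899773898285156250004875001 * (w : ℤ) ^ 11 + 322360515597557867371093750003250 * (w : ℤ) ^ 12 + 1091066360480256845234375000001 * (w : ℤ) ^ 13 + 3117332458507449229375000000 * (w : ℤ) ^ 14 + 7481597900405765633500000 * (w : ℤ) ^ 15 + 14963195800796390629250 * (w : ℤ) ^ 16 + 24645263671885687501 * (w : ℤ) ^ 17 + 32860351562504750 * (w : ℤ) ^ 18 + 34589843750001 * (w : ℤ) ^ 19 + 27671875000 * (w : ℤ) ^ 20 + 15812500 * (w : ℤ) ^ 21 + 5750 * (w : ℤ) ^ 22 + 1 * (w : ℤ) ^ 23 := by positivity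
    norm_num at e2
    constructor <;> linarith
  have := Int.le_of_dvd (by norm_num) (dvd_abs _ _ |>.2 h')
  norm_num at this
  linarith [hpos.1, hpos.2]

theorem not_dvd_6 {q : ℕ} (hq : IsPrimePow q) (hq0 : 250 ≤ q) : ¬ (bnd q - 6) ∣ ord' q := by
  intro h
  have hle : 6 ≤ bnd q := by
    have h1 : 1 ≤ (q ^ 12 + 1) * (q ^ 10 + 1) * (q ^ 6 + 1) := Nat.one_le_iff_ne_zero.2 (by positivity)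
    calc 6 ≤ q * 1 := by omega
      _ ≤ _ := by rw [bnd, mul_assoc, mul_assoc, ← mul_assoc (q ^ 12 + 1)]; exact Nat.mul_le_mul_left _ h1
  have h' : ((bnd q - 6 : ℕ) : ℤ) ∣ (ord' q : ℤ) := Int.natCast_dvd_natCast.2 h
  rw [Nat.cast_sub hle, ord'_cast (by omega)] at h'
  simp only [bnd, Nat.cast_mul, Nat.cast_add, Nat.cast_pow, Nat.cast_one, Nat.cast_ofNat] at h'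
  set x : ℤ := (q : ℤ) with hx
  set k : ℤ := (-6) + 1 * x ^ 1 + 1 * x ^ 7 + 1 * x ^ 11 + 1 * x ^ 13 + 1 * x ^ 17 + 1 * x ^ 19 + 1 * x ^ 23 + 1 * x ^ 29 with hk
  replace h' : k ∣ x ^ 120 * (((-1) + 1 * x ^ 1) ^ 8 * (1 + 1 * x ^ 1) ^ 8 * (1 + 1 * x ^ 1 + 1 * x ^ 2) ^ 4 * (1 + 1 * x ^ 2) ^ 4 * (1 + 1 * x ^ 1 + 1 * x ^ 2 + 1 * x ^ 3 + 1 * x ^ 4) ^ 2 * (1 + (-1) * x ^ 1 + 1 * x ^ 2) ^ 4 * (1 + 1 * x ^ 1 + 1 * x ^ 2 + 1 * x ^ 3 + 1 * x ^ 4 + 1 * x ^ 5 + 1 * x ^ 6) ^ 1 * (1 + 1 * x ^ 4) ^ 2 * (1 + 1 * x ^ 3 + 1 * x ^ 6) ^ 1 * (1 + (-1) * x ^ 1 + 1 * x ^ 2 + (-1) * x ^ 3 + 1 * x ^ 4) ^ 2 * (1 + (-1) * x ^ 2 + 1 * x ^ 4) ^ 2 * (1 + (-1) * x ^ 1 + 1 * x ^ 2 + (-1) * x ^ 3 + 1 * x ^ 4 + (-1) * x ^ 5 + 1 *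 x ^ 6) ^ 1 * (1 + (-1) * x ^ 1 + 1 * x ^ 3 + (-1) * x ^ 4 + 1 * x ^ 5 + (-1) * x ^ 7 + 1 * x ^ 8) ^ 1 * (1 + (-1) * x ^ 3 + 1 * x ^ 6) ^ 1 * (1 + (-1) * x ^ 2 + 1 * x ^ 4 + (-1) * x ^ 6 + 1 * x ^ 8) ^ 1 * (1 + (-1) * x ^ 4 + 1 * x ^ 8) ^ 1 * (1 + 1 * x ^ 1 + (-1) * x ^ 3 + (-1) * x ^ 4 + (-1) * x ^ 5 + 1 * x ^ 7 + 1 * x ^ 8) ^ 1) := by
    refine dvd_trans ⟨1, ?_⟩ h'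
    rw [hk]; ring
  replace h' := peel_prime_pow hq (r := 1 + 1 * x ^ 6 + 1 * x ^ 10 + 1 * x ^ 12 + 1 * x ^ 16 + 1 * x ^ 18 + 1 * x ^ 22 + 1 * x ^ 28) (c := -6) (by rw [hk]; ring) (by norm_num) (by norm_num; omega) h'
  simp only [← mul_assoc] at h'
  replace h' : k ∣ (2 : ℤ) ^ 8 * ((-6 : ℤ) * (1 + 1 * x ^ 1) ^ 8 * (1 + 1 * x ^ 1 + 1 * x ^ 2) ^ 4 * (1 + 1 * x ^ 2) ^ 4 * (1 + 1 * x ^ 1 + 1 * x ^ 2 + 1 * x ^ 3 + 1 * x ^ 4) ^ 2 * (1 + (-1) * x ^ 1 + 1 * x ^ 2) ^ 4 * (1 + 1 * x ^ 1 + 1 * x ^ 2 + 1 * x ^ 3 + 1 * x ^ 4 + 1 * x ^ 5 + 1 * x ^ 6) ^ 1 * (1 + 1 * x ^ 4) ^ 2 * (1 + 1 * x ^ 3 + 1 * x ^ 6) ^ 1 * (1 + (-1) * x ^ 1 + 1 * x ^ 2 + (-1) * x ^ 3 + 1 * x ^ 4) ^ 2 * (1 + (-1) * x ^ 2 + 1 * x ^ 4) ^ 2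 * (1 + (-1) * x ^ 1 + 1 * x ^ 2 + (-1) * x ^ 3 + 1 * x ^ 4 + (-1) * x ^ 5 + 1 * x ^ 6) ^ 1 * (1 + (-1) * x ^ 1 + 1 * x ^ 3 + (-1) * x ^ 4 + 1 * x ^ 5 + (-1) * x ^ 7 + 1 * x ^ 8) ^ 1 * (1 + (-1) * x ^ 3 + 1 * x ^ 6) ^ 1 * (1 + (-1) * x ^ 2 + 1 * x ^ 4 + (-1) * x ^ 6 + 1 * x ^ 8) ^ 1 * (1 + (-1) * x ^ 4 + 1 * x ^ 8) ^ 1 * (1 + 1 * x ^ 1 + (-1) * x ^ 3 + (-1) * x ^ 4 + (-1) * x ^ 5 + 1 * x ^ 7 + 1 * x ^ 8) ^ 1) := by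
    refine peel (s := 1) (t := (-8) + (-7) * x ^ 1 + (-7) * x ^ 2 + (-7) * x ^ 3 + (-7) * x ^ 4 + (-7) * x ^ 5 + (-7) * x ^ 6 + (-6) * x ^ 7 + (-6) * x ^ 8 + (-6) * x ^ 9 + (-6) * x ^ 10 + (-5) * x ^ 11 + (-5) * x ^ 12 + (-4) * x ^ 13 + (-4) * x ^ 14 + (-4) * x ^ 15 + (-4) * x ^ 16 + (-3) * x ^ 17 + (-3) * x ^ 18 + (-2) * x ^ 19 + (-2) * x ^ 20 + (-2) * x ^ 21 + (-2) * x ^ 22 + (-1) * x ^ 23 + (-1) * x ^ 24 + (-1) * x ^ 25 + (-1) * x ^ 26 + (-1) * x ^ 27 + (-1) * x ^ 28) (a := (-1) + 1 * x ^ 1) (by rw [hk]; ring) 8 _ (h'.trans (dvd_of_eq ?_))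
    ring
  replace h' : k ∣ (14 : ℤ) ^ 8 * ((-6 : ℤ) * (2 : ℤ) ^ 8 * (1 + 1 * x ^ 1 + 1 * x ^ 2) ^ 4 * (1 + 1 * x ^ 2) ^ 4 * (1 + 1 * x ^ 1 + 1 * x ^ 2 + 1 * x ^ 3 + 1 * x ^ 4) ^ 2 * (1 + (-1) * x ^ 1 + 1 * x ^ 2) ^ 4 * (1 + 1 * x ^ 1 + 1 * x ^ 2 + 1 * x ^ 3 + 1 * x ^ 4 + 1 * x ^ 5 + 1 * x ^ 6) ^ 1 * (1 + 1 * x ^ 4) ^ 2 * (1 + 1 * x ^ 3 + 1 * x ^ 6) ^ 1 * (1 + (-1) * x ^ 1 + 1 * x ^ 2 + (-1) * x ^ 3 + 1 * x ^ 4) ^ 2 * (1 + (-1) * x ^ 2 + 1 * x ^ 4) ^ 2 * (1 + (-1) * x ^ 1 + 1 * x ^ 2 + (-1) * x ^ 3 + 1 * x ^ 4 + (-1) * x ^ 5 + 1 * x ^ 6) ^ 1 * (1 + (-1) * x ^ 1 + 1 * x ^ 3 + (-1) * x ^ 4 + 1 * x ^ 5 + (-1) * x ^ 7 + 1 * x ^ 8) ^ 1 * (1 + (-1) * x ^ 3 + 1 * x ^ 6) ^ 1 * (1 + (-1) * x ^ 2 + 1 * x ^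 4 + (-1) * x ^ 6 + 1 * x ^ 8) ^ 1 * (1 + (-1) * x ^ 4 + 1 * x ^ 8) ^ 1 * (1 + 1 * x ^ 1 + (-1) * x ^ 3 + (-1) * x ^ 4 + (-1) * x ^ 5 + 1 * x ^ 7 + 1 * x ^ 8) ^ 1) := by
    refine peel (s := (-1)) (t := 8 + (-7) * x ^ 1 + 7 * x ^ 2 + (-7) * x ^ 3 + 7 * x ^ 4 + (-7) * x ^ 5 + 7 * x ^ 6 + (-6) * x ^ 7 + 6 * x ^ 8 + (-6) * x ^ 9 + 6 * x ^ 10 + (-5) * x ^ 11 + 5 * x ^ 12 + (-4) * x ^ 13 + 4 * x ^ 14 + (-4) * x ^ 15 + 4 * x ^ 16 + (-3) * x ^ 17 + 3 * x ^ 18 + (-2) * x ^ 19 + 2 * x ^ 20 + (-2) * x ^ 21 + 2 * x ^ 22 + (-1) * x ^ 23 + 1 * x ^ 24 + (-1) * x ^ 25 + 1 * x ^ 26 + (-1) * x ^ 27 + 1 * x ^ 28) (a := 1 + 1 * x ^ 1) (by rw [hk]; ring) 8 _ (h'.trans (dvd_of_eq ?_))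
    ring
  replace h' : k ∣ (10 : ℤ) ^ 4 * ((-6 : ℤ) * (2 : ℤ) ^ 8 * (14 : ℤ) ^ 8 * (1 + 1 * x ^ 2) ^ 4 * (1 + 1 * x ^ 1 + 1 * x ^ 2 + 1 * x ^ 3 + 1 * x ^ 4) ^ 2 * (1 + (-1) * x ^ 1 + 1 * x ^ 2) ^ 4 * (1 + 1 * x ^ 1 + 1 * x ^ 2 + 1 * x ^ 3 + 1 * x ^ 4 + 1 * x ^ 5 + 1 * x ^ 6) ^ 1 * (1 + 1 * x ^ 4) ^ 2 * (1 + 1 * x ^ 3 + 1 * x ^ 6) ^ 1 * (1 + (-1) * x ^ 1 + 1 * x ^ 2 + (-1) * x ^ 3 + 1 * x ^ 4) ^ 2 * (1 + (-1) * x ^ 2 + 1 * x ^ 4) ^ 2 * (1 + (-1) * x ^ 1 + 1 * x ^ 2 + (-1) * x ^ 3 + 1 * x ^ 4 + (-1) * x ^ 5 + 1 * x ^ 6) ^ 1 * (1 + (-1) * x ^ 1 + 1 * x ^ 3 + (-1) * x ^ 4 + 1 * x ^ 5 + (-1) * x ^ 7 + 1 * x ^ 8) ^ 1 * (1 + (-1) * x ^ 3 + 1 * x ^ 6) ^ 1 * (1 + (-1) * x ^ 2 + 1 * x ^ 4 + (-1) * x ^ 6 +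 1 * x ^ 8) ^ 1 * (1 + (-1) * x ^ 4 + 1 * x ^ 8) ^ 1 * (1 + 1 * x ^ 1 + (-1) * x ^ 3 + (-1) * x ^ 4 + (-1) * x ^ 5 + 1 * x ^ 7 + 1 * x ^ 8) ^ 1) := by
    refine peel (s := (-1)) (t := 4 + (-3) * x ^ 1 + (-1) * x ^ 2 + 4 * x ^ 3 + (-3) * x ^ 4 + (-1) * x ^ 5 + 4 * x ^ 6 + (-2) * x ^ 7 + (-2) * x ^ 8 + 4 * x ^ 9 + (-2) * x ^ 10 + (-1) * x ^ 11 + 3 * x ^ 12 + (-1) * x ^ 13 + (-2) * x ^ 14 + 3 * x ^ 15 + (-1) * x ^ 16 + (-1) * x ^ 17 + 2 * x ^ 18 + (-2) * x ^ 20 + 2 * x ^ 21 + (-1) * x ^ 23 + 1 * x ^ 24 + (-1) * x ^ 26 + 1 * x ^ 27) (a := 1 + 1 * x ^ 1 + 1 * x ^ 2) (by rw [hk]; ring) 4 _ (h'.trans (dvd_of_eq ?_))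
    ring
  replace h' : k ∣ (6 : ℤ) ^ 4 * ((-6 : ℤ) * (2 : ℤ) ^ 8 * (14 : ℤ) ^ 8 * (10 : ℤ) ^ 4 * (1 + 1 * x ^ 1 + 1 * x ^ 2 + 1 * x ^ 3 + 1 * x ^ 4) ^ 2 * (1 + (-1) * x ^ 1 + 1 * x ^ 2) ^ 4 * (1 + 1 * x ^ 1 + 1 * x ^ 2 + 1 * x ^ 3 + 1 * x ^ 4 + 1 * x ^ 5 + 1 * x ^ 6) ^ 1 * (1 + 1 * x ^ 4) ^ 2 * (1 + 1 * x ^ 3 + 1 * x ^ 6) ^ 1 * (1 + (-1) * x ^ 1 + 1 * x ^ 2 + (-1) * x ^ 3 + 1 * x ^ 4) ^ 2 * (1 + (-1) * x ^ 2 + 1 * x ^ 4) ^ 2 * (1 + (-1) * x ^ 1 + 1 * x ^ 2 + (-1) * x ^ 3 + 1 * x ^ 4 + (-1) * x ^ 5 + 1 * x ^ 6) ^ 1 * (1 + (-1) * x ^ 1 + 1 * x ^ 3 + (-1) * x ^ 4 + 1 * x ^ 5 + (-1) * x ^ 7 + 1 * x ^ 8) ^ 1 * (1 + (-1) * x ^ 3 + 1 * x ^ 6) ^ 1 * (1 + (-1) * x ^ 2 + 1 * x ^ 4 + (-1) * x ^ 6 + 1 * x ^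 8) ^ 1 * (1 + (-1) * x ^ 4 + 1 * x ^ 8) ^ 1 * (1 + 1 * x ^ 1 + (-1) * x ^ 3 + (-1) * x ^ 4 + (-1) * x ^ 5 + 1 * x ^ 7 + 1 * x ^ 8) ^ 1) := by
    refine peel (s := (-1)) (t := 1 * x ^ 1 + (-1) * x ^ 3 + 1 * x ^ 5 + 1 * x ^ 11 + 1 * x ^ 17 + 1 * x ^ 23 + (-1) * x ^ 25 + 1 * x ^ 27) (a := 1 + 1 * x ^ 2) (by rw [hk]; ring) 4 _ (h'.trans (dvd_of_eq ?_))
    ring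
  replace h' : k ∣ (8 : ℤ) ^ 2 * ((-6 : ℤ) * (2 : ℤ) ^ 8 * (14 : ℤ) ^ 8 * (10 : ℤ) ^ 4 * (6 : ℤ) ^ 4 * (1 + (-1) * x ^ 1 + 1 * x ^ 2) ^ 4 * (1 + 1 * x ^ 1 + 1 * x ^ 2 + 1 * x ^ 3 + 1 * x ^ 4 + 1 * x ^ 5 + 1 * x ^ 6) ^ 1 * (1 + 1 * x ^ 4) ^ 2 * (1 + 1 * x ^ 3 + 1 * x ^ 6) ^ 1 * (1 + (-1) * x ^ 1 + 1 * x ^ 2 + (-1) * x ^ 3 + 1 * x ^ 4) ^ 2 * (1 + (-1) * x ^ 2 + 1 * x ^ 4) ^ 2 * (1 + (-1) * x ^ 1 + 1 * x ^ 2 + (-1) * x ^ 3 + 1 * x ^ 4 + (-1) * x ^ 5 + 1 * x ^ 6) ^ 1 * (1 + (-1) * x ^ 1 + 1 * x ^ 3 + (-1) * x ^ 4 + 1 * x ^ 5 + (-1) * x ^ 7 + 1 * x ^ 8) ^ 1 * (1 + (-1) * x ^ 3 + 1 * x ^ 6) ^ 1 * (1 + (-1) * x ^ 2 + 1 * x ^ 4 + (-1) * x ^ 6 + 1 * x ^ 8) ^ 1 * (1 + (-1) * x ^ 4 + 1 * x ^ 8) ^ 1 * (1 + 1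 * x ^ 1 + (-1) * x ^ 3 + (-1) * x ^ 4 + (-1) * x ^ 5 + 1 * x ^ 7 + 1 * x ^ 8) ^ 1) := by
    refine peel (s := (-1)) (t := 2 + (-1) * x ^ 1 + (-1) * x ^ 2 + 2 * x ^ 5 + (-1) * x ^ 6 + (-1) * x ^ 8 + 2 * x ^ 10 + (-1) * x ^ 12 + (-1) * x ^ 14 + 2 * x ^ 15 + (-1) * x ^ 18 + 1 * x ^ 20 + (-1) * x ^ 24 + 1 * x ^ 25) (a := 1 + 1 * x ^ 1 + 1 * x ^ 2 + 1 * x ^ 3 + 1 * x ^ 4) (by rw [hk]; ring) 2 _ (h'.trans (dvd_of_eq ?_))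
    ring
  replace h' : k ∣ (2 : ℤ) ^ 4 * ((-6 : ℤ) * (2 : ℤ) ^ 8 * (14 : ℤ) ^ 8 * (10 : ℤ) ^ 4 * (6 : ℤ) ^ 4 * (8 : ℤ) ^ 2 * (1 + 1 * x ^ 1 + 1 * x ^ 2 + 1 * x ^ 3 + 1 * x ^ 4 + 1 * x ^ 5 + 1 * x ^ 6) ^ 1 * (1 + 1 * x ^ 4) ^ 2 * (1 + 1 * x ^ 3 + 1 * x ^ 6) ^ 1 * (1 + (-1) * x ^ 1 + 1 * x ^ 2 + (-1) * x ^ 3 + 1 * x ^ 4) ^ 2 * (1 + (-1) * x ^ 2 + 1 * x ^ 4) ^ 2 * (1 + (-1) * x ^ 1 + 1 * x ^ 2 + (-1) * x ^ 3 + 1 * x ^ 4 + (-1) * x ^ 5 + 1 * x ^ 6) ^ 1 * (1 + (-1) * x ^ 1 + 1 * x ^ 3 + (-1) * x ^ 4 + 1 * x ^ 5 + (-1) * x ^ 7 + 1 * x ^ 8) ^ 1 * (1 + (-1) * x ^ 3 + 1 * x ^ 6) ^ 1 * (1 + (-1) * x ^ 2 + 1 * x ^ 4 + (-1) * x ^ 6 + 1 * x ^ 8) ^ 1 * (1 + (-1) * x ^ 4 + 1 * x ^ 8) ^ 1 * (1 + 1 * x ^ 1 + (-1)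 * x ^ 3 + (-1) * x ^ 4 + (-1) * x ^ 5 + 1 * x ^ 7 + 1 * x ^ 8) ^ 1) := by
    refine peel (s := (-1)) (t := (-4) + (-3) * x ^ 1 + 1 * x ^ 2 + 4 * x ^ 3 + 3 * x ^ 4 + (-1) * x ^ 5 + (-4) * x ^ 6 + (-2) * x ^ 7 + 2 * x ^ 8 + 4 * x ^ 9 + 2 * x ^ 10 + (-1) * x ^ 11 + (-3) * x ^ 12 + (-1) * x ^ 13 + 2 * x ^ 14 + 3 * x ^ 15 + 1 * x ^ 16 + (-1) * x ^ 17 + (-2) * x ^ 18 + 2 * x ^ 20 + 2 * x ^ 21 + (-1) * x ^ 23 + (-1) * x ^ 24 + 1 * x ^ 26 + 1 * x ^ 27) (a := 1 + (-1) * x ^ 1 + 1 * x ^ 2) (by rw [hk]; ring) 4 _ (h'.trans (dvd_of_eq ?_))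
    ring
  replace h' : k ∣ (55987 : ℤ) ^ 1 * ((-6 : ℤ) * (2 : ℤ) ^ 8 * (14 : ℤ) ^ 8 * (10 : ℤ) ^ 4 * (6 : ℤ) ^ 4 * (8 : ℤ) ^ 2 * (2 : ℤ) ^ 4 * (1 + 1 * x ^ 4) ^ 2 * (1 + 1 * x ^ 3 + 1 * x ^ 6) ^ 1 * (1 + (-1) * x ^ 1 + 1 * x ^ 2 + (-1) * x ^ 3 + 1 * x ^ 4) ^ 2 * (1 + (-1) * x ^ 2 + 1 * x ^ 4) ^ 2 * (1 + (-1) * x ^ 1 + 1 * x ^ 2 + (-1) * x ^ 3 + 1 * x ^ 4 + (-1) * x ^ 5 + 1 * x ^ 6) ^ 1 * (1 + (-1) * x ^ 1 + 1 * x ^ 3 + (-1) * x ^ 4 + 1 * x ^ 5 + (-1) * x ^ 7 + 1 * x ^ 8) ^ 1 * (1 + (-1) * x ^ 3 + 1 * x ^ 6) ^ 1 * (1 + (-1) * x ^ 2 + 1 * x ^ 4 + (-1) * x ^ 6 + 1 * x ^ 8) ^ 1 * (1 + (-1) * x ^ 4 + 1 * x ^ 8) ^ 1 * (1 + 1 * x ^ 1 + (-1) * x ^ 3 + (-1) * x ^ 4 + (-1) * x ^ 5 + 1 * x ^ 7 + 1 * x ^ 8)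 ^ 1) := by
    refine peel (s := (-9331) + (-1555) * x ^ 1 + (-259) * x ^ 2 + (-43) * x ^ 3 + (-7) * x ^ 4 + (-1) * x ^ 5) (t := 1 + 9331 * x ^ 7 + (-7776) * x ^ 8 + (-1296) * x ^ 9 + (-216) * x ^ 10 + 9295 * x ^ 11 + (-7782) * x ^ 12 + 8034 * x ^ 13 + 1339 * x ^ 14 + (-9108) * x ^ 15 + (-1518) * x ^ 16 + 9078 * x ^ 17 + 1513 * x ^ 18 + 252 * x ^ 19 + 42 * x ^ 20 + 7 * x ^ 21 + (-9330) * x ^ 22 + 7776 * x ^ 23 + 1296 * x ^ 24 + 216 * x ^ 25 + 36 * x ^ 26 + 6 * x ^ 27 + 1 * x ^ 28) (a := 1 + 1 * x ^ 1 + 1 * x ^ 2 + 1 * x ^ 3 + 1 * x ^ 4 + 1 * x ^ 5 + 1 * x ^ 6) (by rw [hk]; ring) 1 _ (h'.trans (dvd_of_eq ?_))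
    ring
  replace h' : k ∣ (6 : ℤ) ^ 2 * ((-6 : ℤ) * (2 : ℤ) ^ 8 * (14 : ℤ) ^ 8 * (10 : ℤ) ^ 4 * (6 : ℤ) ^ 4 * (8 : ℤ) ^ 2 * (2 : ℤ) ^ 4 * (55987 : ℤ) ^ 1 * (1 + 1 * x ^ 3 + 1 * x ^ 6) ^ 1 * (1 + (-1) * x ^ 1 + 1 * x ^ 2 + (-1) * x ^ 3 + 1 * x ^ 4) ^ 2 * (1 + (-1) * x ^ 2 + 1 * x ^ 4) ^ 2 * (1 + (-1) * x ^ 1 + 1 * x ^ 2 + (-1) * x ^ 3 + 1 * x ^ 4 + (-1) * x ^ 5 + 1 * x ^ 6) ^ 1 * (1 + (-1) * x ^ 1 + 1 * x ^ 3 + (-1) * x ^ 4 + 1 * x ^ 5 + (-1) * x ^ 7 + 1 * x ^ 8) ^ 1 * (1 + (-1) * x ^ 3 + 1 * x ^ 6) ^ 1 * (1 + (-1) * x ^ 2 + 1 * x ^ 4 + (-1) * x ^ 6 + 1 * x ^ 8) ^ 1 * (1 + (-1) * x ^ 4 + 1 * x ^ 8) ^ 1 * (1 + 1 * x ^ 1 + (-1) * x ^ 3 + (-1) * x ^ 4 + (-1) * x ^ 5 + 1 * x ^ 7 + 1 * x ^ 8) ^ 1) :=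 by
    refine peel (s := (-1)) (t := 1 * x ^ 1 + (-1) * x ^ 5 + 1 * x ^ 7 + 1 * x ^ 9 + 1 * x ^ 17 + 1 * x ^ 19 + (-1) * x ^ 21 + 1 * x ^ 25) (a := 1 + 1 * x ^ 4) (by rw [hk]; ring) 2 _ (h'.trans (dvd_of_eq ?_))
    ring
  replace h' : k ∣ (51319 : ℤ) ^ 1 * ((-6 : ℤ) * (2 : ℤ) ^ 8 * (14 : ℤ) ^ 8 * (10 : ℤ) ^ 4 * (6 : ℤ) ^ 4 * (8 : ℤ) ^ 2 * (2 : ℤ) ^ 4 * (55987 : ℤ) ^ 1 * (6 : ℤ) ^ 2 * (1 + (-1) * x ^ 1 + 1 * x ^ 2 + (-1) * x ^ 3 + 1 * x ^ 4) ^ 2 * (1 + (-1) * x ^ 2 + 1 * x ^ 4) ^ 2 * (1 + (-1) * x ^ 1 + 1 * x ^ 2 + (-1) * x ^ 3 + 1 * x ^ 4 + (-1) * x ^ 5 + 1 * x ^ 6) ^ 1 * (1 + (-1) * x ^ 1 + 1 * x ^ 3 + (-1) * x ^ 4 + 1 * x ^ 5 + (-1) * x ^ 7 + 1 * x ^ 8) ^ 1 * (1 + (-1) * x ^ 3 + 1 * x ^ 6) ^ 1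 * (1 + (-1) * x ^ 2 + 1 * x ^ 4 + (-1) * x ^ 6 + 1 * x ^ 8) ^ 1 * (1 + (-1) * x ^ 4 + 1 * x ^ 8) ^ 1 * (1 + 1 * x ^ 1 + (-1) * x ^ 3 + (-1) * x ^ 4 + (-1) * x ^ 5 + 1 * x ^ 7 + 1 * x ^ 8) ^ 1) := by
    refine peel (s := (-8478) + (-1392) * x ^ 1 + (-1645) * x ^ 2 + (-431) * x ^ 3 + (-325) * x ^ 4 + (-126) * x ^ 5) (t := 451 + 126 * x ^ 1 + (-8478) * x ^ 2 + (-1392) * x ^ 3 + (-1645) * x ^ 4 + 8047 * x ^ 5 + 1067 * x ^ 6 + 9997 * x ^ 7 + 1823 * x ^ 8 + 1970 * x ^ 9 + (-7921) * x ^ 10 + (-1067) * x ^ 11 + (-1519) * x ^ 12 + 8047 * x ^ 13 + 1067 * x ^ 14 + 1519 * x ^ 15 + 431 * x ^ 16 + 8803 * x ^ 17 + 1518 * x ^ 18 + 1645 * x ^ 19 + (-8047) * x ^ 20 + (-1067) * x ^ 21 + (-1519) * x ^ 22 + 8047 * x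 ^ 23 + 1067 * x ^ 24 + 1519 * x ^ 25 + 431 * x ^ 26 + 325 * x ^ 27 + 126 * x ^ 28) (a := 1 + 1 * x ^ 3 + 1 * x ^ 6) (by rw [hk]; ring) 1 _ (h'.trans (dvd_of_eq ?_))
    ring
  replace h' : k ∣ (4 : ℤ) ^ 2 * ((-6 : ℤ) * (2 : ℤ) ^ 8 * (14 : ℤ) ^ 8 * (10 : ℤ) ^ 4 * (6 : ℤ) ^ 4 * (8 : ℤ) ^ 2 * (2 : ℤ) ^ 4 * (55987 : ℤ) ^ 1 * (6 : ℤ) ^ 2 * (51319 : ℤ) ^ 1 * (1 + (-1) * x ^ 2 + 1 * x ^ 4) ^ 2 * (1 + (-1) * x ^ 1 + 1 * x ^ 2 + (-1) * x ^ 3 + 1 * x ^ 4 + (-1) * x ^ 5 + 1 * x ^ 6) ^ 1 * (1 + (-1) * x ^ 1 + 1 * x ^ 3 + (-1) * x ^ 4 + 1 * x ^ 5 + (-1) * x ^ 7 + 1 * x ^ 8) ^ 1 * (1 + (-1) * x ^ 3 + 1 * x ^ 6) ^ 1 * (1 + (-1) * x ^ 2 + 1 * x ^ 4 + (-1) * x ^ 6 + 1 * x ^ 8) ^ 1 * (1 + (-1) * x ^ 4 + 1 * x ^ 8)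 ^ 1 * (1 + 1 * x ^ 1 + (-1) * x ^ 3 + (-1) * x ^ 4 + (-1) * x ^ 5 + 1 * x ^ 7 + 1 * x ^ 8) ^ 1) := by
    refine peel (s := (-1)) (t := (-2) + (-1) * x ^ 1 + 1 * x ^ 2 + 2 * x ^ 5 + 1 * x ^ 6 + 1 * x ^ 8 + (-2) * x ^ 10 + 1 * x ^ 12 + 1 * x ^ 14 + 2 * x ^ 15 + 1 * x ^ 18 + (-1) * x ^ 20 + 1 * x ^ 24 + 1 * x ^ 25) (a := 1 + (-1) * x ^ 1 + 1 * x ^ 2 + (-1) * x ^ 3 + 1 * x ^ 4) (by rw [hk]; ring) 2 _ (h'.trans (dvd_of_eq ?_))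
    ring
  replace h' : k ∣ (6 : ℤ) ^ 2 * ((-6 : ℤ) * (2 : ℤ) ^ 8 * (14 : ℤ) ^ 8 * (10 : ℤ) ^ 4 * (6 : ℤ) ^ 4 * (8 : ℤ) ^ 2 * (2 : ℤ) ^ 4 * (55987 : ℤ) ^ 1 * (6 : ℤ) ^ 2 * (51319 : ℤ) ^ 1 * (4 : ℤ) ^ 2 * (1 + (-1) * x ^ 1 + 1 * x ^ 2 + (-1) * x ^ 3 + 1 * x ^ 4 + (-1) * x ^ 5 + 1 * x ^ 6) ^ 1 * (1 + (-1) * x ^ 1 + 1 * x ^ 3 + (-1) * x ^ 4 + 1 * x ^ 5 + (-1) * x ^ 7 + 1 * x ^ 8) ^ 1 * (1 + (-1) * x ^ 3 + 1 * x ^ 6) ^ 1 * (1 + (-1) * x ^ 2 + 1 * x ^ 4 + (-1) * x ^ 6 + 1 * x ^ 8) ^ 1 * (1 + (-1) * x ^ 4 + 1 * x ^ 8) ^ 1 * (1 + 1 * x ^ 1 + (-1) * x ^ 3 + (-1) * x ^ 4 + (-1) * x ^ 5 + 1 * x ^ 7 + 1 * x ^ 8) ^ 1) := by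
    refine peel (s := (-1)) (t := 1 * x ^ 1 + 1 * x ^ 3 + 1 * x ^ 11 + 2 * x ^ 13 + 1 * x ^ 15 + 1 * x ^ 23 + 1 * x ^ 25) (a := 1 + (-1) * x ^ 2 + 1 * x ^ 4) (by rw [hk]; ring) 2 _ (h'.trans (dvd_of_eq ?_))
    ring
  replace h' : k ∣ (39991 : ℤ) ^ 1 * ((-6 : ℤ) * (2 : ℤ) ^ 8 * (14 : ℤ) ^ 8 * (10 : ℤ) ^ 4 * (6 : ℤ) ^ 4 * (8 : ℤ) ^ 2 * (2 : ℤ) ^ 4 * (55987 : ℤ) ^ 1 * (6 : ℤ) ^ 2 * (51319 : ℤ) ^ 1 * (4 : ℤ) ^ 2 * (6 : ℤ) ^ 2 * (1 + (-1) * x ^ 1 + 1 * x ^ 3 + (-1) * x ^ 4 + 1 * x ^ 5 + (-1) * x ^ 7 + 1 * x ^ 8) ^ 1 * (1 + (-1) * x ^ 3 + 1 * x ^ 6) ^ 1 * (1 + (-1) * x ^ 2 + 1 * x ^ 4 + (-1) * x ^ 6 + 1 * x ^ 8) ^ 1 * (1 + (-1) * x ^ 4 + 1 * x ^ 8) ^ 1 * (1 + 1 * x ^ 1 + (-1) * x ^ 3 + (-1) * x ^ 4 +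 (-1) * x ^ 5 + 1 * x ^ 7 + 1 * x ^ 8) ^ 1) := by
    refine peel (s := (-6665) + (-1111) * x ^ 1 + (-185) * x ^ 2 + (-31) * x ^ 3 + (-5) * x ^ 4 + (-1) * x ^ 5) (t := 1 + 6665 * x ^ 7 + 7776 * x ^ 8 + 1296 * x ^ 9 + 216 * x ^ 10 + 6701 * x ^ 11 + 7782 * x ^ 12 + 7962 * x ^ 13 + 1327 * x ^ 14 + (-6444) * x ^ 15 + (-1074) * x ^ 16 + 6486 * x ^ 17 + 1081 * x ^ 18 + 180 * x ^ 19 + 30 * x ^ 20 + 5 * x ^ 21 + 6666 * x ^ 22 + 7776 * x ^ 23 + 1296 * x ^ 24 + 216 * x ^ 25 + 36 * x ^ 26 + 6 * x ^ 27 + 1 * x ^ 28) (a := 1 + (-1) * x ^ 1 + 1 * x ^ 2 + (-1) * x ^ 3 + 1 * x ^ 4 + (-1) * x ^ 5 + 1 * x ^ 6) (by rw [hk]; ring) 1 _ (h'.trans (dvd_of_eq ?_))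
    ring
  replace h' : k ∣ (5 : ℤ) ^ 1 * ((-6 : ℤ) * (2 : ℤ) ^ 8 * (14 : ℤ) ^ 8 * (10 : ℤ) ^ 4 * (6 : ℤ) ^ 4 * (8 : ℤ) ^ 2 * (2 : ℤ) ^ 4 * (55987 : ℤ) ^ 1 * (6 : ℤ) ^ 2 * (51319 : ℤ) ^ 1 * (4 : ℤ) ^ 2 * (6 : ℤ) ^ 2 * (39991 : ℤ) ^ 1 * (1 + (-1) * x ^ 3 + 1 * x ^ 6) ^ 1 * (1 + (-1) * x ^ 2 + 1 * x ^ 4 + (-1) * x ^ 6 + 1 * x ^ 8) ^ 1 * (1 + (-1) * x ^ 4 + 1 * x ^ 8) ^ 1 * (1 + 1 * x ^ 1 + (-1) * x ^ 3 + (-1) * x ^ 4 + (-1) * x ^ 5 + 1 * x ^ 7 + 1 * x ^ 8) ^ 1) := by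
    refine peel (s := (-1)) (t := (-1) + 1 * x ^ 3 + 1 * x ^ 5 + 1 * x ^ 7 + 1 * x ^ 9 + 1 * x ^ 11 + 1 * x ^ 13 + (-1) * x ^ 16 + 1 * x ^ 19 + 1 * x ^ 20 + 1 * x ^ 21) (a := 1 + (-1) * x ^ 1 + 1 * x ^ 3 + (-1) * x ^ 4 + 1 * x ^ 5 + (-1) * x ^ 7 + 1 * x ^ 8) (by rw [hk]; ring) 1 _ (h'.trans (dvd_of_eq ?_))
    ring
  replace h' : k ∣ (50419 : ℤ) ^ 1 * ((-6 : ℤ) * (2 : ℤ) ^ 8 * (14 : ℤ) ^ 8 * (10 : ℤ) ^ 4 * (6 : ℤ) ^ 4 * (8 : ℤ) ^ 2 * (2 : ℤ) ^ 4 * (55987 : ℤ) ^ 1 * (6 : ℤ) ^ 2 * (51319 : ℤ) ^ 1 * (4 : ℤ) ^ 2 * (6 : ℤ) ^ 2 * (39991 : ℤ) ^ 1 * (5 : ℤ) ^ 1 * (1 + (-1) * x ^ 2 + 1 * x ^ 4 + (-1) * x ^ 6 + 1 * x ^ 8) ^ 1 * (1 + (-1) * x ^ 4 + 1 * x ^ 8) ^ 1 * (1 + 1 * x ^ 1 + (-1) * x ^ 3 + (-1) * x ^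 4 + (-1) * x ^ 5 + 1 * x ^ 7 + 1 * x ^ 8) ^ 1) := by
    refine peel (s := (-8406) + (-1416) * x ^ 1 + 1165 * x ^ 2 + 433 * x ^ 3 + (-107) * x ^ 4 + (-90) * x ^ 5) (t := (-17) + (-90) * x ^ 1 + 8406 * x ^ 2 + 1416 * x ^ 3 + (-1165) * x ^ 4 + 7973 * x ^ 5 + 1523 * x ^ 6 + 7331 * x ^ 7 + 983 * x ^ 8 + (-1058) * x ^ 9 + 8063 * x ^ 10 + 1523 * x ^ 11 + (-1075) * x ^ 12 + 7973 * x ^ 13 + 1523 * x ^ 14 + (-1075) * x ^ 15 + (-433) * x ^ 16 + 8513 * x ^ 17 + 1506 * x ^ 18 + (-1165) * x ^ 19 + 7973 * x ^ 20 + 1523 * x ^ 21 + (-1075) * x ^ 22 + 7973 * x ^ 23 + 1523 * x ^ 24 + (-1075) * x ^ 25 + (-433) * x ^ 26 + 107 * x ^ 27 + 90 * x ^ 28) (a := 1 + (-1) * x ^ 3 + 1 * x ^ 6) (by rw [hk]; ring) 1 _ (h'.trans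 (dvd_of_eq ?_))
    ring
  replace h' : k ∣ (6 : ℤ) ^ 1 * ((-6 : ℤ) * (2 : ℤ) ^ 8 * (14 : ℤ) ^ 8 * (10 : ℤ) ^ 4 * (6 : ℤ) ^ 4 * (8 : ℤ) ^ 2 * (2 : ℤ) ^ 4 * (55987 : ℤ) ^ 1 * (6 : ℤ) ^ 2 * (51319 : ℤ) ^ 1 * (4 : ℤ) ^ 2 * (6 : ℤ) ^ 2 * (39991 : ℤ) ^ 1 * (5 : ℤ) ^ 1 * (50419 : ℤ) ^ 1 * (1 + (-1) * x ^ 4 + 1 * x ^ 8) ^ 1 * (1 + 1 * x ^ 1 + (-1) * x ^ 3 + (-1) * x ^ 4 + (-1) * x ^ 5 + 1 * x ^ 7 + 1 * x ^ 8) ^ 1) := by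
    refine peel (s := (-1)) (t := 1 * x ^ 1 + 1 * x ^ 3 + 1 * x ^ 7 + 1 * x ^ 9 + 1 * x ^ 13 + 1 * x ^ 15 + 1 * x ^ 19 + 1 * x ^ 21) (a := 1 + (-1) * x ^ 2 + 1 * x ^ 4 + (-1) * x ^ 6 + 1 * x ^ 8) (by rw [hk]; ring) 1 _ (h'.trans (dvd_of_eq ?_))
    ring
  replace h' : k ∣ (6 : ℤ) ^ 1 * ((-6 : ℤ) * (2 : ℤ) ^ 8 * (14 : ℤ) ^ 8 * (10 : ℤ) ^ 4 * (6 : ℤ) ^ 4 * (8 : ℤ) ^ 2 * (2 : ℤ) ^ 4 * (55987 : ℤ) ^ 1 * (6 : ℤ) ^ 2 * (51319 : ℤ) ^ 1 * (4 : ℤ) ^ 2 * (6 : ℤ) ^ 2 * (39991 : ℤ) ^ 1 * (5 : ℤ) ^ 1 * (50419 : ℤ) ^ 1 * (6 : ℤ) ^ 1 * (1 + 1 * x ^ 1 + (-1) * x ^ 3 + (-1) * x ^ 4 + (-1) * x ^ 5 + 1 * x ^ 7 + 1 * x ^ 8) ^ 1) := by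
    refine peel (s := (-1)) (t := 1 * x ^ 1 + 1 * x ^ 5 + 1 * x ^ 7 + 2 * x ^ 11 + 1 * x ^ 15 + 1 * x ^ 17 + 1 * x ^ 21) (a := 1 + (-1) * x ^ 4 + 1 * x ^ 8) (by rw [hk]; ring) 1 _ (h'.trans (dvd_of_eq ?_))
    ring
  replace h' : k ∣ (7 : ℤ) ^ 1 * ((-6 : ℤ) * (2 : ℤ) ^ 8 * (14 : ℤ) ^ 8 * (10 : ℤ) ^ 4 * (6 : ℤ) ^ 4 * (8 : ℤ) ^ 2 * (2 : ℤ) ^ 4 * (55987 : ℤ) ^ 1 * (6 : ℤ) ^ 2 * (51319 : ℤ) ^ 1 * (4 : ℤ) ^ 2 * (6 : ℤ) ^ 2 * (39991 : ℤ) ^ 1 * (5 : ℤ) ^ 1 * (50419 : ℤ) ^ 1 * (6 : ℤ) ^ 1 * (6 : ℤ) ^ 1) := by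
    refine peel (s := (-1)) (t := 1 + 1 * x ^ 3 + 1 * x ^ 5 + 1 * x ^ 7 + 1 * x ^ 9 + 1 * x ^ 11 + 1 * x ^ 13 + 1 * x ^ 16 + 1 * x ^ 19 + (-1) * x ^ 20 + 1 * x ^ 21) (a := 1 + 1 * x ^ 1 + (-1) * x ^ 3 + (-1) * x ^ 4 + (-1) * x ^ 5 + 1 * x ^ 7 + 1 * x ^ 8) (by rw [hk]; ring) 1 _ (h'.trans (dvd_of_eq ?_))
    ring
  have hpos : (0 : ℤ) < k ∧ (4553421590637141963192527145382798598917324800000 : ℤ) < k := by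
    obtain ⟨w, hw⟩ : ∃ w : ℕ, q = w + 250 := ⟨q - 250, by omega⟩
    have e1 : 1 * k = x ^ 29 + (14210854718840040732175126672029495239318847656250000244 + 1307398634075074689462781727324485778810302734375000001 * (w : ℤ) ^ 1 + 57525539897091347724199313640804290771504882812500000 * (w : ℤ) ^ 2 + 1610715117065471336245537076952590942382949218750000 * (w : ℤ) ^ 3 + 32214302340406959950923922405263061523438046875000 * (w : ℤ) ^ 4 + 489657395562634240865707417099111816406251312500 * (w : ℤ) ^ 5 + 5875888746636095613479614362549279296875001750 * (w : ℤ) ^ 6 + 57080062109255094001770019950196601562500001 * (w : ℤ) ^ 7 + 456640496868033978691101075475588515625000 * (w : ℤ) ^ 8 + 3044269979088190449676513674667972187500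 * (w : ℤ) ^ 9 + 17047911882752907986328125004468752750 * (w : ℤ) ^ 10 + 80590128899773898285156250004875001 * (w : ℤ) ^ 11 + 322360515597557867371093750003250 * (w : ℤ) ^ 12 + 1091066360480256845234375000001 * (w : ℤ) ^ 13 + 3117332458507449229375000000 * (w : ℤ) ^ 14 + 7481597900405765633500000 * (w : ℤ) ^ 15 + 14963195800796390629250 * (w : ℤ) ^ 16 + 24645263671885687501 * (w : ℤ) ^ 17 + 32860351562504750 * (w : ℤ) ^ 18 + 34589843750001 * (w : ℤ) ^ 19 + 27671875000 * (w : ℤ) ^ 20 + 15812500 * (w : ℤ) ^ 21 + 5750 * (w : ℤ) ^ 22 + 1 * (w : ℤ) ^ 23) := by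
      rw [hk, hx, hw]; push_cast; ring
    have e2 : (250 : ℤ) ^ 29 ≤ x ^ 29 := pow_le_pow_left₀ (by norm_num) (by rw [hx]; exact_mod_cast hq0) _
    have e3 : (0 : ℤ) ≤ 14210854718840040732175126672029495239318847656250000244 + 1307398634075074689462781727324485778810302734375000001 * (w : ℤ) ^ 1 + 57525539897091347724199313640804290771504882812500000 * (w : ℤ) ^ 2 + 1610715117065471336245537076952590942382949218750000 * (w : ℤ) ^ 3 + 32214302340406959950923922405263061523438046875000 * (w : ℤ) ^ 4 + 489657395562634240865707417099111816406251312500 * (w : ℤ) ^ 5 + 5875888746636095613479614362549279296875001750 * (w : ℤ) ^ 6 + 57080062109255094001770019950196601562500001 * (w : ℤ) ^ 7 + 456640496868033978691101075475588515625000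 * (w : ℤ) ^ 8 + 3044269979088190449676513674667972187500 * (w : ℤ) ^ 9 + 17047911882752907986328125004468752750 * (w : ℤ) ^ 10 + 80590128899773898285156250004875001 * (w : ℤ) ^ 11 + 322360515597557867371093750003250 * (w : ℤ) ^ 12 + 1091066360480256845234375000001 * (w : ℤ) ^ 13 + 3117332458507449229375000000 * (w : ℤ) ^ 14 + 7481597900405765633500000 * (w : ℤ) ^ 15 + 14963195800796390629250 * (w : ℤ) ^ 16 + 24645263671885687501 * (w : ℤ) ^ 17 + 32860351562504750 * (w : ℤ) ^ 18 + 34589843750001 * (w : ℤ) ^ 19 + 27671875000 * (w : ℤ) ^ 20 + 15812500 * (w : ℤ) ^ 21 + 5750 * (w : ℤ) ^ 22 + 1 * (w : ℤ) ^ 23 := by positivity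
    norm_num at e2
    constructor <;> linarith
  have := Int.le_of_dvd (by norm_num) (dvd_abs _ _ |>.2 h')
  norm_num at this
  linarith [hpos.1, hpos.2]

theorem not_dvd_7 {q : ℕ} (hq : IsPrimePow q) (hq0 : 250 ≤ q) : ¬ (bnd q - 7) ∣ ord' q := by
  intro h
  have hle : 7 ≤ bnd q := by
    have h1 : 1 ≤ (q ^ 12 + 1) * (q ^ 10 + 1) * (q ^ 6 + 1) := Nat.one_le_iff_ne_zero.2 (by positivity)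
    calc 7 ≤ q * 1 := by omega
      _ ≤ _ := by rw [bnd, mul_assoc, mul_assoc, ← mul_assoc (q ^ 12 + 1)]; exact Nat.mul_le_mul_left _ h1
  have h' : ((bnd q - 7 : ℕ) : ℤ) ∣ (ord' q : ℤ) := Int.natCast_dvd_natCast.2 h
  rw [Nat.cast_sub hle, ord'_cast (by omega)] at h'
  simp only [bnd, Nat.cast_mul, Nat.cast_add, Nat.cast_pow, Nat.cast_one, Nat.cast_ofNat] at h'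
  set x : ℤ := (q : ℤ) with hx
  set k : ℤ := (-7) + 1 * x ^ 1 + 1 * x ^ 7 + 1 * x ^ 11 + 1 * x ^ 13 + 1 * x ^ 17 + 1 * x ^ 19 + 1 * x ^ 23 + 1 * x ^ 29 with hk
  replace h' : k ∣ x ^ 120 * (((-1) + 1 * x ^ 1) ^ 8 * (1 + 1 * x ^ 1) ^ 8 * (1 + 1 * x ^ 1 + 1 * x ^ 2) ^ 4 * (1 + 1 * x ^ 2) ^ 4 * (1 + 1 * x ^ 1 + 1 * x ^ 2 + 1 * x ^ 3 + 1 * x ^ 4) ^ 2 * (1 + (-1) * x ^ 1 + 1 * x ^ 2) ^ 4 * (1 + 1 * x ^ 1 + 1 * x ^ 2 + 1 * x ^ 3 + 1 * x ^ 4 + 1 * x ^ 5 + 1 * x ^ 6) ^ 1 * (1 + 1 * x ^ 4) ^ 2 * (1 + 1 * x ^ 3 + 1 * x ^ 6) ^ 1 * (1 + (-1) * x ^ 1 + 1 * x ^ 2 + (-1) * x ^ 3 + 1 * x ^ 4) ^ 2 * (1 + (-1) * x ^ 2 + 1 * x ^ 4) ^ 2 * (1 + (-1) * x ^ 1 + 1 * x ^ 2 + (-1) * x ^ 3 + 1 * x ^ 4 + (-1) * x ^ 5 + 1 *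 x ^ 6) ^ 1 * (1 + (-1) * x ^ 1 + 1 * x ^ 3 + (-1) * x ^ 4 + 1 * x ^ 5 + (-1) * x ^ 7 + 1 * x ^ 8) ^ 1 * (1 + (-1) * x ^ 3 + 1 * x ^ 6) ^ 1 * (1 + (-1) * x ^ 2 + 1 * x ^ 4 + (-1) * x ^ 6 + 1 * x ^ 8) ^ 1 * (1 + (-1) * x ^ 4 + 1 * x ^ 8) ^ 1 * (1 + 1 * x ^ 1 + (-1) * x ^ 3 + (-1) * x ^ 4 + (-1) * x ^ 5 + 1 * x ^ 7 + 1 * x ^ 8) ^ 1) := by
    refine dvd_trans ⟨1, ?_⟩ h'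
    rw [hk]; ring
  replace h' := peel_prime_pow hq (r := 1 + 1 * x ^ 6 + 1 * x ^ 10 + 1 * x ^ 12 + 1 * x ^ 16 + 1 * x ^ 18 + 1 * x ^ 22 + 1 * x ^ 28) (c := -7) (by rw [hk]; ring) (by norm_num) (by norm_num; omega) h'
  simp only [← mul_assoc] at h'
  replace h' : k ∣ (1 : ℤ) ^ 8 * ((-7 : ℤ) * (1 + 1 * x ^ 1) ^ 8 * (1 + 1 * x ^ 1 + 1 * x ^ 2) ^ 4 * (1 + 1 * x ^ 2) ^ 4 * (1 + 1 * x ^ 1 + 1 * x ^ 2 + 1 * x ^ 3 + 1 * x ^ 4) ^ 2 * (1 + (-1) * x ^ 1 + 1 * x ^ 2) ^ 4 * (1 + 1 * x ^ 1 + 1 * x ^ 2 + 1 * x ^ 3 + 1 * x ^ 4 + 1 * x ^ 5 + 1 * x ^ 6) ^ 1 * (1 + 1 * x ^ 4) ^ 2 * (1 + 1 * x ^ 3 + 1 * x ^ 6) ^ 1 * (1 + (-1) * x ^ 1 + 1 * x ^ 2 + (-1) * x ^ 3 + 1 * x ^ 4) ^ 2 * (1 + (-1) * x ^ 2 + 1 * x ^ 4) ^ 2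 * (1 + (-1) * x ^ 1 + 1 * x ^ 2 + (-1) * x ^ 3 + 1 * x ^ 4 + (-1) * x ^ 5 + 1 * x ^ 6) ^ 1 * (1 + (-1) * x ^ 1 + 1 * x ^ 3 + (-1) * x ^ 4 + 1 * x ^ 5 + (-1) * x ^ 7 + 1 * x ^ 8) ^ 1 * (1 + (-1) * x ^ 3 + 1 * x ^ 6) ^ 1 * (1 + (-1) * x ^ 2 + 1 * x ^ 4 + (-1) * x ^ 6 + 1 * x ^ 8) ^ 1 * (1 + (-1) * x ^ 4 + 1 * x ^ 8) ^ 1 * (1 + 1 * x ^ 1 + (-1) * x ^ 3 + (-1) * x ^ 4 + (-1) * x ^ 5 + 1 * x ^ 7 + 1 * x ^ 8) ^ 1) := by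
    refine peel (s := 1) (t := (-8) + (-7) * x ^ 1 + (-7) * x ^ 2 + (-7) * x ^ 3 + (-7) * x ^ 4 + (-7) * x ^ 5 + (-7) * x ^ 6 + (-6) * x ^ 7 + (-6) * x ^ 8 + (-6) * x ^ 9 + (-6) * x ^ 10 + (-5) * x ^ 11 + (-5) * x ^ 12 + (-4) * x ^ 13 + (-4) * x ^ 14 + (-4) * x ^ 15 + (-4) * x ^ 16 + (-3) * x ^ 17 + (-3) * x ^ 18 + (-2) * x ^ 19 + (-2) * x ^ 20 + (-2) * x ^ 21 + (-2) * x ^ 22 + (-1) * x ^ 23 + (-1) * x ^ 24 + (-1) * x ^ 25 + (-1) * x ^ 26 + (-1) * x ^ 27 + (-1) * x ^ 28) (a := (-1) + 1 * x ^ 1) (by rw [hk]; ring) 8 _ (h'.trans (dvd_of_eq ?_))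
    ring
  replace h' : k ∣ (15 : ℤ) ^ 8 * ((-7 : ℤ) * (1 : ℤ) ^ 8 * (1 + 1 * x ^ 1 + 1 * x ^ 2) ^ 4 * (1 + 1 * x ^ 2) ^ 4 * (1 + 1 * x ^ 1 + 1 * x ^ 2 + 1 * x ^ 3 + 1 * x ^ 4) ^ 2 * (1 + (-1) * x ^ 1 + 1 * x ^ 2) ^ 4 * (1 + 1 * x ^ 1 + 1 * x ^ 2 + 1 * x ^ 3 + 1 * x ^ 4 + 1 * x ^ 5 + 1 * x ^ 6) ^ 1 * (1 + 1 * x ^ 4) ^ 2 * (1 + 1 * x ^ 3 + 1 * x ^ 6) ^ 1 * (1 + (-1) * x ^ 1 + 1 * x ^ 2 + (-1) * x ^ 3 + 1 * x ^ 4) ^ 2 * (1 + (-1) * x ^ 2 + 1 * x ^ 4) ^ 2 * (1 + (-1) * x ^ 1 + 1 * x ^ 2 + (-1) * x ^ 3 + 1 * x ^ 4 + (-1) * x ^ 5 + 1 * x ^ 6) ^ 1 * (1 + (-1) * x ^ 1 + 1 * x ^ 3 + (-1) * x ^ 4 + 1 * x ^ 5 + (-1) * x ^ 7 + 1 * x ^ 8) ^ 1 * (1 + (-1) * x ^ 3 + 1 * x ^ 6) ^ 1 * (1 + (-1) * x ^ 2 + 1 * x ^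 4 + (-1) * x ^ 6 + 1 * x ^ 8) ^ 1 * (1 + (-1) * x ^ 4 + 1 * x ^ 8) ^ 1 * (1 + 1 * x ^ 1 + (-1) * x ^ 3 + (-1) * x ^ 4 + (-1) * x ^ 5 + 1 * x ^ 7 + 1 * x ^ 8) ^ 1) := by
    refine peel (s := (-1)) (t := 8 + (-7) * x ^ 1 + 7 * x ^ 2 + (-7) * x ^ 3 + 7 * x ^ 4 + (-7) * x ^ 5 + 7 * x ^ 6 + (-6) * x ^ 7 + 6 * x ^ 8 + (-6) * x ^ 9 + 6 * x ^ 10 + (-5) * x ^ 11 + 5 * x ^ 12 + (-4) * x ^ 13 + 4 * x ^ 14 + (-4) * x ^ 15 + 4 * x ^ 16 + (-3) * x ^ 17 + 3 * x ^ 18 + (-2) * x ^ 19 + 2 * x ^ 20 + (-2) * x ^ 21 + 2 * x ^ 22 + (-1) * x ^ 23 + 1 * x ^ 24 + (-1) * x ^ 25 + 1 * x ^ 26 + (-1) * x ^ 27 + 1 * x ^ 28) (a := 1 + 1 * x ^ 1) (by rw [hk]; ring) 8 _ (h'.trans (dvd_of_eq ?_))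
    ring
  replace h' : k ∣ (11 : ℤ) ^ 4 * ((-7 : ℤ) * (1 : ℤ) ^ 8 * (15 : ℤ) ^ 8 * (1 + 1 * x ^ 2) ^ 4 * (1 + 1 * x ^ 1 + 1 * x ^ 2 + 1 * x ^ 3 + 1 * x ^ 4) ^ 2 * (1 + (-1) * x ^ 1 + 1 * x ^ 2) ^ 4 * (1 + 1 * x ^ 1 + 1 * x ^ 2 + 1 * x ^ 3 + 1 * x ^ 4 + 1 * x ^ 5 + 1 * x ^ 6) ^ 1 * (1 + 1 * x ^ 4) ^ 2 * (1 + 1 * x ^ 3 + 1 * x ^ 6) ^ 1 * (1 + (-1) * x ^ 1 + 1 * x ^ 2 + (-1) * x ^ 3 + 1 * x ^ 4) ^ 2 * (1 + (-1) * x ^ 2 + 1 * x ^ 4) ^ 2 * (1 + (-1) * x ^ 1 + 1 * x ^ 2 + (-1) * x ^ 3 + 1 * x ^ 4 + (-1) * x ^ 5 + 1 * x ^ 6) ^ 1 * (1 + (-1) * x ^ 1 + 1 * x ^ 3 + (-1) * x ^ 4 + 1 * x ^ 5 + (-1) * x ^ 7 + 1 * x ^ 8) ^ 1 * (1 + (-1) * x ^ 3 + 1 * x ^ 6) ^ 1 * (1 + (-1) * x ^ 2 + 1 * x ^ 4 + (-1) * x ^ 6 +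 1 * x ^ 8) ^ 1 * (1 + (-1) * x ^ 4 + 1 * x ^ 8) ^ 1 * (1 + 1 * x ^ 1 + (-1) * x ^ 3 + (-1) * x ^ 4 + (-1) * x ^ 5 + 1 * x ^ 7 + 1 * x ^ 8) ^ 1) := by
    refine peel (s := (-1)) (t := 4 + (-3) * x ^ 1 + (-1) * x ^ 2 + 4 * x ^ 3 + (-3) * x ^ 4 + (-1) * x ^ 5 + 4 * x ^ 6 + (-2) * x ^ 7 + (-2) * x ^ 8 + 4 * x ^ 9 + (-2) * x ^ 10 + (-1) * x ^ 11 + 3 * x ^ 12 + (-1) * x ^ 13 + (-2) * x ^ 14 + 3 * x ^ 15 + (-1) * x ^ 16 + (-1) * x ^ 17 + 2 * x ^ 18 + (-2) * x ^ 20 + 2 * x ^ 21 + (-1) * x ^ 23 + 1 * x ^ 24 + (-1) * x ^ 26 + 1 * x ^ 27) (a := 1 + 1 * x ^ 1 + 1 * x ^ 2) (by rw [hk]; ring) 4 _ (h'.trans (dvd_of_eq ?_))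
    ring
  replace h' : k ∣ (7 : ℤ) ^ 4 * ((-7 : ℤ) * (1 : ℤ) ^ 8 * (15 : ℤ) ^ 8 * (11 : ℤ) ^ 4 * (1 + 1 * x ^ 1 + 1 * x ^ 2 + 1 * x ^ 3 + 1 * x ^ 4) ^ 2 * (1 + (-1) * x ^ 1 + 1 * x ^ 2) ^ 4 * (1 + 1 * x ^ 1 + 1 * x ^ 2 + 1 * x ^ 3 + 1 * x ^ 4 + 1 * x ^ 5 + 1 * x ^ 6) ^ 1 * (1 + 1 * x ^ 4) ^ 2 * (1 + 1 * x ^ 3 + 1 * x ^ 6) ^ 1 * (1 + (-1) * x ^ 1 + 1 * x ^ 2 + (-1) * x ^ 3 + 1 * x ^ 4) ^ 2 * (1 + (-1) * x ^ 2 + 1 * x ^ 4) ^ 2 * (1 + (-1) * x ^ 1 + 1 * x ^ 2 + (-1) * x ^ 3 + 1 * x ^ 4 + (-1) * x ^ 5 + 1 * x ^ 6) ^ 1 * (1 + (-1) * x ^ 1 + 1 * x ^ 3 + (-1) * x ^ 4 + 1 * x ^ 5 + (-1) * x ^ 7 + 1 * x ^ 8) ^ 1 * (1 + (-1) * x ^ 3 + 1 * x ^ 6) ^ 1 * (1 + (-1) * x ^ 2 + 1 * x ^ 4 + (-1) * x ^ 6 + 1 * x ^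 8) ^ 1 * (1 + (-1) * x ^ 4 + 1 * x ^ 8) ^ 1 * (1 + 1 * x ^ 1 + (-1) * x ^ 3 + (-1) * x ^ 4 + (-1) * x ^ 5 + 1 * x ^ 7 + 1 * x ^ 8) ^ 1) := by
    refine peel (s := (-1)) (t := 1 * x ^ 1 + (-1) * x ^ 3 + 1 * x ^ 5 + 1 * x ^ 11 + 1 * x ^ 17 + 1 * x ^ 23 + (-1) * x ^ 25 + 1 * x ^ 27) (a := 1 + 1 * x ^ 2) (by rw [hk]; ring) 4 _ (h'.trans (dvd_of_eq ?_))
    ring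
  replace h' : k ∣ (9 : ℤ) ^ 2 * ((-7 : ℤ) * (1 : ℤ) ^ 8 * (15 : ℤ) ^ 8 * (11 : ℤ) ^ 4 * (7 : ℤ) ^ 4 * (1 + (-1) * x ^ 1 + 1 * x ^ 2) ^ 4 * (1 + 1 * x ^ 1 + 1 * x ^ 2 + 1 * x ^ 3 + 1 * x ^ 4 + 1 * x ^ 5 + 1 * x ^ 6) ^ 1 * (1 + 1 * x ^ 4) ^ 2 * (1 + 1 * x ^ 3 + 1 * x ^ 6) ^ 1 * (1 + (-1) * x ^ 1 + 1 * x ^ 2 + (-1) * x ^ 3 + 1 * x ^ 4) ^ 2 * (1 + (-1) * x ^ 2 + 1 * x ^ 4) ^ 2 * (1 + (-1) * x ^ 1 + 1 * x ^ 2 + (-1) * x ^ 3 + 1 * x ^ 4 + (-1) * x ^ 5 + 1 * x ^ 6) ^ 1 * (1 + (-1) * x ^ 1 + 1 * x ^ 3 + (-1) * x ^ 4 + 1 * x ^ 5 + (-1) * x ^ 7 + 1 * x ^ 8) ^ 1 * (1 + (-1) * x ^ 3 + 1 * x ^ 6) ^ 1 * (1 + (-1) * x ^ 2 + 1 * x ^ 4 + (-1) * x ^ 6 + 1 * x ^ 8) ^ 1 * (1 + (-1) * x ^ 4 + 1 * x ^ 8) ^ 1 * (1 + 1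 * x ^ 1 + (-1) * x ^ 3 + (-1) * x ^ 4 + (-1) * x ^ 5 + 1 * x ^ 7 + 1 * x ^ 8) ^ 1) := by
    refine peel (s := (-1)) (t := 2 + (-1) * x ^ 1 + (-1) * x ^ 2 + 2 * x ^ 5 + (-1) * x ^ 6 + (-1) * x ^ 8 + 2 * x ^ 10 + (-1) * x ^ 12 + (-1) * x ^ 14 + 2 * x ^ 15 + (-1) * x ^ 18 + 1 * x ^ 20 + (-1) * x ^ 24 + 1 * x ^ 25) (a := 1 + 1 * x ^ 1 + 1 * x ^ 2 + 1 * x ^ 3 + 1 * x ^ 4) (by rw [hk]; ring) 2 _ (h'.trans (dvd_of_eq ?_))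
    ring
  replace h' : k ∣ (3 : ℤ) ^ 4 * ((-7 : ℤ) * (1 : ℤ) ^ 8 * (15 : ℤ) ^ 8 * (11 : ℤ) ^ 4 * (7 : ℤ) ^ 4 * (9 : ℤ) ^ 2 * (1 + 1 * x ^ 1 + 1 * x ^ 2 + 1 * x ^ 3 + 1 * x ^ 4 + 1 * x ^ 5 + 1 * x ^ 6) ^ 1 * (1 + 1 * x ^ 4) ^ 2 * (1 + 1 * x ^ 3 + 1 * x ^ 6) ^ 1 * (1 + (-1) * x ^ 1 + 1 * x ^ 2 + (-1) * x ^ 3 + 1 * x ^ 4) ^ 2 * (1 + (-1) * x ^ 2 + 1 * x ^ 4) ^ 2 * (1 + (-1) * x ^ 1 + 1 * x ^ 2 + (-1) * x ^ 3 + 1 * x ^ 4 + (-1) * x ^ 5 + 1 * x ^ 6) ^ 1 * (1 + (-1) * x ^ 1 + 1 * x ^ 3 + (-1) * x ^ 4 + 1 * x ^ 5 + (-1) * x ^ 7 + 1 * x ^ 8) ^ 1 * (1 + (-1) * x ^ 3 + 1 * x ^ 6) ^ 1 * (1 + (-1) * x ^ 2 + 1 * x ^ 4 + (-1) * x ^ 6 + 1 * x ^ 8) ^ 1 * (1 + (-1) * x ^ 4 + 1 * x ^ 8) ^ 1 * (1 + 1 * x ^ 1 + (-1)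 * x ^ 3 + (-1) * x ^ 4 + (-1) * x ^ 5 + 1 * x ^ 7 + 1 * x ^ 8) ^ 1) := by
    refine peel (s := (-1)) (t := (-4) + (-3) * x ^ 1 + 1 * x ^ 2 + 4 * x ^ 3 + 3 * x ^ 4 + (-1) * x ^ 5 + (-4) * x ^ 6 + (-2) * x ^ 7 + 2 * x ^ 8 + 4 * x ^ 9 + 2 * x ^ 10 + (-1) * x ^ 11 + (-3) * x ^ 12 + (-1) * x ^ 13 + 2 * x ^ 14 + 3 * x ^ 15 + 1 * x ^ 16 + (-1) * x ^ 17 + (-2) * x ^ 18 + 2 * x ^ 20 + 2 * x ^ 21 + (-1) * x ^ 23 + (-1) * x ^ 24 + 1 * x ^ 26 + 1 * x ^ 27) (a := 1 + (-1) * x ^ 1 + 1 * x ^ 2) (by rw [hk]; ring) 4 _ (h'.trans (dvd_of_eq ?_))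
    ring
  replace h' : k ∣ (137257 : ℤ) ^ 1 * ((-7 : ℤ) * (1 : ℤ) ^ 8 * (15 : ℤ) ^ 8 * (11 : ℤ) ^ 4 * (7 : ℤ) ^ 4 * (9 : ℤ) ^ 2 * (3 : ℤ) ^ 4 * (1 + 1 * x ^ 4) ^ 2 * (1 + 1 * x ^ 3 + 1 * x ^ 6) ^ 1 * (1 + (-1) * x ^ 1 + 1 * x ^ 2 + (-1) * x ^ 3 + 1 * x ^ 4) ^ 2 * (1 + (-1) * x ^ 2 + 1 * x ^ 4) ^ 2 * (1 + (-1) * x ^ 1 + 1 * x ^ 2 + (-1) * x ^ 3 + 1 * x ^ 4 + (-1) * x ^ 5 + 1 * x ^ 6) ^ 1 * (1 + (-1) * x ^ 1 + 1 * x ^ 3 + (-1) * x ^ 4 + 1 * x ^ 5 + (-1) * x ^ 7 + 1 * x ^ 8) ^ 1 * (1 + (-1) * x ^ 3 + 1 * x ^ 6) ^ 1 * (1 + (-1) * x ^ 2 + 1 * x ^ 4 + (-1) * x ^ 6 + 1 * x ^ 8) ^ 1 * (1 + (-1) * x ^ 4 + 1 * x ^ 8) ^ 1 * (1 + 1 * x ^ 1 + (-1) * x ^ 3 + (-1) * x ^ 4 + (-1) * x ^ 5 + 1 * x ^ 7 + 1 * x ^ 8)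 ^ 1) := by
    refine peel (s := (-19608) + (-2801) * x ^ 1 + (-400) * x ^ 2 + (-57) * x ^ 3 + (-8) * x ^ 4 + (-1) * x ^ 5) (t := 1 + 19608 * x ^ 7 + (-16807) * x ^ 8 + (-2401) * x ^ 9 + (-343) * x ^ 10 + 19559 * x ^ 11 + (-16814) * x ^ 12 + 17206 * x ^ 13 + 2458 * x ^ 14 + (-19257) * x ^ 15 + (-2751) * x ^ 16 + 19215 * x ^ 17 + 2745 * x ^ 18 + 392 * x ^ 19 + 56 * x ^ 20 + 8 * x ^ 21 + (-19607) * x ^ 22 + 16807 * x ^ 23 + 2401 * x ^ 24 + 343 * x ^ 25 + 49 * x ^ 26 + 7 * x ^ 27 + 1 * x ^ 28) (a := 1 + 1 * x ^ 1 + 1 * x ^ 2 + 1 * x ^ 3 + 1 * x ^ 4 + 1 * x ^ 5 + 1 * x ^ 6) (by rw [hk]; ring) 1 _ (h'.trans (dvd_of_eq ?_))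
    ring
  replace h' : k ∣ (7 : ℤ) ^ 2 * ((-7 : ℤ) * (1 : ℤ) ^ 8 * (15 : ℤ) ^ 8 * (11 : ℤ) ^ 4 * (7 : ℤ) ^ 4 * (9 : ℤ) ^ 2 * (3 : ℤ) ^ 4 * (137257 : ℤ) ^ 1 * (1 + 1 * x ^ 3 + 1 * x ^ 6) ^ 1 * (1 + (-1) * x ^ 1 + 1 * x ^ 2 + (-1) * x ^ 3 + 1 * x ^ 4) ^ 2 * (1 + (-1) * x ^ 2 + 1 * x ^ 4) ^ 2 * (1 + (-1) * x ^ 1 + 1 * x ^ 2 + (-1) * x ^ 3 + 1 * x ^ 4 + (-1) * x ^ 5 + 1 * x ^ 6) ^ 1 * (1 + (-1) * x ^ 1 + 1 * x ^ 3 + (-1) * x ^ 4 + 1 * x ^ 5 + (-1) * x ^ 7 + 1 * x ^ 8) ^ 1 * (1 + (-1) * x ^ 3 + 1 * x ^ 6) ^ 1 * (1 + (-1) * x ^ 2 + 1 * x ^ 4 + (-1) * x ^ 6 + 1 * x ^ 8) ^ 1 * (1 + (-1) * x ^ 4 + 1 * x ^ 8) ^ 1 * (1 + 1 * x ^ 1 + (-1) * x ^ 3 + (-1) * x ^ 4 + (-1) * x ^ 5 + 1 * x ^ 7 + 1 * x ^ 8) ^ 1) :=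 by
    refine peel (s := (-1)) (t := 1 * x ^ 1 + (-1) * x ^ 5 + 1 * x ^ 7 + 1 * x ^ 9 + 1 * x ^ 17 + 1 * x ^ 19 + (-1) * x ^ 21 + 1 * x ^ 25) (a := 1 + 1 * x ^ 4) (by rw [hk]; ring) 2 _ (h'.trans (dvd_of_eq ?_))
    ring
  replace h' : k ∣ (126001 : ℤ) ^ 1 * ((-7 : ℤ) * (1 : ℤ) ^ 8 * (15 : ℤ) ^ 8 * (11 : ℤ) ^ 4 * (7 : ℤ) ^ 4 * (9 : ℤ) ^ 2 * (3 : ℤ) ^ 4 * (137257 : ℤ) ^ 1 * (7 : ℤ) ^ 2 * (1 + (-1) * x ^ 1 + 1 * x ^ 2 + (-1) * x ^ 3 + 1 * x ^ 4) ^ 2 * (1 + (-1) * x ^ 2 + 1 * x ^ 4) ^ 2 * (1 + (-1) * x ^ 1 + 1 * x ^ 2 + (-1) * x ^ 3 + 1 * x ^ 4 + (-1) * x ^ 5 + 1 * x ^ 6) ^ 1 * (1 + (-1) * x ^ 1 + 1 * x ^ 3 + (-1) * x ^ 4 + 1 * x ^ 5 + (-1) * x ^ 7 + 1 * x ^ 8) ^ 1 * (1 + (-1) * x ^ 3 + 1 * x ^ 6) ^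 1 * (1 + (-1) * x ^ 2 + 1 * x ^ 4 + (-1) * x ^ 6 + 1 * x ^ 8) ^ 1 * (1 + (-1) * x ^ 4 + 1 * x ^ 8) ^ 1 * (1 + 1 * x ^ 1 + (-1) * x ^ 3 + (-1) * x ^ 4 + (-1) * x ^ 5 + 1 * x ^ 7 + 1 * x ^ 8) ^ 1) := by
    refine peel (s := (-17906) + (-2534) * x ^ 1 + (-2920) * x ^ 2 + (-685) * x ^ 3 + (-491) * x ^ 4 + (-168) * x ^ 5) (t := 659 + 168 * x ^ 1 + (-17906) * x ^ 2 + (-2534) * x ^ 3 + (-2920) * x ^ 4 + 17221 * x ^ 5 + 2043 * x ^ 6 + 20658 * x ^ 7 + 3219 * x ^ 8 + 3411 * x ^ 9 + (-17053) * x ^ 10 + (-2043) * x ^ 11 + (-2752) * x ^ 12 + 17221 * x ^ 13 + 2043 * x ^ 14 + 2752 * x ^ 15 + 685 * x ^ 16 + 18397 * x ^ 17 + 2702 * x ^ 18 + 2920 * x ^ 19 + (-17221) * x ^ 20 + (-2043) * x ^ 21 + (-2752) * x ^ 22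 + 17221 * x ^ 23 + 2043 * x ^ 24 + 2752 * x ^ 25 + 685 * x ^ 26 + 491 * x ^ 27 + 168 * x ^ 28) (a := 1 + 1 * x ^ 3 + 1 * x ^ 6) (by rw [hk]; ring) 1 _ (h'.trans (dvd_of_eq ?_))
    ring
  replace h' : k ∣ (5 : ℤ) ^ 2 * ((-7 : ℤ) * (1 : ℤ) ^ 8 * (15 : ℤ) ^ 8 * (11 : ℤ) ^ 4 * (7 : ℤ) ^ 4 * (9 : ℤ) ^ 2 * (3 : ℤ) ^ 4 * (137257 : ℤ) ^ 1 * (7 : ℤ) ^ 2 * (126001 : ℤ) ^ 1 * (1 + (-1) * x ^ 2 + 1 * x ^ 4) ^ 2 * (1 + (-1) * x ^ 1 + 1 * x ^ 2 + (-1) * x ^ 3 + 1 * x ^ 4 + (-1) * x ^ 5 + 1 * x ^ 6) ^ 1 * (1 + (-1) * x ^ 1 + 1 * x ^ 3 + (-1) * x ^ 4 + 1 * x ^ 5 + (-1) * x ^ 7 + 1 * x ^ 8) ^ 1 * (1 + (-1) * x ^ 3 + 1 * x ^ 6) ^ 1 * (1 + (-1) * x ^ 2 + 1 * x ^ 4 + (-1) * x ^ 6 + 1 * x ^ 8) ^ 1 * (1 + (-1) * x ^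 4 + 1 * x ^ 8) ^ 1 * (1 + 1 * x ^ 1 + (-1) * x ^ 3 + (-1) * x ^ 4 + (-1) * x ^ 5 + 1 * x ^ 7 + 1 * x ^ 8) ^ 1) := by
    refine peel (s := (-1)) (t := (-2) + (-1) * x ^ 1 + 1 * x ^ 2 + 2 * x ^ 5 + 1 * x ^ 6 + 1 * x ^ 8 + (-2) * x ^ 10 + 1 * x ^ 12 + 1 * x ^ 14 + 2 * x ^ 15 + 1 * x ^ 18 + (-1) * x ^ 20 + 1 * x ^ 24 + 1 * x ^ 25) (a := 1 + (-1) * x ^ 1 + 1 * x ^ 2 + (-1) * x ^ 3 + 1 * x ^ 4) (by rw [hk]; ring) 2 _ (h'.trans (dvd_of_eq ?_))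
    ring
  replace h' : k ∣ (7 : ℤ) ^ 2 * ((-7 : ℤ) * (1 : ℤ) ^ 8 * (15 : ℤ) ^ 8 * (11 : ℤ) ^ 4 * (7 : ℤ) ^ 4 * (9 : ℤ) ^ 2 * (3 : ℤ) ^ 4 * (137257 : ℤ) ^ 1 * (7 : ℤ) ^ 2 * (126001 : ℤ) ^ 1 * (5 : ℤ) ^ 2 * (1 + (-1) * x ^ 1 + 1 * x ^ 2 + (-1) * x ^ 3 + 1 * x ^ 4 + (-1) * x ^ 5 + 1 * x ^ 6) ^ 1 * (1 + (-1) * x ^ 1 + 1 * x ^ 3 + (-1) * x ^ 4 + 1 * x ^ 5 + (-1) * x ^ 7 + 1 * x ^ 8) ^ 1 * (1 + (-1) * x ^ 3 + 1 * x ^ 6) ^ 1 * (1 + (-1) * x ^ 2 + 1 * x ^ 4 + (-1) * x ^ 6 + 1 * x ^ 8) ^ 1 * (1 + (-1) * x ^ 4 + 1 * x ^ 8) ^ 1 * (1 + 1 * x ^ 1 + (-1) * x ^ 3 + (-1) * x ^ 4 + (-1) * x ^ 5 + 1 * x ^ 7 + 1 * x ^ 8) ^ 1) := by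
    refine peel (s := (-1)) (t := 1 * x ^ 1 + 1 * x ^ 3 + 1 * x ^ 11 + 2 * x ^ 13 + 1 * x ^ 15 + 1 * x ^ 23 + 1 * x ^ 25) (a := 1 + (-1) * x ^ 2 + 1 * x ^ 4) (by rw [hk]; ring) 2 _ (h'.trans (dvd_of_eq ?_))
    ring
  replace h' : k ∣ (102943 : ℤ) ^ 1 * ((-7 : ℤ) * (1 : ℤ) ^ 8 * (15 : ℤ) ^ 8 * (11 : ℤ) ^ 4 * (7 : ℤ) ^ 4 * (9 : ℤ) ^ 2 * (3 : ℤ) ^ 4 * (137257 : ℤ) ^ 1 * (7 : ℤ) ^ 2 * (126001 : ℤ) ^ 1 * (5 : ℤ) ^ 2 * (7 : ℤ) ^ 2 * (1 + (-1) * x ^ 1 + 1 * x ^ 3 + (-1) * x ^ 4 + 1 * x ^ 5 + (-1) * x ^ 7 + 1 * x ^ 8) ^ 1 * (1 + (-1) * x ^ 3 + 1 * x ^ 6) ^ 1 * (1 + (-1) * x ^ 2 + 1 * x ^ 4 + (-1) * x ^ 6 + 1 * x ^ 8) ^ 1 * (1 + (-1) * x ^ 4 + 1 * x ^ 8) ^ 1 * (1 + 1 * x ^ 1 + (-1) * x ^ 3 + (-1) * x ^ 4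 + (-1) * x ^ 5 + 1 * x ^ 7 + 1 * x ^ 8) ^ 1) := by
    refine peel (s := (-14706) + (-2101) * x ^ 1 + (-300) * x ^ 2 + (-43) * x ^ 3 + (-6) * x ^ 4 + (-1) * x ^ 5) (t := 1 + 14706 * x ^ 7 + 16807 * x ^ 8 + 2401 * x ^ 9 + 343 * x ^ 10 + 14755 * x ^ 11 + 16814 * x ^ 12 + 17108 * x ^ 13 + 2444 * x ^ 14 + (-14357) * x ^ 15 + (-2051) * x ^ 16 + 14413 * x ^ 17 + 2059 * x ^ 18 + 294 * x ^ 19 + 42 * x ^ 20 + 6 * x ^ 21 + 14707 * x ^ 22 + 16807 * x ^ 23 + 2401 * x ^ 24 + 343 * x ^ 25 + 49 * x ^ 26 + 7 * x ^ 27 + 1 * x ^ 28) (a := 1 + (-1) * x ^ 1 + 1 * x ^ 2 + (-1) * x ^ 3 + 1 * x ^ 4 + (-1) * x ^ 5 + 1 * x ^ 6) (by rw [hk]; ring) 1 _ (h'.trans (dvd_of_eq ?_))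
    ring
  replace h' : k ∣ (6 : ℤ) ^ 1 * ((-7 : ℤ) * (1 : ℤ) ^ 8 * (15 : ℤ) ^ 8 * (11 : ℤ) ^ 4 * (7 : ℤ) ^ 4 * (9 : ℤ) ^ 2 * (3 : ℤ) ^ 4 * (137257 : ℤ) ^ 1 * (7 : ℤ) ^ 2 * (126001 : ℤ) ^ 1 * (5 : ℤ) ^ 2 * (7 : ℤ) ^ 2 * (102943 : ℤ) ^ 1 * (1 + (-1) * x ^ 3 + 1 * x ^ 6) ^ 1 * (1 + (-1) * x ^ 2 + 1 * x ^ 4 + (-1) * x ^ 6 + 1 * x ^ 8) ^ 1 * (1 + (-1) * x ^ 4 + 1 * x ^ 8) ^ 1 * (1 + 1 * x ^ 1 + (-1) * x ^ 3 + (-1) * x ^ 4 + (-1) * x ^ 5 + 1 * x ^ 7 + 1 * x ^ 8) ^ 1) := by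
    refine peel (s := (-1)) (t := (-1) + 1 * x ^ 3 + 1 * x ^ 5 + 1 * x ^ 7 + 1 * x ^ 9 + 1 * x ^ 11 + 1 * x ^ 13 + (-1) * x ^ 16 + 1 * x ^ 19 + 1 * x ^ 20 + 1 * x ^ 21) (a := 1 + (-1) * x ^ 1 + 1 * x ^ 3 + (-1) * x ^ 4 + 1 * x ^ 5 + (-1) * x ^ 7 + 1 * x ^ 8) (by rw [hk]; ring) 1 _ (h'.trans (dvd_of_eq ?_))
    ring
  replace h' : k ∣ (41529 : ℤ) ^ 1 * ((-7 : ℤ) * (1 : ℤ) ^ 8 * (15 : ℤ) ^ 8 * (11 : ℤ) ^ 4 * (7 : ℤ) ^ 4 * (9 : ℤ) ^ 2 * (3 : ℤ) ^ 4 * (137257 : ℤ) ^ 1 * (7 : ℤ) ^ 2 * (126001 : ℤ) ^ 1 * (5 : ℤ) ^ 2 * (7 : ℤ) ^ 2 * (102943 : ℤ) ^ 1 * (6 : ℤ) ^ 1 * (1 + (-1) * x ^ 2 + 1 * x ^ 4 + (-1) * x ^ 6 + 1 * x ^ 8) ^ 1 * (1 + (-1) * x ^ 4 + 1 * x ^ 8) ^ 1 * (1 + 1 * x ^ 1 + (-1) * x ^ 3 + (-1) *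 x ^ 4 + (-1) * x ^ 5 + 1 * x ^ 7 + 1 * x ^ 8) ^ 1) := by
    refine peel (s := (-5936) + (-854) * x ^ 1 + 726 * x ^ 2 + 229 * x ^ 3 + (-65) * x ^ 4 + (-42) * x ^ 5) (t := (-23) + (-42) * x ^ 1 + 5936 * x ^ 2 + 854 * x ^ 3 + (-726) * x ^ 4 + 5707 * x ^ 5 + 919 * x ^ 6 + 5252 * x ^ 7 + 625 * x ^ 8 + (-661) * x ^ 9 + 5749 * x ^ 10 + 919 * x ^ 11 + (-684) * x ^ 12 + 5707 * x ^ 13 + 919 * x ^ 14 + (-684) * x ^ 15 + (-229) * x ^ 16 + 6001 * x ^ 17 + 896 * x ^ 18 + (-726) * x ^ 19 + 5707 * x ^ 20 + 919 * x ^ 21 + (-684) * x ^ 22 + 5707 * x ^ 23 + 919 * x ^ 24 + (-684) * x ^ 25 + (-229) * x ^ 26 + 65 * x ^ 27 + 42 * x ^ 28) (a := 1 + (-1) * x ^ 3 + 1 * x ^ 6) (by rw [hk]; ring) 1 _ (h'.trans (dvd_of_eq ?_))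
    ring
  replace h' : k ∣ (7 : ℤ) ^ 1 * ((-7 : ℤ) * (1 : ℤ) ^ 8 * (15 : ℤ) ^ 8 * (11 : ℤ) ^ 4 * (7 : ℤ) ^ 4 * (9 : ℤ) ^ 2 * (3 : ℤ) ^ 4 * (137257 : ℤ) ^ 1 * (7 : ℤ) ^ 2 * (126001 : ℤ) ^ 1 * (5 : ℤ) ^ 2 * (7 : ℤ) ^ 2 * (102943 : ℤ) ^ 1 * (6 : ℤ) ^ 1 * (41529 : ℤ) ^ 1 * (1 + (-1) * x ^ 4 + 1 * x ^ 8) ^ 1 * (1 + 1 * x ^ 1 + (-1) * x ^ 3 + (-1) * x ^ 4 + (-1) * x ^ 5 + 1 * x ^ 7 + 1 * x ^ 8) ^ 1) := by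
    refine peel (s := (-1)) (t := 1 * x ^ 1 + 1 * x ^ 3 + 1 * x ^ 7 + 1 * x ^ 9 + 1 * x ^ 13 + 1 * x ^ 15 + 1 * x ^ 19 + 1 * x ^ 21) (a := 1 + (-1) * x ^ 2 + 1 * x ^ 4 + (-1) * x ^ 6 + 1 * x ^ 8) (by rw [hk]; ring) 1 _ (h'.trans (dvd_of_eq ?_))
    ring
  replace h' : k ∣ (7 : ℤ) ^ 1 * ((-7 : ℤ) * (1 : ℤ) ^ 8 * (15 : ℤ) ^ 8 * (11 : ℤ) ^ 4 * (7 : ℤ) ^ 4 * (9 : ℤ) ^ 2 * (3 : ℤ) ^ 4 * (137257 : ℤ) ^ 1 * (7 : ℤ) ^ 2 * (126001 : ℤ) ^ 1 * (5 : ℤ) ^ 2 * (7 : ℤ) ^ 2 * (102943 : ℤ) ^ 1 * (6 : ℤ) ^ 1 * (41529 : ℤ) ^ 1 * (7 : ℤ) ^ 1 * (1 + 1 * x ^ 1 + (-1) * x ^ 3 + (-1) * x ^ 4 + (-1) * x ^ 5 + 1 * x ^ 7 + 1 * x ^ 8) ^ 1) := by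
    refine peel (s := (-1)) (t := 1 * x ^ 1 + 1 * x ^ 5 + 1 * x ^ 7 + 2 * x ^ 11 + 1 * x ^ 15 + 1 * x ^ 17 + 1 * x ^ 21) (a := 1 + (-1) * x ^ 4 + 1 * x ^ 8) (by rw [hk]; ring) 1 _ (h'.trans (dvd_of_eq ?_))
    ring
  replace h' : k ∣ (8 : ℤ) ^ 1 * ((-7 : ℤ) * (1 : ℤ) ^ 8 * (15 : ℤ) ^ 8 * (11 : ℤ) ^ 4 * (7 : ℤ) ^ 4 * (9 : ℤ) ^ 2 * (3 : ℤ) ^ 4 * (137257 : ℤ) ^ 1 * (7 : ℤ) ^ 2 * (126001 : ℤ) ^ 1 * (5 : ℤ) ^ 2 * (7 : ℤ) ^ 2 * (102943 : ℤ) ^ 1 * (6 : ℤ) ^ 1 * (41529 : ℤ) ^ 1 * (7 : ℤ) ^ 1 * (7 : ℤ) ^ 1) := by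
    refine peel (s := (-1)) (t := 1 + 1 * x ^ 3 + 1 * x ^ 5 + 1 * x ^ 7 + 1 * x ^ 9 + 1 * x ^ 11 + 1 * x ^ 13 + 1 * x ^ 16 + 1 * x ^ 19 + (-1) * x ^ 20 + 1 * x ^ 21) (a := 1 + 1 * x ^ 1 + (-1) * x ^ 3 + (-1) * x ^ 4 + (-1) * x ^ 5 + 1 * x ^ 7 + 1 * x ^ 8) (by rw [hk]; ring) 1 _ (h'.trans (dvd_of_eq ?_))
    ring
  have hpos : (0 : ℤ) < k ∧ (43190409861426870132100671911890695905164218750000 : ℤ) < k := by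
    obtain ⟨w, hw⟩ : ∃ w : ℕ, q = w + 250 := ⟨q - 250, by omega⟩
    have e1 : 1 * k = x ^ 29 + (14210854718840040732175126672029495239318847656250000243 + 1307398634075074689462781727324485778810302734375000001 * (w : ℤ) ^ 1 + 57525539897091347724199313640804290771504882812500000 * (w : ℤ) ^ 2 + 1610715117065471336245537076952590942382949218750000 * (w : ℤ) ^ 3 + 32214302340406959950923922405263061523438046875000 * (w : ℤ) ^ 4 + 489657395562634240865707417099111816406251312500 * (w : ℤ) ^ 5 + 5875888746636095613479614362549279296875001750 * (w : ℤ) ^ 6 + 57080062109255094001770019950196601562500001 * (w : ℤ) ^ 7 + 456640496868033978691101075475588515625000 * (w : ℤ) ^ 8 + 3044269979088190449676513674667972187500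 * (w : ℤ) ^ 9 + 17047911882752907986328125004468752750 * (w : ℤ) ^ 10 + 80590128899773898285156250004875001 * (w : ℤ) ^ 11 + 322360515597557867371093750003250 * (w : ℤ) ^ 12 + 1091066360480256845234375000001 * (w : ℤ) ^ 13 + 3117332458507449229375000000 * (w : ℤ) ^ 14 + 7481597900405765633500000 * (w : ℤ) ^ 15 + 14963195800796390629250 * (w : ℤ) ^ 16 + 24645263671885687501 * (w : ℤ) ^ 17 + 32860351562504750 * (w : ℤ) ^ 18 + 34589843750001 * (w : ℤ) ^ 19 + 27671875000 * (w : ℤ) ^ 20 + 15812500 * (w : ℤ) ^ 21 + 5750 * (w : ℤ) ^ 22 + 1 * (w : ℤ) ^ 23) := by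
      rw [hk, hx, hw]; push_cast; ring
    have e2 : (250 : ℤ) ^ 29 ≤ x ^ 29 := pow_le_pow_left₀ (by norm_num) (by rw [hx]; exact_mod_cast hq0) _
    have e3 : (0 : ℤ) ≤ 14210854718840040732175126672029495239318847656250000243 + 1307398634075074689462781727324485778810302734375000001 * (w : ℤ) ^ 1 + 57525539897091347724199313640804290771504882812500000 * (w : ℤ) ^ 2 + 1610715117065471336245537076952590942382949218750000 * (w : ℤ) ^ 3 + 32214302340406959950923922405263061523438046875000 * (w : ℤ) ^ 4 + 489657395562634240865707417099111816406251312500 * (w : ℤ) ^ 5 + 5875888746636095613479614362549279296875001750 * (w : ℤ) ^ 6 + 57080062109255094001770019950196601562500001 * (w : ℤ) ^ 7 + 456640496868033978691101075475588515625000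 * (w : ℤ) ^ 8 + 3044269979088190449676513674667972187500 * (w : ℤ) ^ 9 + 17047911882752907986328125004468752750 * (w : ℤ) ^ 10 + 80590128899773898285156250004875001 * (w : ℤ) ^ 11 + 322360515597557867371093750003250 * (w : ℤ) ^ 12 + 1091066360480256845234375000001 * (w : ℤ) ^ 13 + 3117332458507449229375000000 * (w : ℤ) ^ 14 + 7481597900405765633500000 * (w : ℤ) ^ 15 + 14963195800796390629250 * (w : ℤ) ^ 16 + 24645263671885687501 * (w : ℤ) ^ 17 + 32860351562504750 * (w : ℤ) ^ 18 + 34589843750001 * (w : ℤ) ^ 19 + 27671875000 * (w : ℤ) ^ 20 + 15812500 * (w : ℤ) ^ 21 + 5750 * (w : ℤ) ^ 22 + 1 * (w : ℤ) ^ 23 := by positivity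
    norm_num at e2
    constructor <;> linarith
  have := Int.le_of_dvd (by norm_num) (dvd_abs _ _ |>.2 h')
  norm_num at this
  linarith [hpos.1, hpos.2]

theorem not_dvd_8 {q : ℕ} (hq : IsPrimePow q) (hq0 : 250 ≤ q) : ¬ (bnd q - 8) ∣ ord' q := by
  intro h
  have hle : 8 ≤ bnd q := by
    have h1 : 1 ≤ (q ^ 12 + 1) * (q ^ 10 + 1) * (q ^ 6 + 1) := Nat.one_le_iff_ne_zero.2 (by positivity)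
    calc 8 ≤ q * 1 := by omega
      _ ≤ _ := by rw [bnd, mul_assoc, mul_assoc, ← mul_assoc (q ^ 12 + 1)]; exact Nat.mul_le_mul_left _ h1
  have h' : ((bnd q - 8 : ℕ) : ℤ) ∣ (ord' q : ℤ) := Int.natCast_dvd_natCast.2 h
  rw [Nat.cast_sub hle, ord'_cast (by omega)] at h'
  simp only [bnd, Nat.cast_mul, Nat.cast_add, Nat.cast_pow, Nat.cast_one, Nat.cast_ofNat] at h'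
  set x : ℤ := (q : ℤ) with hx
  set k : ℤ := 8 + 7 * x ^ 1 + 7 * x ^ 2 + 7 * x ^ 3 + 7 * x ^ 4 + 7 * x ^ 5 + 7 * x ^ 6 + 6 * x ^ 7 + 6 * x ^ 8 + 6 * x ^ 9 + 6 * x ^ 10 + 5 * x ^ 11 + 5 * x ^ 12 + 4 * x ^ 13 + 4 * x ^ 14 + 4 * x ^ 15 + 4 * x ^ 16 + 3 * x ^ 17 + 3 * x ^ 18 + 2 * x ^ 19 + 2 * x ^ 20 + 2 * x ^ 21 + 2 * x ^ 22 + 1 * x ^ 23 + 1 * x ^ 24 + 1 * x ^ 25 + 1 * x ^ 26 + 1 * x ^ 27 + 1 * x ^ 28 with hk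
  replace h' : k ∣ x ^ 120 * (((-1) + 1 * x ^ 1) ^ 8 * (1 + 1 * x ^ 1) ^ 8 * (1 + 1 * x ^ 1 + 1 * x ^ 2) ^ 4 * (1 + 1 * x ^ 2) ^ 4 * (1 + 1 * x ^ 1 + 1 * x ^ 2 + 1 * x ^ 3 + 1 * x ^ 4) ^ 2 * (1 + (-1) * x ^ 1 + 1 * x ^ 2) ^ 4 * (1 + 1 * x ^ 1 + 1 * x ^ 2 + 1 * x ^ 3 + 1 * x ^ 4 + 1 * x ^ 5 + 1 * x ^ 6) ^ 1 * (1 + 1 * x ^ 4) ^ 2 * (1 + 1 * x ^ 3 + 1 * x ^ 6) ^ 1 * (1 + (-1) * x ^ 1 + 1 * x ^ 2 + (-1) * x ^ 3 + 1 * x ^ 4) ^ 2 * (1 + (-1) * x ^ 2 + 1 * x ^ 4) ^ 2 * (1 + (-1) * x ^ 1 + 1 * x ^ 2 + (-1) * x ^ 3 + 1 * x ^ 4 + (-1) * x ^ 5 + 1 * x ^ 6) ^ 1 * (1 + (-1) * x ^ 1 + 1 * x ^ 3 + (-1) * x ^ 4 + 1 * x ^ 5 + (-1) * x ^ 7 + 1 * x ^ 8) ^ 1 * (1 + (-1) * x ^ 3 + 1 * x ^ 6) ^ 1 * (1 + (-1) * x ^ 2 +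 1 * x ^ 4 + (-1) * x ^ 6 + 1 * x ^ 8) ^ 1 * (1 + (-1) * x ^ 4 + 1 * x ^ 8) ^ 1 * (1 + 1 * x ^ 1 + (-1) * x ^ 3 + (-1) * x ^ 4 + (-1) * x ^ 5 + 1 * x ^ 7 + 1 * x ^ 8) ^ 1) := by
    refine dvd_trans ⟨(-1) + 1 * x ^ 1, ?_⟩ h'
    rw [hk]; ring
  replace h' := peel_prime_pow hq (r := 7 + 7 * x ^ 1 + 7 * x ^ 2 + 7 * x ^ 3 + 7 * x ^ 4 + 7 * x ^ 5 + 6 * x ^ 6 + 6 * x ^ 7 + 6 * x ^ 8 + 6 * x ^ 9 + 5 * x ^ 10 + 5 * x ^ 11 + 4 * x ^ 12 + 4 * x ^ 13 + 4 * x ^ 14 + 4 * x ^ 15 + 3 * x ^ 16 + 3 * x ^ 17 + 2 * x ^ 18 + 2 * x ^ 19 + 2 * x ^ 20 + 2 * x ^ 21 + 1 * x ^ 22 + 1 * x ^ 23 + 1 * x ^ 24 + 1 * x ^ 25 + 1 * x ^ 26 + 1 * x ^ 27) (c := 8) (by rw [hk]; ring) (by norm_num) (by norm_num; omega) h'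
  simp only [← mul_assoc] at h'
  replace h' : k ∣ (120 : ℤ) ^ 8 * ((8 : ℤ) * (1 + 1 * x ^ 1) ^ 8 * (1 + 1 * x ^ 1 + 1 * x ^ 2) ^ 4 * (1 + 1 * x ^ 2) ^ 4 * (1 + 1 * x ^ 1 + 1 * x ^ 2 + 1 * x ^ 3 + 1 * x ^ 4) ^ 2 * (1 + (-1) * x ^ 1 + 1 * x ^ 2) ^ 4 * (1 + 1 * x ^ 1 + 1 * x ^ 2 + 1 * x ^ 3 + 1 * x ^ 4 + 1 * x ^ 5 + 1 * x ^ 6) ^ 1 * (1 + 1 * x ^ 4) ^ 2 * (1 + 1 * x ^ 3 + 1 * x ^ 6) ^ 1 * (1 + (-1) * x ^ 1 + 1 * x ^ 2 + (-1) * x ^ 3 + 1 * x ^ 4) ^ 2 * (1 + (-1) * x ^ 2 + 1 * x ^ 4) ^ 2 * (1 + (-1) * x ^ 1 + 1 * x ^ 2 + (-1) * x ^ 3 + 1 * x ^ 4 + (-1) * x ^ 5 + 1 * x ^ 6) ^ 1 * (1 + (-1) * x ^ 1 + 1 * x ^ 3 + (-1) * x ^ 4 + 1 * x ^ 5 + (-1) * x ^ 7 + 1 * x ^ 8) ^ 1 * (1 + (-1) * x ^ 3 + 1 * x ^ 6) ^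 1 * (1 + (-1) * x ^ 2 + 1 * x ^ 4 + (-1) * x ^ 6 + 1 * x ^ 8) ^ 1 * (1 + (-1) * x ^ 4 + 1 * x ^ 8) ^ 1 * (1 + 1 * x ^ 1 + (-1) * x ^ 3 + (-1) * x ^ 4 + (-1) * x ^ 5 + 1 * x ^ 7 + 1 * x ^ 8) ^ 1) := by
    refine peel (s := 1) (t := (-112) + (-105) * x ^ 1 + (-98) * x ^ 2 + (-91) * x ^ 3 + (-84) * x ^ 4 + (-77) * x ^ 5 + (-70) * x ^ 6 + (-64) * x ^ 7 + (-58) * x ^ 8 + (-52) * x ^ 9 + (-46) * x ^ 10 + (-41) * x ^ 11 + (-36) * x ^ 12 + (-32) * x ^ 13 + (-28) * x ^ 14 + (-24) * x ^ 15 + (-20) * x ^ 16 + (-17) * x ^ 17 + (-14) * x ^ 18 + (-12) * x ^ 19 + (-10) * x ^ 20 + (-8) * x ^ 21 + (-6) * x ^ 22 + (-5) * x ^ 23 + (-4) * x ^ 24 + (-3) * x ^ 25 + (-2) * x ^ 26 + (-1) * x ^ 27) (a := (-1) + 1 * x ^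 1) (by rw [hk]; ring) 8 _ (h'.trans (dvd_of_eq ?_))
    ring
  replace h' : k ∣ (8 : ℤ) ^ 8 * ((8 : ℤ) * (120 : ℤ) ^ 8 * (1 + 1 * x ^ 1 + 1 * x ^ 2) ^ 4 * (1 + 1 * x ^ 2) ^ 4 * (1 + 1 * x ^ 1 + 1 * x ^ 2 + 1 * x ^ 3 + 1 * x ^ 4) ^ 2 * (1 + (-1) * x ^ 1 + 1 * x ^ 2) ^ 4 * (1 + 1 * x ^ 1 + 1 * x ^ 2 + 1 * x ^ 3 + 1 * x ^ 4 + 1 * x ^ 5 + 1 * x ^ 6) ^ 1 * (1 + 1 * x ^ 4) ^ 2 * (1 + 1 * x ^ 3 + 1 * x ^ 6) ^ 1 * (1 + (-1) * x ^ 1 + 1 * x ^ 2 + (-1) * x ^ 3 + 1 * x ^ 4) ^ 2 * (1 + (-1) * x ^ 2 + 1 * x ^ 4) ^ 2 * (1 + (-1) * x ^ 1 + 1 * x ^ 2 + (-1) * x ^ 3 + 1 * x ^ 4 + (-1) * x ^ 5 + 1 * x ^ 6) ^ 1 * (1 + (-1) * x ^ 1 + 1 * x ^ 3 + (-1) * x ^ 4 + 1 * x ^ 5 + (-1) * x ^ 7 + 1 * x ^ 8) ^ 1 * (1 + (-1) *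 x ^ 3 + 1 * x ^ 6) ^ 1 * (1 + (-1) * x ^ 2 + 1 * x ^ 4 + (-1) * x ^ 6 + 1 * x ^ 8) ^ 1 * (1 + (-1) * x ^ 4 + 1 * x ^ 8) ^ 1 * (1 + 1 * x ^ 1 + (-1) * x ^ 3 + (-1) * x ^ 4 + (-1) * x ^ 5 + 1 * x ^ 7 + 1 * x ^ 8) ^ 1) := by
    refine peel (s := 1) (t := (-7) * x ^ 1 + (-7) * x ^ 3 + (-7) * x ^ 5 + (-6) * x ^ 7 + (-6) * x ^ 9 + (-5) * x ^ 11 + (-4) * x ^ 13 + (-4) * x ^ 15 + (-3) * x ^ 17 + (-2) * x ^ 19 + (-2) * x ^ 21 + (-1) * x ^ 23 + (-1) * x ^ 25 + (-1) * x ^ 27) (a := 1 + 1 * x ^ 1) (by rw [hk]; ring) 8 _ (h'.trans (dvd_of_eq ?_))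
    ring
  replace h' : k ∣ (12 : ℤ) ^ 4 * ((8 : ℤ) * (120 : ℤ) ^ 8 * (8 : ℤ) ^ 8 * (1 + 1 * x ^ 2) ^ 4 * (1 + 1 * x ^ 1 + 1 * x ^ 2 + 1 * x ^ 3 + 1 * x ^ 4) ^ 2 * (1 + (-1) * x ^ 1 + 1 * x ^ 2) ^ 4 * (1 + 1 * x ^ 1 + 1 * x ^ 2 + 1 * x ^ 3 + 1 * x ^ 4 + 1 * x ^ 5 + 1 * x ^ 6) ^ 1 * (1 + 1 * x ^ 4) ^ 2 * (1 + 1 * x ^ 3 + 1 * x ^ 6) ^ 1 * (1 + (-1) * x ^ 1 + 1 * x ^ 2 + (-1) * x ^ 3 + 1 * x ^ 4) ^ 2 * (1 + (-1) * x ^ 2 + 1 * x ^ 4) ^ 2 * (1 + (-1) * x ^ 1 + 1 * x ^ 2 + (-1) * x ^ 3 + 1 * x ^ 4 + (-1) * x ^ 5 + 1 * x ^ 6) ^ 1 * (1 + (-1) * x ^ 1 + 1 * x ^ 3 + (-1) * x ^ 4 + 1 * x ^ 5 + (-1) * x ^ 7 + 1 * x ^ 8) ^ 1 * (1 + (-1) * x ^ 3 + 1 * x ^ 6) ^ 1 * (1 + (-1) * x ^ 2 + 1 * x ^ 4 + (-1) * x ^ 6 +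 1 * x ^ 8) ^ 1 * (1 + (-1) * x ^ 4 + 1 * x ^ 8) ^ 1 * (1 + 1 * x ^ 1 + (-1) * x ^ 3 + (-1) * x ^ 4 + (-1) * x ^ 5 + 1 * x ^ 7 + 1 * x ^ 8) ^ 1) := by
    refine peel (s := 1 + (-1) * x ^ 1) (t := 4 + (-3) * x ^ 1 + (-1) * x ^ 2 + 4 * x ^ 3 + (-3) * x ^ 4 + (-1) * x ^ 5 + 4 * x ^ 6 + (-2) * x ^ 7 + (-2) * x ^ 8 + 4 * x ^ 9 + (-2) * x ^ 10 + (-1) * x ^ 11 + 3 * x ^ 12 + (-1) * x ^ 13 + (-2) * x ^ 14 + 3 * x ^ 15 + (-1) * x ^ 16 + (-1) * x ^ 17 + 2 * x ^ 18 + (-2) * x ^ 20 + 2 * x ^ 21 + (-1) * x ^ 23 + 1 * x ^ 24 + (-1) * x ^ 26 + 1 * x ^ 27) (a := 1 + 1 * x ^ 1 + 1 * x ^ 2) (by rw [hk]; ring) 4 _ (h'.trans (dvd_of_eq ?_))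
    ring
  replace h' : k ∣ (8 : ℤ) ^ 4 * ((8 : ℤ) * (120 : ℤ) ^ 8 * (8 : ℤ) ^ 8 * (12 : ℤ) ^ 4 * (1 + 1 * x ^ 1 + 1 * x ^ 2 + 1 * x ^ 3 + 1 * x ^ 4) ^ 2 * (1 + (-1) * x ^ 1 + 1 * x ^ 2) ^ 4 * (1 + 1 * x ^ 1 + 1 * x ^ 2 + 1 * x ^ 3 + 1 * x ^ 4 + 1 * x ^ 5 + 1 * x ^ 6) ^ 1 * (1 + 1 * x ^ 4) ^ 2 * (1 + 1 * x ^ 3 + 1 * x ^ 6) ^ 1 * (1 + (-1) * x ^ 1 + 1 * x ^ 2 + (-1) * x ^ 3 + 1 * x ^ 4) ^ 2 * (1 + (-1) * x ^ 2 + 1 * x ^ 4) ^ 2 * (1 + (-1) * x ^ 1 + 1 * x ^ 2 + (-1) * x ^ 3 + 1 * x ^ 4 + (-1) * x ^ 5 + 1 * x ^ 6) ^ 1 * (1 + (-1) * x ^ 1 + 1 * x ^ 3 + (-1) * x ^ 4 + 1 * x ^ 5 + (-1) * x ^ 7 + 1 * x ^ 8) ^ 1 * (1 + (-1) * x ^ 3 + 1 * x ^ 6) ^ 1 * (1 + (-1) * x ^ 2 + 1 * x ^ 4 + (-1) * x ^ 6 + 1 * x ^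 8) ^ 1 * (1 + (-1) * x ^ 4 + 1 * x ^ 8) ^ 1 * (1 + 1 * x ^ 1 + (-1) * x ^ 3 + (-1) * x ^ 4 + (-1) * x ^ 5 + 1 * x ^ 7 + 1 * x ^ 8) ^ 1) := by
    refine peel (s := 1 + (-1) * x ^ 1) (t := 1 * x ^ 1 + (-1) * x ^ 3 + 1 * x ^ 5 + 1 * x ^ 11 + 1 * x ^ 17 + 1 * x ^ 23 + (-1) * x ^ 25 + 1 * x ^ 27) (a := 1 + 1 * x ^ 2) (by rw [hk]; ring) 4 _ (h'.trans (dvd_of_eq ?_))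
    ring
  replace h' : k ∣ (10 : ℤ) ^ 2 * ((8 : ℤ) * (120 : ℤ) ^ 8 * (8 : ℤ) ^ 8 * (12 : ℤ) ^ 4 * (8 : ℤ) ^ 4 * (1 + (-1) * x ^ 1 + 1 * x ^ 2) ^ 4 * (1 + 1 * x ^ 1 + 1 * x ^ 2 + 1 * x ^ 3 + 1 * x ^ 4 + 1 * x ^ 5 + 1 * x ^ 6) ^ 1 * (1 + 1 * x ^ 4) ^ 2 * (1 + 1 * x ^ 3 + 1 * x ^ 6) ^ 1 * (1 + (-1) * x ^ 1 + 1 * x ^ 2 + (-1) * x ^ 3 + 1 * x ^ 4) ^ 2 * (1 + (-1) * x ^ 2 + 1 * x ^ 4) ^ 2 * (1 + (-1) * x ^ 1 + 1 * x ^ 2 + (-1) * x ^ 3 + 1 * x ^ 4 + (-1) * x ^ 5 + 1 * x ^ 6) ^ 1 * (1 + (-1) * x ^ 1 + 1 * x ^ 3 + (-1) * x ^ 4 + 1 * x ^ 5 + (-1) * x ^ 7 + 1 * x ^ 8) ^ 1 * (1 + (-1) * x ^ 3 + 1 * x ^ 6) ^ 1 * (1 + (-1) * x ^ 2 + 1 * x ^ 4 + (-1) * x ^ 6 + 1 * x ^ 8) ^ 1 * (1 + (-1) * x ^ 4 + 1 * x ^ 8) ^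 1 * (1 + 1 * x ^ 1 + (-1) * x ^ 3 + (-1) * x ^ 4 + (-1) * x ^ 5 + 1 * x ^ 7 + 1 * x ^ 8) ^ 1) := by
    refine peel (s := 1 + (-1) * x ^ 1) (t := 2 + (-1) * x ^ 1 + (-1) * x ^ 2 + 2 * x ^ 5 + (-1) * x ^ 6 + (-1) * x ^ 8 + 2 * x ^ 10 + (-1) * x ^ 12 + (-1) * x ^ 14 + 2 * x ^ 15 + (-1) * x ^ 18 + 1 * x ^ 20 + (-1) * x ^ 24 + 1 * x ^ 25) (a := 1 + 1 * x ^ 1 + 1 * x ^ 2 + 1 * x ^ 3 + 1 * x ^ 4) (by rw [hk]; ring) 2 _ (h'.trans (dvd_of_eq ?_))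
    ring
  replace h' : k ∣ (4 : ℤ) ^ 4 * ((8 : ℤ) * (120 : ℤ) ^ 8 * (8 : ℤ) ^ 8 * (12 : ℤ) ^ 4 * (8 : ℤ) ^ 4 * (10 : ℤ) ^ 2 * (1 + 1 * x ^ 1 + 1 * x ^ 2 + 1 * x ^ 3 + 1 * x ^ 4 + 1 * x ^ 5 + 1 * x ^ 6) ^ 1 * (1 + 1 * x ^ 4) ^ 2 * (1 + 1 * x ^ 3 + 1 * x ^ 6) ^ 1 * (1 + (-1) * x ^ 1 + 1 * x ^ 2 + (-1) * x ^ 3 + 1 * x ^ 4) ^ 2 * (1 + (-1) * x ^ 2 + 1 * x ^ 4) ^ 2 * (1 + (-1) * x ^ 1 + 1 * x ^ 2 + (-1) * x ^ 3 + 1 * x ^ 4 + (-1) * x ^ 5 + 1 * x ^ 6) ^ 1 * (1 + (-1) * x ^ 1 + 1 * x ^ 3 + (-1) * x ^ 4 + 1 * x ^ 5 + (-1) * x ^ 7 + 1 * x ^ 8) ^ 1 * (1 + (-1) * x ^ 3 + 1 * x ^ 6) ^ 1 * (1 + (-1) * x ^ 2 + 1 * x ^ 4 + (-1) * x ^ 6 + 1 * x ^ 8) ^ 1 * (1 + (-1) * x ^ 4 + 1 * x ^ 8) ^ 1 * (1 + 1 * x ^ 1 + (-1)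 * x ^ 3 + (-1) * x ^ 4 + (-1) * x ^ 5 + 1 * x ^ 7 + 1 * x ^ 8) ^ 1) := by
    refine peel (s := 1 + (-1) * x ^ 1) (t := (-4) + (-3) * x ^ 1 + 1 * x ^ 2 + 4 * x ^ 3 + 3 * x ^ 4 + (-1) * x ^ 5 + (-4) * x ^ 6 + (-2) * x ^ 7 + 2 * x ^ 8 + 4 * x ^ 9 + 2 * x ^ 10 + (-1) * x ^ 11 + (-3) * x ^ 12 + (-1) * x ^ 13 + 2 * x ^ 14 + 3 * x ^ 15 + 1 * x ^ 16 + (-1) * x ^ 17 + (-2) * x ^ 18 + 2 * x ^ 20 + 2 * x ^ 21 + (-1) * x ^ 23 + (-1) * x ^ 24 + 1 * x ^ 26 + 1 * x ^ 27) (a := 1 + (-1) * x ^ 1 + 1 * x ^ 2) (by rw [hk]; ring) 4 _ (h'.trans (dvd_of_eq ?_))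
    ring
  replace h' : k ∣ (42799 : ℤ) ^ 1 * ((8 : ℤ) * (120 : ℤ) ^ 8 * (8 : ℤ) ^ 8 * (12 : ℤ) ^ 4 * (8 : ℤ) ^ 4 * (10 : ℤ) ^ 2 * (4 : ℤ) ^ 4 * (1 + 1 * x ^ 4) ^ 2 * (1 + 1 * x ^ 3 + 1 * x ^ 6) ^ 1 * (1 + (-1) * x ^ 1 + 1 * x ^ 2 + (-1) * x ^ 3 + 1 * x ^ 4) ^ 2 * (1 + (-1) * x ^ 2 + 1 * x ^ 4) ^ 2 * (1 + (-1) * x ^ 1 + 1 * x ^ 2 + (-1) * x ^ 3 + 1 * x ^ 4 + (-1) * x ^ 5 + 1 * x ^ 6) ^ 1 * (1 + (-1) * x ^ 1 + 1 * x ^ 3 + (-1) * x ^ 4 + 1 * x ^ 5 + (-1) * x ^ 7 + 1 * x ^ 8) ^ 1 * (1 + (-1) * x ^ 3 + 1 * x ^ 6) ^ 1 * (1 + (-1) * x ^ 2 + 1 * x ^ 4 + (-1) * x ^ 6 + 1 * x ^ 8) ^ 1 * (1 + (-1) * x ^ 4 + 1 * x ^ 8) ^ 1 * (1 + 1 * x ^ 1 + (-1) * x ^ 3 + (-1) * x ^ 4 + (-1) * x ^ 5 + 1 * x ^ 7 + 1 * x ^ 8)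 ^ 1) := by
    refine peel (s := 5350 + (-4681) * x ^ 1 + (-585) * x ^ 2 + (-73) * x ^ 3 + (-9) * x ^ 4 + (-1) * x ^ 5) (t := (-1) + (-1) * x ^ 1 + (-1) * x ^ 2 + (-1) * x ^ 3 + (-1) * x ^ 4 + (-1) * x ^ 5 + (-1) * x ^ 6 + 5349 * x ^ 7 + (-4682) * x ^ 8 + (-586) * x ^ 9 + (-74) * x ^ 10 + 5340 * x ^ 11 + (-4683) * x ^ 12 + 4764 * x ^ 13 + 595 * x ^ 14 + (-5276) * x ^ 15 + (-660) * x ^ 16 + 5267 * x ^ 17 + 658 * x ^ 18 + 82 * x ^ 19 + 10 * x ^ 20 + 1 * x ^ 21 + (-5350) * x ^ 22 + 4681 * x ^ 23 + 585 * x ^ 24 + 73 * x ^ 25 + 9 * x ^ 26 + 1 * x ^ 27) (a := 1 + 1 * x ^ 1 + 1 * x ^ 2 + 1 * x ^ 3 + 1 * x ^ 4 + 1 * x ^ 5 + 1 * x ^ 6) (by rw [hk]; ring) 1 _ (h'.trans (dvd_of_eq ?_))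
    ring
  replace h' : k ∣ (8 : ℤ) ^ 2 * ((8 : ℤ) * (120 : ℤ) ^ 8 * (8 : ℤ) ^ 8 * (12 : ℤ) ^ 4 * (8 : ℤ) ^ 4 * (10 : ℤ) ^ 2 * (4 : ℤ) ^ 4 * (42799 : ℤ) ^ 1 * (1 + 1 * x ^ 3 + 1 * x ^ 6) ^ 1 * (1 + (-1) * x ^ 1 + 1 * x ^ 2 + (-1) * x ^ 3 + 1 * x ^ 4) ^ 2 * (1 + (-1) * x ^ 2 + 1 * x ^ 4) ^ 2 * (1 + (-1) * x ^ 1 + 1 * x ^ 2 + (-1) * x ^ 3 + 1 * x ^ 4 + (-1) * x ^ 5 + 1 * x ^ 6) ^ 1 * (1 + (-1) * x ^ 1 + 1 * x ^ 3 + (-1) * x ^ 4 + 1 * x ^ 5 + (-1) * x ^ 7 + 1 * x ^ 8) ^ 1 * (1 + (-1) * x ^ 3 + 1 * x ^ 6) ^ 1 * (1 + (-1) * x ^ 2 + 1 * x ^ 4 + (-1) * x ^ 6 + 1 * x ^ 8) ^ 1 * (1 + (-1) * x ^ 4 + 1 * x ^ 8) ^ 1 * (1 + 1 * x ^ 1 + (-1) * x ^ 3 + (-1) * x ^ 4 + (-1) * x ^ 5 + 1 * x ^ 7 + 1 * x ^ 8) ^ 1) :=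 by
    refine peel (s := 1 + (-1) * x ^ 1) (t := 1 * x ^ 1 + (-1) * x ^ 5 + 1 * x ^ 7 + 1 * x ^ 9 + 1 * x ^ 17 + 1 * x ^ 19 + (-1) * x ^ 21 + 1 * x ^ 25) (a := 1 + 1 * x ^ 4) (by rw [hk]; ring) 2 _ (h'.trans (dvd_of_eq ?_))
    ring
  replace h' : k ∣ (92019 : ℤ) ^ 1 * ((8 : ℤ) * (120 : ℤ) ^ 8 * (8 : ℤ) ^ 8 * (12 : ℤ) ^ 4 * (8 : ℤ) ^ 4 * (10 : ℤ) ^ 2 * (4 : ℤ) ^ 4 * (42799 : ℤ) ^ 1 * (8 : ℤ) ^ 2 * (1 + (-1) * x ^ 1 + 1 * x ^ 2 + (-1) * x ^ 3 + 1 * x ^ 4) ^ 2 * (1 + (-1) * x ^ 2 + 1 * x ^ 4) ^ 2 * (1 + (-1) * x ^ 1 + 1 * x ^ 2 + (-1) * x ^ 3 + 1 * x ^ 4 + (-1) * x ^ 5 + 1 * x ^ 6) ^ 1 * (1 + (-1) * x ^ 1 + 1 * x ^ 3 + (-1) * x ^ 4 + 1 * x ^ 5 + (-1) * x ^ 7 + 1 * x ^ 8) ^ 1 * (1 + (-1) * x ^ 3 + 1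 * x ^ 6) ^ 1 * (1 + (-1) * x ^ 2 + 1 * x ^ 4 + (-1) * x ^ 6 + 1 * x ^ 8) ^ 1 * (1 + (-1) * x ^ 4 + 1 * x ^ 8) ^ 1 * (1 + 1 * x ^ 1 + (-1) * x ^ 3 + (-1) * x ^ 4 + (-1) * x ^ 5 + 1 * x ^ 7 + 1 * x ^ 8) ^ 1) := by
    refine peel (s := 11536 + (-10040) * x ^ 1 + 187 * x ^ 2 + (-1198) * x ^ 3 + (-106) * x ^ 4 + (-163) * x ^ 5) (t := (-269) + (-432) * x ^ 1 + (-11968) * x ^ 2 + (-1928) * x ^ 3 + (-2115) * x ^ 4 + 10619 * x ^ 5 + 685 * x ^ 6 + 12571 * x ^ 7 + 1333 * x ^ 8 + 1414 * x ^ 9 + (-11483) * x ^ 10 + (-1549) * x ^ 11 + (-1899) * x ^ 12 + 10835 * x ^ 13 + 901 * x ^ 14 + 1251 * x ^ 15 + 53 * x ^ 16 + 11483 * x ^ 17 + 1280 * x ^ 18 + 1467 * x ^ 19 + (-11267) * x ^ 20 + (-1333) * x ^ 21 + (-1683)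 * x ^ 22 + 11051 * x ^ 23 + 1117 * x ^ 24 + 1467 * x ^ 25 + 269 * x ^ 26 + 163 * x ^ 27) (a := 1 + 1 * x ^ 3 + 1 * x ^ 6) (by rw [hk]; ring) 1 _ (h'.trans (dvd_of_eq ?_))
    ring
  replace h' : k ∣ (6 : ℤ) ^ 2 * ((8 : ℤ) * (120 : ℤ) ^ 8 * (8 : ℤ) ^ 8 * (12 : ℤ) ^ 4 * (8 : ℤ) ^ 4 * (10 : ℤ) ^ 2 * (4 : ℤ) ^ 4 * (42799 : ℤ) ^ 1 * (8 : ℤ) ^ 2 * (92019 : ℤ) ^ 1 * (1 + (-1) * x ^ 2 + 1 * x ^ 4) ^ 2 * (1 + (-1) * x ^ 1 + 1 * x ^ 2 + (-1) * x ^ 3 + 1 * x ^ 4 + (-1) * x ^ 5 + 1 * x ^ 6) ^ 1 * (1 + (-1) * x ^ 1 + 1 * x ^ 3 + (-1) * x ^ 4 + 1 * x ^ 5 + (-1) * x ^ 7 + 1 * x ^ 8) ^ 1 * (1 + (-1) * x ^ 3 + 1 * x ^ 6) ^ 1 * (1 + (-1) * x ^ 2 + 1 * x ^ 4 + (-1) * x ^ 6 + 1 * x ^ 8) ^ 1 * (1 + (-1) * x ^ 4 + 1 *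 x ^ 8) ^ 1 * (1 + 1 * x ^ 1 + (-1) * x ^ 3 + (-1) * x ^ 4 + (-1) * x ^ 5 + 1 * x ^ 7 + 1 * x ^ 8) ^ 1) := by
    refine peel (s := 1 + (-1) * x ^ 1) (t := (-2) + (-1) * x ^ 1 + 1 * x ^ 2 + 2 * x ^ 5 + 1 * x ^ 6 + 1 * x ^ 8 + (-2) * x ^ 10 + 1 * x ^ 12 + 1 * x ^ 14 + 2 * x ^ 15 + 1 * x ^ 18 + (-1) * x ^ 20 + 1 * x ^ 24 + 1 * x ^ 25) (a := 1 + (-1) * x ^ 1 + 1 * x ^ 2 + (-1) * x ^ 3 + 1 * x ^ 4) (by rw [hk]; ring) 2 _ (h'.trans (dvd_of_eq ?_))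
    ring
  replace h' : k ∣ (8 : ℤ) ^ 2 * ((8 : ℤ) * (120 : ℤ) ^ 8 * (8 : ℤ) ^ 8 * (12 : ℤ) ^ 4 * (8 : ℤ) ^ 4 * (10 : ℤ) ^ 2 * (4 : ℤ) ^ 4 * (42799 : ℤ) ^ 1 * (8 : ℤ) ^ 2 * (92019 : ℤ) ^ 1 * (6 : ℤ) ^ 2 * (1 + (-1) * x ^ 1 + 1 * x ^ 2 + (-1) * x ^ 3 + 1 * x ^ 4 + (-1) * x ^ 5 + 1 * x ^ 6) ^ 1 * (1 + (-1) * x ^ 1 + 1 * x ^ 3 + (-1) * x ^ 4 + 1 * x ^ 5 + (-1) * x ^ 7 + 1 * x ^ 8) ^ 1 * (1 + (-1) * x ^ 3 + 1 * x ^ 6) ^ 1 * (1 + (-1) * x ^ 2 + 1 * x ^ 4 + (-1) * x ^ 6 + 1 * x ^ 8) ^ 1 * (1 + (-1) * x ^ 4 + 1 * x ^ 8) ^ 1 * (1 + 1 * x ^ 1 + (-1) * x ^ 3 + (-1) * x ^ 4 + (-1) * x ^ 5 + 1 * x ^ 7 + 1 * x ^ 8) ^ 1) := by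
    refine peel (s := 1 + (-1) * x ^ 1) (t := 1 * x ^ 1 + 1 * x ^ 3 + 1 * x ^ 11 + 2 * x ^ 13 + 1 * x ^ 15 + 1 * x ^ 23 + 1 * x ^ 25) (a := 1 + (-1) * x ^ 2 + 1 * x ^ 4) (by rw [hk]; ring) 2 _ (h'.trans (dvd_of_eq ?_))
    ring
  replace h' : k ∣ (233017 : ℤ) ^ 1 * ((8 : ℤ) * (120 : ℤ) ^ 8 * (8 : ℤ) ^ 8 * (12 : ℤ) ^ 4 * (8 : ℤ) ^ 4 * (10 : ℤ) ^ 2 * (4 : ℤ) ^ 4 * (42799 : ℤ) ^ 1 * (8 : ℤ) ^ 2 * (92019 : ℤ) ^ 1 * (6 : ℤ) ^ 2 * (8 : ℤ) ^ 2 * (1 + (-1) * x ^ 1 + 1 * x ^ 3 + (-1) * x ^ 4 + 1 * x ^ 5 + (-1) * x ^ 7 + 1 * x ^ 8) ^ 1 * (1 + (-1) * x ^ 3 + 1 * x ^ 6) ^ 1 * (1 + (-1) * x ^ 2 + 1 * x ^ 4 + (-1) * x ^ 6 + 1 * x ^ 8) ^ 1 * (1 + (-1) * x ^ 4 + 1 * x ^ 8) ^ 1 * (1 + 1 * x ^ 1 + (-1) * x ^ 3 + (-1)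 * x ^ 4 + (-1) * x ^ 5 + 1 * x ^ 7 + 1 * x ^ 8) ^ 1) := by
    refine peel (s := 29128 + (-25487) * x ^ 1 + (-3185) * x ^ 2 + (-399) * x ^ 3 + (-49) * x ^ 4 + (-7) * x ^ 5) (t := (-7) + (-7) * x ^ 1 + (-7) * x ^ 2 + (-7) * x ^ 3 + (-7) * x ^ 4 + (-7) * x ^ 5 + (-7) * x ^ 6 + 29121 * x ^ 7 + 32762 * x ^ 8 + 4090 * x ^ 9 + 506 * x ^ 10 + 29186 * x ^ 11 + 32771 * x ^ 12 + 33220 * x ^ 13 + 4149 * x ^ 14 + (-28612) * x ^ 15 + (-3580) * x ^ 16 + 28677 * x ^ 17 + 3582 * x ^ 18 + 446 * x ^ 19 + 54 * x ^ 20 + 5 * x ^ 21 + 29126 * x ^ 22 + 32767 * x ^ 23 + 4095 * x ^ 24 + 511 * x ^ 25 + 63 * x ^ 26 + 7 * x ^ 27) (a := 1 + (-1) * x ^ 1 + 1 * x ^ 2 + (-1) * x ^ 3 + 1 * x ^ 4 + (-1) * x ^ 5 + 1 * x ^ 6) (by rw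 [hk]; ring) 1 _ (h'.trans (dvd_of_eq ?_))
    ring
  replace h' : k ∣ (7 : ℤ) ^ 1 * ((8 : ℤ) * (120 : ℤ) ^ 8 * (8 : ℤ) ^ 8 * (12 : ℤ) ^ 4 * (8 : ℤ) ^ 4 * (10 : ℤ) ^ 2 * (4 : ℤ) ^ 4 * (42799 : ℤ) ^ 1 * (8 : ℤ) ^ 2 * (92019 : ℤ) ^ 1 * (6 : ℤ) ^ 2 * (8 : ℤ) ^ 2 * (233017 : ℤ) ^ 1 * (1 + (-1) * x ^ 3 + 1 * x ^ 6) ^ 1 * (1 + (-1) * x ^ 2 + 1 * x ^ 4 + (-1) * x ^ 6 + 1 * x ^ 8) ^ 1 * (1 + (-1) * x ^ 4 + 1 * x ^ 8) ^ 1 * (1 + 1 * x ^ 1 + (-1) * x ^ 3 + (-1) * x ^ 4 + (-1) * x ^ 5 + 1 * x ^ 7 + 1 * x ^ 8) ^ 1) := by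
    refine peel (s := 1 + (-1) * x ^ 1) (t := (-1) + 1 * x ^ 3 + 1 * x ^ 5 + 1 * x ^ 7 + 1 * x ^ 9 + 1 * x ^ 11 + 1 * x ^ 13 + (-1) * x ^ 16 + 1 * x ^ 19 + 1 * x ^ 20 + 1 * x ^ 21) (a := 1 + (-1) * x ^ 1 + 1 * x ^ 3 + (-1) * x ^ 4 + 1 * x ^ 5 + (-1) * x ^ 7 + 1 * x ^ 8) (by rw [hk]; ring) 1 _ (h'.trans (dvd_of_eq ?_))
    ring
  replace h' : k ∣ (273961 : ℤ) ^ 1 * ((8 : ℤ) * (120 : ℤ) ^ 8 * (8 : ℤ) ^ 8 * (12 : ℤ) ^ 4 * (8 : ℤ) ^ 4 * (10 : ℤ) ^ 2 * (4 : ℤ) ^ 4 * (42799 : ℤ) ^ 1 * (8 : ℤ) ^ 2 * (92019 : ℤ) ^ 1 * (6 : ℤ) ^ 2 * (8 : ℤ) ^ 2 * (233017 : ℤ) ^ 1 * (7 : ℤ) ^ 1 * (1 + (-1) * x ^ 2 + 1 * x ^ 4 + (-1) * x ^ 6 + 1 * x ^ 8) ^ 1 * (1 + (-1) * x ^ 4 + 1 * x ^ 8) ^ 1 * (1 + 1 * x ^ 1 + (-1) * x ^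 3 + (-1) * x ^ 4 + (-1) * x ^ 5 + 1 * x ^ 7 + 1 * x ^ 8) ^ 1) := by
    refine peel (s := 34432 + (-29960) * x ^ 1 + (-8049) * x ^ 2 + 2552 * x ^ 3 + 1344 * x ^ 4 + (-151) * x ^ 5) (t := (-1495) + (-1344) * x ^ 1 + 33088 * x ^ 2 + 3128 * x ^ 3 + (-4921) * x ^ 4 + 32063 * x ^ 5 + 3447 * x ^ 6 + 29679 * x ^ 7 + 2271 * x ^ 8 + (-4434) * x ^ 9 + 32399 * x ^ 10 + 3783 * x ^ 11 + (-4417) * x ^ 12 + 32567 * x ^ 13 + 3951 * x ^ 14 + (-4249) * x ^ 15 + (-1697) * x ^ 16 + 34079 * x ^ 17 + 3968 * x ^ 18 + (-4081) * x ^ 19 + 32903 * x ^ 20 + 4287 * x ^ 21 + (-3913) * x ^ 22 + 33071 * x ^ 23 + 4455 * x ^ 24 + (-3745) * x ^ 25 + (-1193) * x ^ 26 + 151 * x ^ 27) (a := 1 + (-1) * x ^ 3 + 1 * x ^ 6) (by rw [hk];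 ring) 1 _ (h'.trans (dvd_of_eq ?_))
    ring
  replace h' : k ∣ (8 : ℤ) ^ 1 * ((8 : ℤ) * (120 : ℤ) ^ 8 * (8 : ℤ) ^ 8 * (12 : ℤ) ^ 4 * (8 : ℤ) ^ 4 * (10 : ℤ) ^ 2 * (4 : ℤ) ^ 4 * (42799 : ℤ) ^ 1 * (8 : ℤ) ^ 2 * (92019 : ℤ) ^ 1 * (6 : ℤ) ^ 2 * (8 : ℤ) ^ 2 * (233017 : ℤ) ^ 1 * (7 : ℤ) ^ 1 * (273961 : ℤ) ^ 1 * (1 + (-1) * x ^ 4 + 1 * x ^ 8) ^ 1 * (1 + 1 * x ^ 1 + (-1) * x ^ 3 + (-1) * x ^ 4 + (-1) * x ^ 5 + 1 * x ^ 7 + 1 * x ^ 8) ^ 1) := by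
    refine peel (s := 1 + (-1) * x ^ 1) (t := 1 * x ^ 1 + 1 * x ^ 3 + 1 * x ^ 7 + 1 * x ^ 9 + 1 * x ^ 13 + 1 * x ^ 15 + 1 * x ^ 19 + 1 * x ^ 21) (a := 1 + (-1) * x ^ 2 + 1 * x ^ 4 + (-1) * x ^ 6 + 1 * x ^ 8) (by rw [hk]; ring) 1 _ (h'.trans (dvd_of_eq ?_))
    ring
  replace h' : k ∣ (8 : ℤ) ^ 1 * ((8 : ℤ) * (120 : ℤ) ^ 8 * (8 : ℤ) ^ 8 * (12 : ℤ) ^ 4 * (8 : ℤ) ^ 4 * (10 : ℤ) ^ 2 * (4 : ℤ) ^ 4 * (42799 : ℤ) ^ 1 * (8 : ℤ) ^ 2 * (92019 : ℤ) ^ 1 * (6 : ℤ) ^ 2 * (8 : ℤ) ^ 2 * (233017 : ℤ) ^ 1 * (7 : ℤ) ^ 1 * (273961 : ℤ) ^ 1 * (8 : ℤ) ^ 1 * (1 + 1 * x ^ 1 + (-1) * x ^ 3 + (-1) * x ^ 4 + (-1) * x ^ 5 + 1 * x ^ 7 + 1 * x ^ 8) ^ 1) := by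
    refine peel (s := 1 + (-1) * x ^ 1) (t := 1 * x ^ 1 + 1 * x ^ 5 + 1 * x ^ 7 + 2 * x ^ 11 + 1 * x ^ 15 + 1 * x ^ 17 + 1 * x ^ 21) (a := 1 + (-1) * x ^ 4 + 1 * x ^ 8) (by rw [hk]; ring) 1 _ (h'.trans (dvd_of_eq ?_))
    ring
  replace h' : k ∣ (9 : ℤ) ^ 1 * ((8 : ℤ) * (120 : ℤ) ^ 8 * (8 : ℤ) ^ 8 * (12 : ℤ) ^ 4 * (8 : ℤ) ^ 4 * (10 : ℤ) ^ 2 * (4 : ℤ) ^ 4 * (42799 : ℤ) ^ 1 * (8 : ℤ) ^ 2 * (92019 : ℤ) ^ 1 * (6 : ℤ) ^ 2 * (8 : ℤ) ^ 2 * (233017 : ℤ) ^ 1 * (7 : ℤ) ^ 1 * (273961 : ℤ) ^ 1 * (8 : ℤ) ^ 1 * (8 : ℤ) ^ 1) := by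
    refine peel (s := 1 + (-1) * x ^ 1) (t := 1 + 1 * x ^ 3 + 1 * x ^ 5 + 1 * x ^ 7 + 1 * x ^ 9 + 1 * x ^ 11 + 1 * x ^ 13 + 1 * x ^ 16 + 1 * x ^ 19 + (-1) * x ^ 20 + 1 * x ^ 21) (a := 1 + 1 * x ^ 1 + (-1) * x ^ 3 + (-1) * x ^ 4 + (-1) * x ^ 5 + 1 * x ^ 7 + 1 * x ^ 8) (by rw [hk]; ring) 1 _ (h'.trans (dvd_of_eq ?_))
    ring
  have hpos : (0 : ℤ) < k ∧ (1875664684541671895145229584939430387834261233146863288320000000000 : ℤ) < k := by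
    obtain ⟨w, hw⟩ : ∃ w : ℕ, q = w + 250 := ⟨q - 250, by omega⟩
    have e1 : 1 * k = x ^ 28 + (55734087581641235381583276674166381658321403595338629910266064258 + 6018386132107973172070586880893352761321297518809123184032566007 * (w : ℤ) ^ 1 + 312909536263499545477321520379505470591644605509889083127630257 * (w : ℤ) ^ 2 + 10428766934440648316393565569032778881467100343102385004382007 * (w : ℤ) ^ 3 + 250253195337477198853426458972805991630273745857112662821257 * (w : ℤ) ^ 4 + 4603974321578575838917341508512539019224198256864632885507 * (w : ℤ) ^ 5 + 67514920883727355710185875953781387932282534226635510507 * (w : ℤ) ^ 6 + 810058657783671534366080690886929245331998644076012006 * (w : ℤ) ^ 7 + 8099383021167599305364296499772386970857337126263506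 * (w : ℤ) ^ 8 + 68384629725048984539904919252218030292439079702506 * (w : ℤ) ^ 9 + 492296202921692289093258979917744168002270638756 * (w : ℤ) ^ 10 + 3042833674350007341173271888476068225894515005 * (w : ℤ) ^ 11 + 16226036640082898280599121036712059710263005 * (w : ℤ) ^ 12 + 74878281969007541543594816145113151264004 * (w : ℤ) ^ 13 + 299468669952902801078518840578780015004 * (w : ℤ) ^ 14 + 1038003982541926270911170944525516004 * (w : ℤ) ^ 15 + 3113549870188965121813272497450254 * (w : ℤ) ^ 16 + 8057404067398598111246583888503 * (w : ℤ) ^ 17 + 17902686309138386291586259503 * (w : ℤ) ^ 18 + 33915848332558075495010002 * (w : ℤ) ^ 19 + 54257310227082388260502 * (w : ℤ) ^ 20 + 72332354133203323502 * (w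 : ℤ) ^ 21 + 78896325017255752 * (w : ℤ) ^ 22 + 68595331256001 * (w : ℤ) ^ 23 + 45723443751 * (w : ℤ) ^ 24 + 21944001 * (w : ℤ) ^ 25 + 6751 * (w : ℤ) ^ 26 + 1 * (w : ℤ) ^ 27) := by
      rw [hk, hx, hw]; push_cast; ring
    have e2 : (250 : ℤ) ^ 28 ≤ x ^ 28 := pow_le_pow_left₀ (by norm_num) (by rw [hx]; exact_mod_cast hq0) _
    have e3 : (0 : ℤ) ≤ 55734087581641235381583276674166381658321403595338629910266064258 + 6018386132107973172070586880893352761321297518809123184032566007 * (w : ℤ) ^ 1 + 312909536263499545477321520379505470591644605509889083127630257 * (w : ℤ) ^ 2 + 10428766934440648316393565569032778881467100343102385004382007 * (w : ℤ) ^ 3 + 250253195337477198853426458972805991630273745857112662821257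 * (w : ℤ) ^ 4 + 4603974321578575838917341508512539019224198256864632885507 * (w : ℤ) ^ 5 + 67514920883727355710185875953781387932282534226635510507 * (w : ℤ) ^ 6 + 810058657783671534366080690886929245331998644076012006 * (w : ℤ) ^ 7 + 8099383021167599305364296499772386970857337126263506 * (w : ℤ) ^ 8 + 68384629725048984539904919252218030292439079702506 * (w : ℤ) ^ 9 + 492296202921692289093258979917744168002270638756 * (w : ℤ) ^ 10 + 3042833674350007341173271888476068225894515005 * (w : ℤ) ^ 11 + 16226036640082898280599121036712059710263005 * (w : ℤ) ^ 12 + 74878281969007541543594816145113151264004 * (w : ℤ) ^ 13 + 299468669952902801078518840578780015004 * (w : ℤ) ^ 14 + 1038003982541926270911170944525516004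 * (w : ℤ) ^ 15 + 3113549870188965121813272497450254 * (w : ℤ) ^ 16 + 8057404067398598111246583888503 * (w : ℤ) ^ 17 + 17902686309138386291586259503 * (w : ℤ) ^ 18 + 33915848332558075495010002 * (w : ℤ) ^ 19 + 54257310227082388260502 * (w : ℤ) ^ 20 + 72332354133203323502 * (w : ℤ) ^ 21 + 78896325017255752 * (w : ℤ) ^ 22 + 68595331256001 * (w : ℤ) ^ 23 + 45723443751 * (w : ℤ) ^ 24 + 21944001 * (w : ℤ) ^ 25 + 6751 * (w : ℤ) ^ 26 + 1 * (w : ℤ) ^ 27 := by positivity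
    norm_num at e2
    constructor <;> linarith
  have := Int.le_of_dvd (by norm_num) (dvd_abs _ _ |>.2 h')
  norm_num at this
  linarith [hpos.1, hpos.2]

set_option maxRecDepth 100000 in
theorem small_check : ∀ q : Fin 250, ∀ e : Fin 9, 2 ≤ q.val → 1 ≤ e.val →
    ord' q.val % (bnd q.val - e.val) = 0 → False := by
  decide +kernel

/-- no degree just below the bound divides the group order -/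
theorem dvd_cases {q e : ℕ} (hq : IsPrimePow q) (he1 : 1 ≤ e) (he6 : e ≤ 8) (h : (bnd q - e) ∣ ord' q) :
    False := by
  rcases Nat.lt_or_ge q 250 with hlt | hge
  · exact small_check ⟨q, hlt⟩ ⟨e, by omega⟩ hq.two_le he1 (Nat.mod_eq_zero_of_dvd h)
  · exfalso
    rcases (show e = 1 ∨ e = 2 ∨ e = 3 ∨ e = 4 ∨ e = 5 ∨ e = 6 ∨ e = 7 ∨ e = 8 by omega) with rfl | rfl | rfl | rfl | rfl | rfl | rfl | rfl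
    exacts [not_dvd_1 hq hge h, not_dvd_2 hq hge h, not_dvd_3 hq hge h, not_dvd_4 hq hge h,
      not_dvd_5 hq hge h, not_dvd_6 hq hge h, not_dvd_7 hq hge h, not_dvd_8 hq hge h]

end Cfsg.Agent.E8Deg54
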