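import Cfsg.Agent.Chev54.E8Deg.Cert
import Cfsg.Agent.Chev54.E8Deg.Check1
import Cfsg.Agent.Chev54.E8Deg.Check2
import Cfsg.Agent.Chev54.E8Deg.Check3
import Cfsg.Agent.Chev54.E8Deg.Check4
import Cfsg.Agent.Chev54.E8Deg.Check5
import Cfsg.Agent.Chev54.E8Deg.Check6
import Cfsg.Agent.Chev54.RootMove.Faithful
import Cfsg.Agent.Chev54.E8Deg.Num
import Cfsg.Agent.ChevGroup.Mat.SimpleE8

/-!
The recursion in type E8: the degree is at least the bound minus eight.
-/

set_option autoImplicit false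

noncomputable section

namespace Cfsg.Agent.E8Deg54

open Cfsg.Lie Cfsg.Agent.ChevCore Cfsg.Agent.RootMove54

universe u

variable {F : Type u} [Field F] [Fintype F] {k : ℕ}

/-- the sum of the cells below a level -/
def suf (q : ℕ) : ℕ → ℕ
  | 7 => q - 1
  | 6 => lv6.total q + (q - 1)
  | 5 => lv5.total q + lv6.total q + (q - 1)
  | 4 => lv4.total q + lv5.total q + lv6.total q + (q - 1)
  | 3 => lv3.total q + lv4.total q + lv5.total q + lv6.total q + (q - 1)
  | 2 => lv2.total q + lv3.total q + lv4.total q + lv5.total q + lv6.total q + (q - 1)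
  | 1 => lv1.total q + lv2.total q + lv3.total q + lv4.total q + lv5.total q + lv6.total q + (q - 1)
  | _ => 0

theorem chain_total (q : ℕ) (hq : 2 ≤ q) :
    bnd q ≤ (q - 1) * q ^ 28 + lv0.total q + suf q 1 + 8 := by
  obtain ⟨w, rfl⟩ : ∃ w, q = w + 2 := ⟨q - 2, by omega⟩
  simp [bnd, suf, Lev.total, lv0, lv1, lv2, lv3, lv4, lv5, lv6]
  ring_nf
  omega

theorem lv0_two (q : ℕ) (hq : 2 ≤ q) : bnd q ≤ (q - 1) * q ^ 28 + 2 * lv0.total q := by
  obtain ⟨w, rfl⟩ : ∃ w, q = w + 2 := ⟨q - 2, by omega⟩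
  simp [bnd, Lev.total, lv0]
  ring_nf
  omega

theorem lv0_big (q : ℕ) (hq : 2 ≤ q) : bnd q ≤ q ^ (lv0.kill.length + lv0.resd) := by
  obtain ⟨w, rfl⟩ : ∃ w, q = w + 2 := ⟨q - 2, by omega⟩
  simp [bnd, lv0]
  ring_nf
  omega

theorem lv1_big (q : ℕ) (hq : 2 ≤ q) : suf q 1 ≤ q ^ (lv1.kill.length + lv1.resd) := by
  obtain ⟨w, rfl⟩ : ∃ w, q = w + 2 := ⟨q - 2, by omega⟩
  simp [suf, Lev.total, lv1, lv2, lv3, lv4, lv5, lv6]
  ring_nf
  omega

theorem lv2_big (q : ℕ) (hq : 2 ≤ q) : suf q 2 ≤ q ^ (lv2.kill.length + lv2.resd) := by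
  obtain ⟨w, rfl⟩ : ∃ w, q = w + 2 := ⟨q - 2, by omega⟩
  simp [suf, Lev.total, lv2, lv3, lv4, lv5, lv6]
  ring_nf
  omega

theorem lv3_big (q : ℕ) (hq : 2 ≤ q) : suf q 3 ≤ q ^ (lv3.kill.length + lv3.resd) := by
  obtain ⟨w, rfl⟩ : ∃ w, q = w + 2 := ⟨q - 2, by omega⟩
  simp [suf, Lev.total, lv3, lv4, lv5, lv6]
  ring_nf
  omega

theorem path_head {L : Lev chevE8} (hL : L.check = true) {r r' c d : Rt chevE8}
    {l : List (Rt chevE8 × Rt chevE8 × Rt chevE8 × Rt chevE8)} (hp : L.path = (r, r', c, d) :: l) :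
    Ctx.pathB L.P [L.w0] ((r, r', L.w0, d) :: l) = true := by
  simp only [Lev.check, Bool.and_eq_true] at hL
  obtain ⟨⟨⟨⟨⟨-, h⟩, -⟩, -⟩, -⟩, -⟩ := hL
  rw [hp] at h
  have hc : c = L.w0 := by
    simp only [Ctx.pathB, Bool.and_eq_true, decide_eq_true_eq, List.mem_singleton] at h
    exact h.1.1.1
  rwa [hc] at h

variable (C : Ctx chevE8 F k)

/-- standing assumptions: a nontrivial irreducible representation of degree below the bound -/
structure Small : Prop where
  irr : C.ρ.IsIrreducible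
  two : 2 ≤ k
  lt : k < bnd (Fintype.card F)

namespace Small

variable {C} (h : Small C)

include h

theorem q2 (_h : Small C := h) : 2 ≤ Fintype.card F := Fintype.one_lt_card

theorem center_lower : C.mf [zr] (fun _ => (0 : F)) + (Fintype.card F - 1) * Fintype.card F ^ 28 ≤ k ∧
    1 ≤ C.mf [a8, zr] (dlt a8 (1 : F)) := by
  classical
  obtain ⟨hst, hsp, hmap⟩ := trans_cert
  obtain ⟨ea, ec, eS⟩ := halfZ_shape
  obtain ⟨m, hm1, hm2, -, hm4⟩ := C.half_spec halfZ_check
  have eP : halfZ.P = [a8, zr] := by simp only [Half.P, ea, ec, eS]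
  rw [eS, ec] at hm1
  rw [eP, ea] at hm2
  rw [eS, eP, C.mf_nil] at hm4
  have hlt : C.mf [a8, zr] (fun _ => (0 : F)) < k :=
    C.mf_lt_of_moved (C.move_root (Cfsg.Agent.ChevGroup.TypeE8.isSimple F).1 h.irr h.two a8)
      List.mem_cons_self
  have hm : 1 ≤ m := by
    rcases Nat.eq_zero_or_pos m with h0 | h0
    · rw [h0, mul_zero, add_zero] at hm4; omega
    · exact h0
  refine ⟨?_, by rw [hm2 1 one_ne_zero]; exact hm⟩
  have big : ∀ t : F, t ≠ 0 → Fintype.card F ^ 28 ≤ C.mf [zr] (dlt zr t) := by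
    intro t ht
    obtain ⟨g, hg, hg1⟩ : ∃ g : Rt chevE8 → F, g zr = t ∧ 1 ≤ C.mf (half28 ++ [zr]) g := by
      by_contra hne
      push Not at hne
      have := C.split_upper (trans28.map Prod.snd) [zr] (dlt zr t) hsp
        (fun z hz => absurd hz List.not_mem_nil) 0 fun g hg => by
          rw [hmap]
          exact Nat.lt_one_iff.1 (hne g (by rw [hg zr List.mem_cons_self, dlt_self])) |>.le
      rw [hm1 t ht, mul_zero] at this
      have := Nat.mul_pos (Fintype.card_pos (α := F)) hm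
      omega
    have := C.cell_bound (P' := [zr]) (c0 := 1) hsp hst
      (by decide +kernel) (by decide +kernel)
      (fun z hz => absurd hz List.not_mem_nil) (fun z hz => absurd hz List.not_mem_nil)
      (by rw [hg]; exact ht) hg1
    rw [mul_one, show trans28.length = 28 by decide +kernel] at this
    refine this.trans (le_of_eq (C.mf_congr (fun _ => Iff.rfl) fun s hs => ?_))
    obtain rfl := List.mem_singleton.1 hs
    rw [hg, dlt_self]
  have hk := C.split_one (Z := []) (P := []) (r := zr) (Rs := []) (by decide +kernel)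
    (f := fun _ => (0 : F)) (fun z hz => absurd hz List.not_mem_nil)
  rw [C.mf_nil, ← Finset.add_sum_erase _ _ (Finset.mem_univ (0 : F)),
    show Function.update (fun _ => (0 : F)) zr 0 = (fun _ => (0 : F)) from
      Function.update_eq_self zr (fun _ => (0 : F))] at hk
  refine le_of_le_of_eq (Nat.add_le_add_left ?_ _) hk.symm
  calc _ = ∑ _a ∈ (Finset.univ : Finset F).erase 0, Fintype.card F ^ 28 := by
        rw [Finset.sum_const, Finset.card_erase_of_mem (Finset.mem_univ _), Finset.card_univ, smul_eq_mul]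
    _ ≤ _ := Finset.sum_le_sum fun a ha => big a (Finset.mem_erase.1 ha).1

theorem lv0_moved : C.mf lv0.P (fun _ => (0 : F)) < C.mf lv0.prior (fun _ => 0) := by
  obtain ⟨ha, hz, hpr, -⟩ := lv0_mem
  obtain ⟨-, h1⟩ := h.center_lower
  obtain ⟨x, hx, hx0⟩ := Submodule.exists_mem_ne_zero_of_ne_bot (Submodule.one_le_finrank_iff.1 h1)
  by_contra hle
  push Not at hle
  have heq := Submodule.eq_of_le_of_finrank_le
    (C.eig_mono (f := fun _ => (0 : F)) (g := fun _ => (0 : F)) (P := lv0.prior) (P' := lv0.P)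
      fun x hx => ⟨List.mem_append_right _ hx, rfl⟩) hle
  have hx' : x ∈ C.eig lv0.prior (fun _ => (0 : F)) := by
    rw [hpr]
    refine C.eig_mono (fun s hs => ⟨List.mem_cons_of_mem _ hs, ?_⟩) hx
    obtain rfl := List.mem_singleton.1 hs
    exact dlt_ne (by decide +kernel) 1
  rw [← heq] at hx'
  obtain ⟨y, hy⟩ : ∃ y, C.ψ (1 * y) ≠ 1 := by
    by_contra hall
    push Not at hall
    exact C.hψ one_ne_zero (DFunLike.ext _ _ fun y => by simpa using hall y)
  have e1 := hx a8 List.mem_cons_self y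
  rw [hx' a8 ha y, dlt_self, zero_mul, AddChar.map_zero_eq_one, one_smul] at e1
  refine hy (sub_eq_zero.1 ((smul_eq_zero.1 (?_ : (C.ψ (1 * y) - 1) • x = 0)).resolve_right hx0))
  rw [sub_smul, one_smul, ← e1, sub_self]

theorem lv0_step :
    C.mf lv0.P (fun _ => (0 : F)) + lv0.total (Fintype.card F) ≤ C.mf [zr] (fun _ => 0) ∧
      ∀ b : F, b ≠ 0 → C.mf lv0.P (dlt a8 b) = 1 := by
  obtain ⟨-, -, hpr, hpne⟩ := lv0_mem
  obtain ⟨f, hf0, hf1, hf2⟩ := C.exists_gen lv0_check h.lv0_moved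
  have hk := h.center_lower.1
  have hlt := h.lt
  have hq := h.q2
  rcases C.normal_form lv0_check hf0 hf1 hf2 with ⟨-, hb⟩ | ⟨t, ht, ht1⟩
  · exfalso
    rw [mul_one, hpr] at hb
    have := lv0_big _ hq
    omega
  rcases hpath : lv0.path with _ | ⟨⟨r, r', c, d⟩, l⟩
  · exact absurd hpath hpne
  have hp := path_head lv0_check hpath
  have h1 := C.cells_bound lv0_check lv0_fst (c0 := 1) fun b hb => C.rescale hp ht ht1 hb
  rw [one_mul, hpr] at h1
  refine ⟨h1, fun b hb => le_antisymm ?_ (C.rescale hp ht ht1 hb)⟩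
  by_contra h2
  have h2' : 2 ≤ C.mf lv0.P (dlt lv0.w0 b) := by
    show 2 ≤ C.mf lv0.P (dlt a8 b); omega
  have := C.cells_bound lv0_check lv0_fst (c0 := 2) fun b' hb' => C.rescale hp hb h2' hb'
  rw [hpr] at this
  have := lv0_two _ hq
  omega

theorem exists_v {b : F} (hb : b ≠ 0) : ∃ v : Fin k → ℂ, v ≠ 0 ∧ v ∈ C.eig pos (dlt a8 b) := by
  obtain ⟨v, hv0, hv⟩ := finrank_eq_one_iff'.1 (h.lv0_step.2 b hb)
  refine ⟨v, fun e => hv0 (Subtype.ext e), fun s hs u => ?_⟩
  have hc := List.all_eq_true.1 pos_cover s hs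
  simp only [Bool.or_eq_true, Bool.and_eq_true, decide_eq_true_eq] at hc
  rcases hc with hs' | ⟨hne, hs'⟩
  · exact v.2 s hs' u
  rw [dlt_ne hne, zero_mul, AddChar.map_zero_eq_one, one_smul]
  obtain ⟨⟨b', r, s'⟩, he, rfl⟩ := List.mem_map.1 hs'
  have := List.all_eq_true.1 stab_cert _ he
  simp only [Bool.and_eq_true, List.all_eq_true] at this
  obtain ⟨⟨⟨⟨hr, hs2⟩, hent⟩, hfr⟩, hfs⟩ := this
  rcases e : ent chevE8 r s' with _ | ⟨c, z⟩
  · rw [e] at hent; simp at hent
  rw [e] at hent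
  obtain rfl : c = b' := of_decide_eq_true hent
  have scal : ∀ x : Rt chevE8, Ctx.stableB lv0.P x = true →
      (∀ y ∈ lv0.P, (match ent chevE8 x y with | none => true | some (c, _) => decide (c ≠ a8)) = true) →
      ∀ t, ∃ l : ℂ, C.ρ (X C.hS x t) (v : Fin k → ℂ) = l • (v : Fin k → ℂ) := by
    intro x hx hfx t
    have hm := C.inv_of_fix hx (f := dlt a8 b) (fun t y hy => by
      have := hfx y hy
      rcases ey : ent chevE8 x y with _ | ⟨c', z'⟩
      · exact Ctx.mvf_none ey t _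
      · rw [ey] at this
        rw [Ctx.mvf_some ey, dlt_ne (of_decide_eq_true this), mul_zero, neg_zero, add_zero]) t v.2
    obtain ⟨l, hl⟩ := hv ⟨_, hm⟩
    exact ⟨l, (congrArg Subtype.val hl).symm⟩
  exact C.fix_of_scalar e (scal r hr hfr) (scal s' hs2 hfs) u

/-- every simple root of the chain is moved by the fixed space of the other positive roots -/
theorem gap : ∀ b ∈ a8 :: edges.map (fun e => e.2.a),
    C.mf pos (fun _ => (0 : F)) + (Fintype.card F - 1) ≤ C.mf (wo b) (fun _ => 0) := by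
  classical
  obtain ⟨hsp, ha⟩ := base_split
  have base : C.mf pos (fun _ => (0 : F)) + (Fintype.card F - 1) ≤ C.mf (wo a8) (fun _ => 0) := by
    have hcg : ∀ g : Rt chevE8 → F, C.mf (a8 :: wo a8) g = C.mf pos g := fun g =>
      C.mf_congr (fun x => by
        simp only [wo, List.mem_cons, List.mem_filter, decide_eq_true_eq]
        by_cases hx : x = a8
        · subst hx; simp [ha]
        · simp [hx]) fun _ _ => rfl
    rw [C.split_one hsp (fun _ _ => rfl), ← Finset.add_sum_erase _ _ (Finset.mem_univ (0 : F)),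
      show Function.update (fun _ => (0 : F)) a8 0 = (fun _ => (0 : F)) from
        Function.update_eq_self a8 (fun _ => (0 : F)), hcg]
    refine Nat.add_le_add_left ?_ _
    calc Fintype.card F - 1 = ∑ _a ∈ (Finset.univ : Finset F).erase 0, 1 := by
          rw [Finset.sum_const, Finset.card_erase_of_mem (Finset.mem_univ _), Finset.card_univ, smul_eq_mul,
            mul_one]
      _ ≤ _ := Finset.sum_le_sum fun a hmem => by
          rw [hcg]
          obtain ⟨v, hv0, hv⟩ := h.exists_v (Finset.mem_erase.1 hmem).1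
          exact Submodule.one_le_finrank_iff.2 fun e => hv0 (by
            have hv' : v ∈ C.eig pos (Function.update (fun _ => (0 : F)) a8 a) := hv
            rw [e] at hv'
            exact (Submodule.mem_bot ℂ).1 hv')
  have step : ∀ e ∈ edges, C.mf (wo e.1.a) (fun _ => (0 : F)) = C.mf (wo e.2.a) (fun _ => 0) := by
    intro e he
    have hc := List.all_eq_true.1 edge_cert e he
    simp only [Bool.and_eq_true, decide_eq_true_eq, List.all_eq_true] at hc
    obtain ⟨⟨⟨⟨⟨⟨⟨h1, h2⟩, hcc⟩, hS⟩, ha1⟩, ha2⟩, hb1⟩, hb2⟩ := hc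
    have := C.pair_fix_eq h1 h2 hcc.symm hS.symm
    rw [C.mf_congr (P' := e.2.P) (g := fun _ => (0 : F)) (fun s => ⟨hb1 s, hb2 s⟩) fun _ _ => rfl,
      C.mf_congr (P := wo e.2.a) (P' := e.1.P) (g := fun _ => (0 : F)) (fun s => ⟨ha1 s, ha2 s⟩) fun _ _ => rfl]
    exact this.symm
  have olds : ∀ i : Fin 7, (edges.get ⟨i.val, i.isLt⟩).1.a =
      ([a8, (newH0).a, (newH1).a, (newH2).a, (newH3).a, (newH3).a, (newH5).a].get ⟨i.val, i.isLt⟩) := by
    decide +kernel
  have g0 : C.mf pos (fun _ => (0 : F)) + (Fintype.card F - 1) ≤ C.mf (wo newH0.a) (fun _ => 0) :=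
    base.trans_eq ((congrArg (fun r => C.mf (wo r) (fun _ => (0 : F))) (olds 0).symm).trans
      (step (oldH0, newH0) (by simp [edges])))
  have g1 := g0.trans_eq ((congrArg (fun r => C.mf (wo r) (fun _ => (0 : F))) (olds 1).symm).trans
      (step (oldH1, newH1) (by simp [edges])))
  have g2 := g1.trans_eq ((congrArg (fun r => C.mf (wo r) (fun _ => (0 : F))) (olds 2).symm).trans
      (step (oldH2, newH2) (by simp [edges])))
  have g3 := g2.trans_eq ((congrArg (fun r => C.mf (wo r) (fun _ => (0 : F))) (olds 3).symm).trans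
      (step (oldH3, newH3) (by simp [edges])))
  have g4 := g3.trans_eq ((congrArg (fun r => C.mf (wo r) (fun _ => (0 : F))) (olds 4).symm).trans
      (step (oldH4, newH4) (by simp [edges])))
  have g5 := g3.trans_eq ((congrArg (fun r => C.mf (wo r) (fun _ => (0 : F))) (olds 5).symm).trans
      (step (oldH5, newH5) (by simp [edges])))
  have g6 := g5.trans_eq ((congrArg (fun r => C.mf (wo r) (fun _ => (0 : F))) (olds 6).symm).trans
      (step (oldH6, newH6) (by simp [edges])))
  intro b hb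
  simp only [edges, List.map_cons, List.map_nil, List.mem_cons, List.not_mem_nil, or_false] at hb
  rcases hb with rfl | rfl | rfl | rfl | rfl | rfl | rfl | rfl
  exacts [base, g0, g1, g2, g3, g4, g5, g6]

theorem level_bound {L : Lev chevE8} (hL : L.check = true) (hfst : L.cells.map Prod.fst = L.R)
    (hmem : L ∈ [lv1, lv2, lv3, lv4, lv5, lv6, lv7]) (hw : L.w0 ∈ a8 :: edges.map (fun e => e.2.a))
    (hpne : L.path ≠ []) :
    (L.res ≠ [] ∧ Fintype.card F ^ (L.kill.length + L.resd) ≤ C.mf L.prior (fun _ => (0 : F))) ∨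
      C.mf L.P (fun _ => (0 : F)) + L.total (Fintype.card F) ≤ C.mf L.prior (fun _ => 0) := by
  have hc := List.all_eq_true.1 lev_cert L hmem
  simp only [levOK, Bool.and_eq_true, decide_eq_true_eq, List.all_eq_true] at hc
  obtain ⟨⟨hwR, hsub⟩, -⟩ := hc
  have hgap := h.gap L.w0 hw
  have hq := h.q2
  have hmoved : C.mf L.P (fun _ => (0 : F)) < C.mf L.prior (fun _ => 0) := by
    by_contra hle
    push Not at hle
    have heq := Submodule.eq_of_le_of_finrank_le
      (C.eig_mono (f := fun _ => (0 : F)) (g := fun _ => (0 : F)) (P := L.prior) (P' := L.P)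
        fun x hx => ⟨List.mem_append_right _ hx, rfl⟩) hle
    have hle2 : C.eig (wo L.w0) (fun _ => (0 : F)) ≤ C.eig pos (fun _ => 0) := by
      intro x hx s hs u
      by_cases hsw : s = L.w0
      · have hx' : x ∈ C.eig L.prior (fun _ => (0 : F)) :=
          C.eig_mono (fun y hy => ⟨hsub y hy, rfl⟩) hx
        rw [← heq] at hx'
        exact hx' s (hsw ▸ List.mem_append_left _ hwR) u
      · exact hx s (List.mem_filter.2 ⟨hs, decide_eq_true hsw⟩) u
    have h2 : C.mf (wo L.w0) (fun _ => (0 : F)) ≤ C.mf pos (fun _ => 0) := Submodule.finrank_mono hle2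
    omega
  obtain ⟨f, hf0, hf1, hf2⟩ := C.exists_gen hL hmoved
  rcases C.normal_form hL hf0 hf1 hf2 with ⟨h1, h2⟩ | ⟨t, ht, ht1⟩
  · exact Or.inl ⟨h1, by rwa [mul_one] at h2⟩
  right
  rcases hpath : L.path with _ | ⟨⟨r, r', c, d⟩, l⟩
  · exact absurd hpath hpne
  have hp := path_head hL hpath
  simpa using C.cells_bound hL hfst (c0 := 1) fun b hb => C.rescale hp ht ht1 hb

/-- the degree is at most eight below the bound -/
theorem lower : bnd (Fintype.card F) ≤ k + 8 := by
  have hq := h.q2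
  have h0 := h.lv0_step.1
  have hk := h.center_lower.1
  have h7 : Fintype.card F - 1 ≤ C.mf lv7.prior (fun _ => (0 : F)) := by
    have hg := h.gap lv7.w0 (by decide +kernel)
    have hl := last_cert
    simp only [Bool.and_eq_true, decide_eq_true_eq, List.all_eq_true] at hl
    rw [C.mf_congr (P' := lv7.prior) (g := fun _ => (0 : F)) (fun s => ⟨hl.1 s, hl.2 s⟩) fun _ _ => rfl] at hg
    omega
  have h6 := (h.level_bound lv6_check lv6_fst (by simp) (by decide +kernel) (by decide +kernel)).resolve_left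
    fun e => e.1 rfl
  have h5 := (h.level_bound lv5_check lv5_fst (by simp) (by decide +kernel) (by decide +kernel)).resolve_left
    fun e => e.1 rfl
  have h4 := (h.level_bound lv4_check lv4_fst (by simp) (by decide +kernel) (by decide +kernel)).resolve_left
    fun e => e.1 rfl
  have h3 := h.level_bound lv3_check lv3_fst (by simp) (by decide +kernel) (by decide +kernel)
  have h2 := h.level_bound lv2_check lv2_fst (by simp) (by decide +kernel) (by decide +kernel)
  have h1 := h.level_bound lv1_check lv1_fst (by simp) (by decide +kernel) (by decide +kernel)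
  have e01 : C.mf lv0.P (fun _ => (0 : F)) = C.mf lv1.prior (fun _ => 0) := rfl
  have e12 : C.mf lv1.P (fun _ => (0 : F)) = C.mf lv2.prior (fun _ => 0) := rfl
  have e23 : C.mf lv2.P (fun _ => (0 : F)) = C.mf lv3.prior (fun _ => 0) := rfl
  have e34 : C.mf lv3.P (fun _ => (0 : F)) = C.mf lv4.prior (fun _ => 0) := rfl
  have e45 : C.mf lv4.P (fun _ => (0 : F)) = C.mf lv5.prior (fun _ => 0) := rfl
  have e56 : C.mf lv5.P (fun _ => (0 : F)) = C.mf lv6.prior (fun _ => 0) := rfl
  have e67 : C.mf lv6.P (fun _ => (0 : F)) = C.mf lv7.prior (fun _ => 0) := rfl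
  have b1 := lv1_big _ hq
  have b2 := lv2_big _ hq
  have b3 := lv3_big _ hq
  have t := chain_total _ hq
  simp only [suf] at b1 b2 b3 t
  have s3 : suf (Fintype.card F) 3 ≤ C.mf lv3.prior (fun _ => (0 : F)) := by
    simp only [suf]
    rcases h3 with ⟨-, h3⟩ | h3 <;> omega
  simp only [suf] at s3
  have s2 : suf (Fintype.card F) 2 ≤ C.mf lv2.prior (fun _ => (0 : F)) := by
    simp only [suf]
    rcases h2 with ⟨-, h2⟩ | h2 <;> omega
  simp only [suf] at s2
  have s1 : suf (Fintype.card F) 1 ≤ C.mf lv1.prior (fun _ => (0 : F)) := by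
    simp only [suf]
    rcases h1 with ⟨-, h1⟩ | h1 <;> omega
  simp only [suf] at s1
  omega

end Small

end Cfsg.Agent.E8Deg54
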